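import Groth.Agent.PP16Lib.CompletionEquiv
import Mathlib.RingTheory.AdicCompletion.Completeness
import Mathlib.LinearAlgebra.Dimension.Constructions

/-!
# Power series rings over a field: maximal ideal, completeness, dimension, linear coefficients
-/

universe u

open IsLocalRing

namespace Groth.Agent.ComplDeriv

variable (n : ℕ) (K : Type u) [Field K]

theorem span_X_eq_maximalIdeal : Ideal.span (Set.range (MvPowerSeries.X : Fin n → MvPowerSeries (Fin n) K)) =
    maximalIdeal (MvPowerSeries (Fin n) K) := by
  refine le_antisymm (Ideal.span_le.mpr ?_) fun x hx => PP16Lib.ker_constantCoeff n K x ?_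
  · rintro _ ⟨i, rfl⟩
    rw [SetLike.mem_coe, IsLocalRing.mem_maximalIdeal, mem_nonunits_iff, MvPowerSeries.isUnit_iff_constantCoeff]
    simp
  · by_contra h
    exact hx (MvPowerSeries.isUnit_iff_constantCoeff.mpr (isUnit_iff_ne_zero.mpr h))

theorem isAdicComplete_powerSeries :
    IsAdicComplete (maximalIdeal (MvPowerSeries (Fin n) K)) (MvPowerSeries (Fin n) K) :=
  span_X_eq_maximalIdeal n K ▸ inferInstance

theorem constantCoeff_eq_zero_of_mem {y : MvPowerSeries (Fin n) K}
    (hy : y ∈ maximalIdeal (MvPowerSeries (Fin n) K)) : MvPowerSeries.constantCoeff y = 0 := by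
  rwa [IsLocalRing.mem_maximalIdeal, mem_nonunits_iff, MvPowerSeries.isUnit_iff_constantCoeff,
    isUnit_iff_ne_zero, not_not] at hy

/-- Linear coefficients vanish on the square of the maximal ideal. -/
theorem coeff_single_eq_zero_of_mem_sq {y : MvPowerSeries (Fin n) K}
    (hy : y ∈ maximalIdeal (MvPowerSeries (Fin n) K) ^ 2) (i : Fin n) :
    MvPowerSeries.coeff (Finsupp.single i 1) y = 0 := by
  rw [pow_two] at hy
  refine Submodule.mul_induction_on hy (fun a ha b hb => ?_) fun a b ha hb => by rw [map_add, ha, hb, add_zero]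
  rw [MvPowerSeries.coeff_mul, Finset.sum_eq_zero]
  rintro ⟨u, v⟩ huv
  rw [Finset.HasAntidiagonal.mem_antidiagonal] at huv
  have ha' := constantCoeff_eq_zero_of_mem n K ha
  have hb' := constantCoeff_eq_zero_of_mem n K hb
  by_cases hu : u = 0
  · simp [hu, MvPowerSeries.coeff_zero_eq_constantCoeff_apply, ha']
  · have hv : v = 0 := by
      ext j
      obtain ⟨l, hl⟩ := Finsupp.ne_iff.mp hu
      have h := DFunLike.congr_fun huv j
      have hl' := DFunLike.congr_fun huv l
      simp only [Finsupp.add_apply, Finsupp.coe_zero, Pi.zero_apply] at h hl hl' ⊢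
      rcases eq_or_ne l i with rfl | hli
      · rcases eq_or_ne j l with rfl | hjl
        · rw [Finsupp.single_eq_same] at h; omega
        · rw [Finsupp.single_eq_of_ne hjl] at h; omega
      · rw [Finsupp.single_eq_of_ne hli] at hl'; omega
    simp [hv, MvPowerSeries.coeff_zero_eq_constantCoeff_apply, hb']

theorem coeff_single_X (i j : Fin n) :
    MvPowerSeries.coeff (Finsupp.single i 1) (MvPowerSeries.X j : MvPowerSeries (Fin n) K) =
      if i = j then 1 else 0 := by
  classical
  rw [MvPowerSeries.coeff_X]
  simp [Finsupp.single_left_inj]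

/-- The first-order Leibniz rule for linear coefficients. -/
theorem coeff_single_mul (x y : MvPowerSeries (Fin n) K) (i : Fin n) :
    MvPowerSeries.coeff (Finsupp.single i 1) (x * y) =
      MvPowerSeries.constantCoeff x * MvPowerSeries.coeff (Finsupp.single i 1) y +
      MvPowerSeries.constantCoeff y * MvPowerSeries.coeff (Finsupp.single i 1) x := by
  have hm : ∀ z : MvPowerSeries (Fin n) K,
      z - MvPowerSeries.C (MvPowerSeries.constantCoeff z) ∈ maximalIdeal (MvPowerSeries (Fin n) K) := fun z => by
    rw [IsLocalRing.mem_maximalIdeal, mem_nonunits_iff, MvPowerSeries.isUnit_iff_constantCoeff]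
    simp
  have h2 : MvPowerSeries.coeff (Finsupp.single i 1) ((x - MvPowerSeries.C (MvPowerSeries.constantCoeff x)) *
      (y - MvPowerSeries.C (MvPowerSeries.constantCoeff y))) = 0 :=
    coeff_single_eq_zero_of_mem_sq n K (by rw [pow_two]; exact Ideal.mul_mem_mul (hm x) (hm y)) i
  rw [sub_mul, mul_sub, mul_sub, map_sub, map_sub, map_sub, MvPowerSeries.coeff_C_mul, MvPowerSeries.coeff_mul_C,
    ← map_mul MvPowerSeries.C, MvPowerSeries.coeff_C, if_neg (by simp)] at h2
  linear_combination h2

theorem ringKrullDim_powerSeries : ringKrullDim (MvPowerSeries (Fin n) K) = (n : WithBot ℕ∞) := by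
  classical
  let S := MvPowerSeries (Fin n) K
  let R := ResidueField S
  have hX : ∀ i, (MvPowerSeries.X i : S) ∈ maximalIdeal S :=
    fun i => span_X_eq_maximalIdeal n K ▸ Ideal.subset_span ⟨i, rfl⟩
  let c : Fin n → CotangentSpace S := fun i => (maximalIdeal S).toCotangent ⟨MvPowerSeries.X i, hX i⟩
  have hli : LinearIndependent R c := by
    rw [Fintype.linearIndependent_iff]
    intro g hg j
    choose a ha using fun i => residue_surjective (R := S) (g i)
    have h : (maximalIdeal S).toCotangent (∑ i, a i • ⟨MvPowerSeries.X i, hX i⟩) = 0 := by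
      rw [map_sum, ← hg]
      refine Finset.sum_congr rfl fun i _ => ?_
      rw [map_smul, ← ha i]
      exact (algebraMap_smul R (a i) _).symm
    rw [Ideal.toCotangent_eq_zero] at h
    have h' := coeff_single_eq_zero_of_mem_sq n K h j
    simp only [AddSubmonoidClass.coe_finsetSum, SetLike.val_smul, smul_eq_mul, map_sum] at h'
    rw [Finset.sum_eq_single j (fun i _ hij => by
      rw [coeff_single_mul, coeff_single_X, if_neg hij.symm]; simp) (by simp),
      coeff_single_mul, coeff_single_X, if_pos rfl, MvPowerSeries.constantCoeff_X, zero_mul, add_zero,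
      mul_one] at h'
    rw [← ha j, residue_eq_zero_iff, IsLocalRing.mem_maximalIdeal, mem_nonunits_iff,
      MvPowerSeries.isUnit_iff_constantCoeff, h']
    exact not_isUnit_zero
  have hreg := PP16Lib.isRegularLocalRing_mvPowerSeries n K
  rw [← (IsRegularLocalRing.iff_finrank_cotangentSpace S).mp hreg]
  norm_cast
  refine le_antisymm ?_ (by simpa using hli.fintype_card_le_finrank)
  have htop : Submodule.span R (Set.range c) = ⊤ := by
    rw [eq_top_iff]
    intro z _
    obtain ⟨⟨y, hy⟩, rfl⟩ := Ideal.toCotangent_surjective _ z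
    have hy' : y ∈ Ideal.span (Set.range (MvPowerSeries.X : Fin n → S)) := (span_X_eq_maximalIdeal n K).symm ▸ hy
    obtain ⟨a, ha⟩ := Ideal.mem_span_range_iff_exists_fun.mp hy'
    have : (⟨y, hy⟩ : maximalIdeal S) = ∑ i, a i • ⟨MvPowerSeries.X i, hX i⟩ := Subtype.ext (by simp [ha.symm])
    rw [this, map_sum]
    refine Submodule.sum_mem _ fun i _ => ?_
    rw [map_smul, ← algebraMap_smul R (a i)]
    exact Submodule.smul_mem _ _ (Submodule.subset_span ⟨i, rfl⟩)
  calc Module.finrank R (CotangentSpace S) = Module.finrank R (⊤ : Submodule R (CotangentSpace S)) :=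
        (finrank_top (R := R) (M := CotangentSpace S)).symm
    _ ≤ n := by rw [← htop]; exact (finrank_range_le_card (R := R) c).trans_eq (Fintype.card_fin n)

end Groth.Agent.ComplDeriv
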