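import Groth.Agent.ComplDeriv.GeomRegRank

/-!
# The fibre of `Ω̂` at a regular point, residue characteristic zero
-/

universe u

open IsLocalRing TensorProduct

namespace Groth.Agent.ComplDeriv

variable (k A : Type u) [Field k] [CharZero k] [CommRing A] [IsLocalRing A] [IsNoetherianRing A] [Algebra k A]
  [IsAdicComplete (maximalIdeal A) A] [Module.Finite k (ResidueField A)]

theorem finrank_fibre_le_charZero (P : Ideal A) [P.IsPrime] [IsRegularLocalRing (Localization.AtPrime P)]
    (e : ℕ) (he : ringKrullDim (A ⧸ P) = e) :
    (Module.finrank P.ResidueField (P.ResidueField ⊗[A] Om k A) : WithBot ℕ∞) ≤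
      ringKrullDim (Localization.AtPrime P) + e := by
  classical
  let S := Localization.AtPrime P
  let B := A ⧸ P
  obtain ⟨hlB, hcB, hfB⟩ := quotient_data k A P
  have : IsAdicComplete (maximalIdeal B) B := hcB
  have : Module.Finite k (ResidueField B) := hfB
  have hfinOm := (exists_finite_gen k A).1
  -- parameters of `A ⧸ P`
  obtain ⟨e', f, he', hinj, hfin, hfC⟩ := exists_finite_injective_powerSeries k B
  have hee : e' = e := by exact_mod_cast he'.symm.trans he
  subst hee
  let R := MvPowerSeries (Fin e') k
  have : IsDomain R := NoZeroDivisors.to_isDomain _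
  let _ : Algebra R B := f.toAlgebra
  have : Module.Finite R B := hfin
  have : IsScalarTower k R B := IsScalarTower.of_algebraMap_eq fun c => (hfC c).symm
  have hloc : IsLocalHom (algebraMap R B) := RingHom.IsIntegral.isLocalHom
    (RingHom.Finite.to_isIntegral (RingHom.finite_algebraMap.mpr (inferInstance : Module.Finite R B))) hinj
  have hu : Algebra.IsUnramifiedAt R (⊥ : Ideal B) := by
    let L := Localization.AtPrime (⊥ : Ideal B)
    let F := FractionRing R
    have hL : IsFractionRing B L := by
      have h : (⊥ : Ideal B).primeCompl = nonZeroDivisors B :=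
        Submonoid.ext fun x => by simp [Ideal.primeCompl, mem_nonZeroDivisors_iff_ne_zero]
      change IsLocalization (nonZeroDivisors B) L
      rw [← h]
      infer_instance
    let _ : Field L := IsFractionRing.toField B
    have hRL : Function.Injective (algebraMap R L) := by
      rw [IsScalarTower.algebraMap_eq R B L]
      exact (IsFractionRing.injective B L).comp hinj
    have : FaithfulSMul R L := (faithfulSMul_iff_algebraMap_injective R L).mpr hRL
    let _ : Algebra F L := FractionRing.liftAlgebra R L
    have : IsScalarTower R F L := FractionRing.isScalarTower_liftAlgebra R L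
    have : Algebra.IsAlgebraic F L := by
      refine ⟨fun y => ?_⟩
      obtain ⟨a, b, _, rfl⟩ := IsFractionRing.div_surjective (A := B) y
      have hB : Algebra.IsIntegral R B := Algebra.IsIntegral.of_finite R B
      have h : ∀ c : B, IsAlgebraic F (algebraMap B L c) := fun c =>
        (((Algebra.IsIntegral.isIntegral (R := R) c).map (IsScalarTower.toAlgHom R B L)).tower_top).isAlgebraic
      rw [div_eq_mul_inv]
      exact (h a).mul (h b).inv
    have hk0 : CharZero R := charZero_of_injective_algebraMap (algebraMap k R).injective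
    have : CharZero F := charZero_of_injective_algebraMap (IsFractionRing.injective R F)
    have : Algebra.IsSeparable F L := Algebra.IsAlgebraic.isSeparable_of_perfectField
    have : Algebra.FormallyUnramified R F := Algebra.FormallyUnramified.of_isLocalization (nonZeroDivisors R)
    have : Algebra.EssFiniteType F L := Algebra.EssFiniteType.of_comp R F L
    have : Algebra.FormallyUnramified F L := Algebra.FormallyUnramified.of_isSeparable F L
    exact Algebra.FormallyUnramified.comp R F L
  have hB := span_of_unramified k B (⊥ : Ideal B) (m := e')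
  obtain ⟨t, ht⟩ : ∃ t : Fin e' → A, ∀ i, Ideal.Quotient.mk P (t i) = algebraMap R B (MvPowerSeries.X i) :=
    ⟨_, fun i => (Ideal.Quotient.mk_surjective (algebraMap R B (MvPowerSeries.X i))).choose_spec⟩
  -- parameters of `A_P`
  obtain ⟨y, hy, hycard⟩ : ∃ y : Finset S, Ideal.span (y : Set S) = maximalIdeal S ∧
      y.card = (maximalIdeal S).spanFinrank := by
    have hs := Submodule.FG.finite_generators (p := maximalIdeal S) (IsNoetherian.noetherian _)
    refine ⟨hs.toFinset, ?_, ?_⟩
    · rw [Set.Finite.coe_toFinset]; exact Submodule.span_generators _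
    · rw [← Set.ncard_eq_toFinset_card _ hs]
      exact Submodule.FG.generators_ncard (IsNoetherian.noetherian _)
  have hnum : ∀ z : S, z ∈ maximalIdeal S → ∃ a ∈ P, ∃ s : P.primeCompl, z = IsLocalization.mk' S a s := fun z hz => by
    obtain ⟨a, s, rfl⟩ := IsLocalization.exists_mk'_eq P.primeCompl z
    exact ⟨a, (IsLocalization.AtPrime.mk'_mem_maximal_iff S P a s).mp hz, s, rfl⟩
  choose! num hnumP den hden using hnum
  let Z : Finset A := y.image num ∪ Finset.univ.image t
  have hcard : Z.card ≤ (maximalIdeal S).spanFinrank + e' :=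
    (Finset.card_union_le _ _).trans (add_le_add (Finset.card_image_le.trans hycard.le)
      (Finset.card_image_le.trans (by simp)))
  let W := Submodule.span P.ResidueField (dAt k A P '' (Z : Set A))
  have hWP : ∀ a ∈ P, dAt k A P a ∈ W := by
    intro a ha
    have h1 : algebraMap A S a ∈ (Ideal.span (num '' (y : Set S))).map (algebraMap A S) := by
      have h2 : maximalIdeal S ≤ (Ideal.span (num '' (y : Set S))).map (algebraMap A S) := by
        rw [← hy, Ideal.span_le]
        intro z hz
        have hzm : z ∈ maximalIdeal S := hy ▸ Ideal.subset_span hz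
        rw [hden z hzm, IsLocalization.mk'_eq_mul_mk'_one]
        exact Ideal.mul_mem_right _ _ (Ideal.mem_map_of_mem _ (Ideal.subset_span ⟨z, hz, rfl⟩))
      exact h2 ((IsLocalization.AtPrime.to_map_mem_maximal_iff S P a).mpr ha)
    rw [IsLocalization.algebraMap_mem_map_algebraMap_iff P.primeCompl] at h1
    obtain ⟨s, hs, hsa⟩ := h1
    have h3 : ∀ b ∈ Ideal.span (num '' (y : Set S)), dAt k A P b ∈ W := by
      intro b hb
      induction hb using Submodule.span_induction with
      | mem b hb =>
        obtain ⟨z, hz, rfl⟩ := hb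
        exact Submodule.subset_span ⟨_, Finset.mem_union_left _ (Finset.mem_image_of_mem _ hz), rfl⟩
      | zero => rw [dAt, map_zero, tmul_zero]; exact zero_mem _
      | add u v _ _ hu hv => rw [dAt_add]; exact add_mem hu hv
      | smul c u hu ih =>
        rw [smul_eq_mul, dAt_mul]
        refine add_mem (Submodule.smul_mem _ _ ih) ?_
        have hu' : u ∈ P := by
          refine Ideal.span_le.mpr ?_ hu
          rintro _ ⟨z, hz, rfl⟩
          exact hnumP z (hy ▸ Ideal.subset_span hz)
        rw [Ideal.algebraMap_residueField_eq_zero.mpr hu', zero_smul]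
        exact zero_mem _
    have h4 := h3 _ hsa
    rw [dAt_mul, Ideal.algebraMap_residueField_eq_zero.mpr ha, zero_smul, add_zero] at h4
    have h5 := W.smul_mem (algebraMap A P.ResidueField s)⁻¹ h4
    rwa [smul_smul, inv_mul_cancel₀ (by rw [ne_eq, Ideal.algebraMap_residueField_eq_zero]; exact hs), one_smul] at h5
  -- the rest comes from `A ⧸ P`
  let U : Submodule A (Om k A) :=
    Submodule.span A (dOm k A '' ((P : Set A) ∪ Set.range t)) ⊔ P • ⊤
  have hU : ∀ z ∈ U, (1 : P.ResidueField) ⊗ₜ[A] z ∈ W := by
    intro z hz
    obtain ⟨u, hu, v, hv, rfl⟩ := Submodule.mem_sup.mp hz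
    rw [tmul_add]
    refine add_mem ?_ ?_
    · clear hz
      induction hu using Submodule.span_induction with
      | mem u hu =>
        obtain ⟨a, ha | ⟨i, rfl⟩, rfl⟩ := hu
        · exact hWP a ha
        · exact Submodule.subset_span ⟨_, Finset.mem_union_right _ (Finset.mem_image_of_mem _ (Finset.mem_univ i)), rfl⟩
      | zero => rw [tmul_zero]; exact zero_mem _
      | add a b _ _ ha hb => rw [tmul_add]; exact add_mem ha hb
      | smul c a _ ha => rw [tmul_smul]; exact Submodule.smul_of_tower_mem _ c ha
    · clear hz
      refine Submodule.smul_induction_on hv (fun r hr w _ => ?_) fun a b ha hb => by rw [tmul_add]; exact add_mem ha hb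
      rw [tmul_smul, ← algebraMap_smul P.ResidueField r, Ideal.algebraMap_residueField_eq_zero.mpr hr, zero_smul]
      exact zero_mem _
  let M := Om k A ⧸ U
  let tors : Module B M :=
    Module.IsTorsionBySet.module (M := M) (I := P) fun x ⟨r, hr⟩ => by
      obtain ⟨x, rfl⟩ := Submodule.Quotient.mk_surjective U x
      rw [← Submodule.Quotient.mk_smul, Submodule.Quotient.mk_eq_zero]
      exact Submodule.mem_sup_right (Submodule.smul_mem_smul hr trivial)
  have : IsScalarTower A B M := ⟨fun a b x => by
    obtain ⟨b, rfl⟩ := Ideal.Quotient.mk_surjective b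
    change (a * b) • x = a • b • x
    rw [mul_smul]⟩
  have : IsScalarTower k B M := ⟨fun c b x => by
    obtain ⟨b, rfl⟩ := Ideal.Quotient.mk_surjective b
    change (c • b) • x = c • b • x
    rw [smul_assoc]⟩
  have : Module.Finite B M := Module.Finite.of_restrictScalars_finite A B M
  let δA : Derivation k A M := U.mkQ.compDer (dOm k A)
  have hδP : ∀ a ∈ P, δA a = 0 := fun a ha =>
    (Submodule.Quotient.mk_eq_zero U).mpr (Submodule.mem_sup_left (Submodule.subset_span ⟨a, Or.inl ha, rfl⟩))
  have hδeq : ∀ a b : A, Ideal.Quotient.mk P a = Ideal.Quotient.mk P b → δA a = δA b := fun a b h => by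
    have := hδP _ ((Ideal.Quotient.mk_eq_mk_iff_sub_mem a b).mp h)
    rwa [map_sub, sub_eq_zero] at this
  choose sec hsec using Ideal.Quotient.mk_surjective (I := P)
  have hsmul : ∀ (x : B) (m : M), sec x • m = x • m := fun x m => by
    conv_rhs => rw [← hsec x]
    rfl
  let δB : Derivation k B M :=
    { toFun := fun b => δA (sec b)
      map_add' := fun a b => by
        rw [← map_add]; exact hδeq _ _ (by rw [map_add, hsec, hsec, hsec])
      map_smul' := fun c b => by
        rw [RingHom.id_apply, ← Derivation.map_smul]
        refine hδeq _ _ ?_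
        rw [hsec]
        change _ = Ideal.Quotient.mkₐ k P (c • sec b)
        rw [map_smul]
        exact congrArg (c • ·) (hsec b).symm
      map_one_eq_zero' := by
        change δA (sec 1) = 0
        rw [hδeq (sec 1) 1 (by rw [hsec, map_one]), Derivation.map_one_eq_zero]
      leibniz' := fun a b => by
        change δA (sec (a * b)) = a • δA (sec b) + b • δA (sec a)
        rw [hδeq (sec (a * b)) (sec a * sec b) (by rw [map_mul, hsec, hsec, hsec]), Derivation.leibniz]
        rw [hsmul, hsmul] }
  have hδB : ∀ a, δB (Ideal.Quotient.mk P a) = δA a := fun a => hδeq _ _ (hsec _)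
  obtain ⟨l, hl⟩ := exists_lift k B δB
  obtain ⟨-, n, g, hg⟩ := exists_finite_gen k A
  have htop : W = ⊤ := by
    refine eq_top_iff.mpr ((span_dAt_eq_top k A P).ge.trans (Submodule.span_le.mpr ?_))
    rintro _ ⟨a, rfl⟩
    obtain ⟨s, hs, hsa⟩ := hB (dOm k B (Ideal.Quotient.mk P a))
    obtain ⟨s, rfl⟩ := Ideal.Quotient.mk_surjective s
    have hmem : l (Ideal.Quotient.mk P s • dOm k B (Ideal.Quotient.mk P a)) = 0 := by
      have hle : Submodule.span B (Set.range fun i => dOm k B (algebraMap R B (MvPowerSeries.X i))) ≤
          LinearMap.ker l := by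
        rw [Submodule.span_le]
        rintro _ ⟨i, rfl⟩
        change l _ = 0
        rw [hl, ← ht i, hδB]
        exact (Submodule.Quotient.mk_eq_zero U).mpr
          (Submodule.mem_sup_left (Submodule.subset_span ⟨_, Or.inr ⟨i, rfl⟩, rfl⟩))
      exact hle hsa
    rw [map_smul, hl, hδB] at hmem
    change s • δA a = 0 at hmem
    have h1 : s • dOm k A a ∈ U := by
      rw [← Submodule.Quotient.mk_eq_zero, Submodule.Quotient.mk_smul]; exact hmem
    have h2 := hU _ h1
    rw [tmul_smul, ← algebraMap_smul P.ResidueField s] at h2
    have hs0 : algebraMap A P.ResidueField s ≠ 0 := by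
      rw [ne_eq, Ideal.algebraMap_residueField_eq_zero]
      exact fun h => hs (Ideal.mem_bot.mpr (Ideal.Quotient.eq_zero_iff_mem.mpr h))
    have h3 := W.smul_mem (algebraMap A P.ResidueField s)⁻¹ h2
    rwa [smul_smul, inv_mul_cancel₀ hs0, one_smul] at h3
  have hfr : Module.finrank P.ResidueField (P.ResidueField ⊗[A] Om k A) ≤ (maximalIdeal S).spanFinrank + e' := by
    rw [← finrank_top, ← htop]
    refine le_trans ?_ hcard
    have := finrank_span_finset_le_card (R := P.ResidueField) (Z.image (dAt k A P))
    rw [Set.finrank, Finset.coe_image] at this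
    exact this.trans Finset.card_image_le
  rw [← IsRegularLocalRing.spanFinrank_maximalIdeal]
  exact_mod_cast hfr

end Groth.Agent.ComplDeriv
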