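import Groth.Agent.ComplDeriv.Generic
import Mathlib.RingTheory.Kaehler.Basic

/-!
# Generators of `Ω̂` at a prime and unramified maps from power series rings
-/

universe u

open IsLocalRing TensorProduct

namespace Groth.Agent.ComplDeriv

/-- Generation of a localised module in terms of the module. -/
theorem localized_span_eq_top_iff {A : Type u} [CommRing A] {M : Type u} [AddCommGroup M] [Module A M]
    (p : Ideal A) [p.IsPrime] {m : ℕ} (w : Fin m → M) :
    Submodule.span (Localization.AtPrime p) (Set.range fun i => LocalizedModule.mkLinearMap p.primeCompl M (w i)) = ⊤ ↔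
      ∀ z, ∃ s ∉ p, s • z ∈ Submodule.span A (Set.range w) := by
  let l := LocalizedModule.mkLinearMap p.primeCompl M
  constructor
  · intro h z
    have key : ∀ x ∈ Submodule.span (Localization.AtPrime p) (Set.range fun i => l (w i)),
        ∃ s ∉ p, ∃ y ∈ Submodule.span A (Set.range w), s • x = l y := by
      intro x hx
      induction hx using Submodule.span_induction with
      | mem x hx =>
        obtain ⟨i, rfl⟩ := hx
        exact ⟨1, p.ne_top_iff_one.mp Ideal.IsPrime.ne_top', _, Submodule.subset_span ⟨i, rfl⟩, one_smul _ _⟩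
      | zero => exact ⟨1, p.ne_top_iff_one.mp Ideal.IsPrime.ne_top', 0, zero_mem _, by simp⟩
      | add u v _ _ hu hv =>
        obtain ⟨s, hs, y, hy, hsy⟩ := hu
        obtain ⟨t, ht, z, hz, htz⟩ := hv
        exact ⟨s * t, fun h => ((Ideal.IsPrime.mem_or_mem ‹_› h).elim hs ht), t • y + s • z,
          add_mem (Submodule.smul_mem _ _ hy) (Submodule.smul_mem _ _ hz),
          by rw [smul_add, mul_comm s t, mul_smul, hsy, mul_comm t s, mul_smul, htz, map_add, map_smul, map_smul]⟩
      | smul c u _ hu =>
        obtain ⟨s, hs, y, hy, hsy⟩ := hu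
        obtain ⟨a, t, rfl⟩ := IsLocalization.exists_mk'_eq p.primeCompl c
        refine ⟨t.1 * s, fun h => ((Ideal.IsPrime.mem_or_mem ‹_› h).elim t.2 hs), a • y, Submodule.smul_mem _ _ hy, ?_⟩
        rw [map_smul, ← hsy, mul_smul, smul_comm s (IsLocalization.mk' _ a t) u,
          ← smul_assoc (t : A), Algebra.smul_def (t : A), IsLocalization.mk'_spec', algebraMap_smul]
    obtain ⟨s, hs, y, hy, hsy⟩ := key (l z) (by rw [h]; trivial)
    rw [← map_smul] at hsy
    obtain ⟨⟨v, hv⟩, hvz⟩ := (IsLocalizedModule.eq_iff_exists p.primeCompl l).mp hsy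
    simp only [Submonoid.mk_smul] at hvz
    refine ⟨v * s, fun h => ((Ideal.IsPrime.mem_or_mem ‹_› h).elim hv hs), ?_⟩
    rw [mul_smul, hvz]
    exact Submodule.smul_mem _ _ hy
  · intro h
    refine eq_top_iff.mpr fun x _ => ?_
    obtain ⟨⟨z, t⟩, rfl⟩ := IsLocalizedModule.mk'_surjective p.primeCompl l x
    obtain ⟨s, hs, hsz⟩ := h z
    have h1 : l (s • z) ∈ Submodule.span (Localization.AtPrime p) (Set.range fun i => l (w i)) := by
      have h2 := Submodule.mem_map_of_mem (f := l) hsz
      rw [Submodule.map_span, ← Set.range_comp] at h2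
      exact Submodule.span_le_restrictScalars A _ _ h2
    have h2 := Submodule.smul_mem _ (IsLocalization.mk' (Localization.AtPrime p) (1 : A) (t * ⟨s, hs⟩)) h1
    convert h2 using 1
    rw [Function.uncurry_apply_pair, map_smul, IsLocalizedModule.mk'_eq_iff, Submonoid.smul_def,
      ← smul_assoc (t : A), ← algebraMap_smul (Localization.AtPrime p) s (l z), smul_smul, Algebra.smul_def (t : A),
      ← IsLocalization.mk'_one (M := p.primeCompl) (Localization.AtPrime p) (t : A), ← IsLocalization.mk'_one (M := p.primeCompl) (Localization.AtPrime p) s,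
      ← IsLocalization.mk'_mul, ← IsLocalization.mk'_mul, mul_one, one_mul, mul_one,
      show (t : A) * s = ((t * ⟨s, hs⟩ : p.primeCompl) : A) from rfl, IsLocalization.mk'_self', one_smul]

variable (k A : Type u) [Field k] [CommRing A] [IsLocalRing A] [IsNoetherianRing A] [Algebra k A]
  [IsAdicComplete (maximalIdeal A) A] [Module.Finite k (ResidueField A)]

theorem finrank_fibre_le_of_span (p : Ideal A) [p.IsPrime] {m : ℕ}
    (s : Fin m → LocalizedModule p.primeCompl (Om k A)) (hs : Submodule.span (Localization.AtPrime p) (Set.range s) = ⊤) :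
    Module.finrank p.ResidueField (p.ResidueField ⊗[A] Om k A) ≤ m := by
  have hfin := (exists_finite_gen k A).1
  have hex : ∀ i, ∃ z t, IsLocalizedModule.mk' (LocalizedModule.mkLinearMap p.primeCompl (Om k A)) z t = s i :=
    fun i => by
      obtain ⟨⟨z, t⟩, h⟩ := IsLocalizedModule.mk'_surjective p.primeCompl
        (LocalizedModule.mkLinearMap p.primeCompl (Om k A)) (s i)
      exact ⟨z, t, h⟩
  choose z t hzt using hex
  have hspan : Submodule.span (Localization.AtPrime p)
      (Set.range fun i => LocalizedModule.mkLinearMap p.primeCompl (Om k A) (z i)) = ⊤ := by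
    refine eq_top_iff.mpr (hs.ge.trans (Submodule.span_le.mpr ?_))
    rintro _ ⟨i, rfl⟩
    rw [SetLike.mem_coe, ← hzt i]
    have h1 := Submodule.smul_mem _ (IsLocalization.mk' (Localization.AtPrime p) (1 : A) (t i))
      (Submodule.subset_span (R := Localization.AtPrime p)
        (s := Set.range fun i => LocalizedModule.mkLinearMap p.primeCompl (Om k A) (z i)) ⟨i, rfl⟩)
    convert h1 using 1
    rw [IsLocalizedModule.mk'_eq_iff, Submonoid.smul_def, ← smul_assoc,
      Algebra.smul_def (t i : A), IsLocalization.mk'_spec', map_one, one_smul]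
  have h2 := (span_fibre_eq_top_iff A p z).mpr ((localized_span_eq_top_iff p z).mp hspan)
  rw [← finrank_top, ← h2]
  exact (finrank_range_le_card _).trans (Fintype.card_fin m).le

/-- A finite local map from a power series ring, unramified at `p`, gives generators of `Ω̂` at `p`. -/
theorem span_of_unramified (p : Ideal A) [p.IsPrime] {m : ℕ} [Algebra (MvPowerSeries (Fin m) k) A]
    [IsScalarTower k (MvPowerSeries (Fin m) k) A] [IsLocalHom (algebraMap (MvPowerSeries (Fin m) k) A)]
    [Module.Finite (MvPowerSeries (Fin m) k) A] [Algebra.IsUnramifiedAt (MvPowerSeries (Fin m) k) p] :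
    ∀ z, ∃ s ∉ p, s • z ∈ Submodule.span A
      (Set.range fun i => dOm k A (algebraMap (MvPowerSeries (Fin m) k) A (MvPowerSeries.X i))) := by
  classical
  let P := MvPowerSeries (Fin m) k
  let f : P →+* A := algebraMap P A
  have hfin := (exists_finite_gen k A).1
  obtain ⟨_, n, y, hy⟩ := exists_finite_gen k A
  have hfm : ∀ i, f (MvPowerSeries.X i) ∈ maximalIdeal A := fun i => by
    refine (mem_maximalIdeal _).mpr fun h => ?_
    have := (isUnit_map_iff f _).mp h
    rw [MvPowerSeries.isUnit_iff_constantCoeff, MvPowerSeries.constantCoeff_X] at this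
    exact not_isUnit_zero this
  let U := Submodule.span A (Set.range fun i => dOm k A (f (MvPowerSeries.X i)))
  let δ : Derivation k A (Om k A ⧸ U) := U.mkQ.compDer (dOm k A)
  have hC : ∀ c, f (MvPowerSeries.C c) = algebraMap k A c := fun c =>
    (IsScalarTower.algebraMap_apply k P A c).symm
  have hδ : ∀ x, δ (f x) = 0 := derivation_map_eq_zero k A δ f hC hfm (fun i =>
    (Submodule.Quotient.mk_eq_zero U).mpr (Submodule.subset_span ⟨i, rfl⟩))
  let δP : Derivation P A (Om k A ⧸ U) :=
    { toFun := δ
      map_add' := map_add δ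
      map_smul' := fun c a => by
        rw [RingHom.id_apply, Algebra.smul_def, Derivation.leibniz, hδ, smul_zero, add_zero]
        exact algebraMap_smul A c (δ a)
      map_one_eq_zero' := δ.map_one_eq_zero
      leibniz' := δ.leibniz }
  let φ := δP.liftKaehlerDifferential
  have hφ : Function.Surjective φ := by
    rw [← LinearMap.range_eq_top, eq_top_iff]
    have : (⊤ : Submodule A (Om k A ⧸ U)) = (⊤ : Submodule A (Om k A)).map U.mkQ := by
      rw [Submodule.map_top, Submodule.range_mkQ]
    rw [this, ← hy, Submodule.map_span, Submodule.span_le]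
    rintro _ ⟨_, ⟨i, rfl⟩, rfl⟩
    exact ⟨KaehlerDifferential.D P A (y i), δP.liftKaehlerDifferential_comp_D (y i)⟩
  have hsupp : (⟨p, ‹_›⟩ : PrimeSpectrum A) ∉ Module.support A Ω[A⁄P] := by
    have h : (⟨p, ‹_›⟩ : PrimeSpectrum A) ∈ Algebra.unramifiedLocus P A := ‹Algebra.IsUnramifiedAt P p›
    rwa [Algebra.unramifiedLocus_eq_compl_support] at h
  rw [Module.notMem_support_iff'] at hsupp
  intro z
  obtain ⟨w, hw⟩ := hφ (Submodule.Quotient.mk z)
  obtain ⟨s, hs, hsw⟩ := hsupp w
  refine ⟨s, hs, ?_⟩
  rw [← Submodule.Quotient.mk_eq_zero, Submodule.Quotient.mk_smul, ← hw, ← map_smul, hsw, map_zero]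

/-- **Generators of `Ω̂` at `p` give a finite map from power series unramified at `p`.** -/
theorem exists_unramified (p : Ideal A) [p.IsPrime] (hp : p ≠ maximalIdeal A) (m : ℕ)
    (hm : ringKrullDim A ≤ m) (hV : Module.finrank p.ResidueField (p.ResidueField ⊗[A] Om k A) ≤ m) :
    ∃ (_ : Algebra (MvPowerSeries (Fin m) k) A) (_ : IsScalarTower k (MvPowerSeries (Fin m) k) A),
      IsLocalHom (algebraMap (MvPowerSeries (Fin m) k) A) ∧ Module.Finite (MvPowerSeries (Fin m) k) A ∧
        Algebra.IsUnramifiedAt (MvPowerSeries (Fin m) k) p := by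
  classical
  obtain ⟨a, ha, hgen, N, hN⟩ := exists_parameters_span k A p hp m hm hV
  let P := MvPowerSeries (Fin m) k
  let f : P →+* A := CohenStruct.evalPS (maximalIdeal A) (algebraMap k A) a ha
  have hfin : f.Finite := CohenStruct.evalPS_finite (algebraMap k A) a ha
    (finite_quotient_of_pow_le k A _ (Ideal.span_le.mpr (Set.range_subset_iff.mpr ha)) hN)
  have hfC : ∀ c, f (MvPowerSeries.C c) = algebraMap k A c := CohenStruct.evalPS_C _ _ a ha
  have hfX : ∀ i, f (MvPowerSeries.X i) = a i := CohenStruct.evalPS_X _ _ a ha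
  let _ : Algebra P A := f.toAlgebra
  have : IsScalarTower k P A := IsScalarTower.of_algebraMap_eq fun c => (hfC c).symm
  have : Module.Finite P A := hfin
  refine ⟨inferInstance, inferInstance, ⟨fun x hx => ?_⟩, inferInstance, ?_⟩
  · by_contra hnx
    exact (mem_maximalIdeal _).mp (map_nonunit_mem k A f (fun i => by rw [hfX]; exact ha i) x hnx) hx
  change (⟨p, ‹_›⟩ : PrimeSpectrum A) ∈ Algebra.unramifiedLocus P A
  rw [Algebra.unramifiedLocus_eq_compl_support, Set.mem_compl_iff, Module.notMem_support_iff']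
  let δ : Derivation k A Ω[A⁄P] := (KaehlerDifferential.D P A).restrictScalars k
  obtain ⟨l, hl⟩ := exists_lift k A δ
  have hsurj : Function.Surjective l := by
    rw [← LinearMap.range_eq_top, eq_top_iff]
    refine (KaehlerDifferential.span_range_derivation P A).ge.trans (Submodule.span_le.mpr ?_)
    rintro _ ⟨b, rfl⟩
    exact ⟨dOm k A b, hl b⟩
  intro w
  obtain ⟨z, rfl⟩ := hsurj w
  obtain ⟨s, hs, hsz⟩ := hgen z
  refine ⟨s, hs, ?_⟩
  rw [← map_smul, ← LinearMap.mem_ker]
  refine Submodule.span_le.mpr ?_ hsz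
  rintro _ ⟨i, rfl⟩
  change l (dOm k A (a i)) = 0
  rw [hl, ← hfX i]
  exact (KaehlerDifferential.D P A).map_algebraMap (MvPowerSeries.X i)

end Groth.Agent.ComplDeriv
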