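import Groth.Agent.ComplDeriv.Field
import Groth.Agent.CohenStruct.Structure
import Groth.Agent.CohenStruct.N2
import Groth.Agent.AdicLim.Noetherian
import Mathlib.RingTheory.MvPowerSeries.Derivative
import Mathlib.RingTheory.Kaehler.Basic
import Mathlib.RingTheory.LocalRing.Module

/-!
# Derivations of complete local `k`-algebras with residue field finite over `k`

* `exists_finite_injective_powerSeries`: such a domain of dimension `d` is finite over `k[[x₁,…,x_d]]`.
* `exists_derivations_domain`: it has `d` derivations which are independent over the fraction field.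
* `le_rank_of_span`: ranks of a finite submodule of `B^d` spanning `K^d` at every point.
-/

universe u

open IsLocalRing

namespace Groth.Agent.ComplDeriv

theorem finite_quotient_of_pow_le (k B : Type u) [Field k] [CommRing B] [IsLocalRing B] [IsNoetherianRing B]
    [Algebra k B] [Module.Finite k (ResidueField B)] (I : Ideal B) (hI : I ≤ maximalIdeal B) {N : ℕ}
    (hN : maximalIdeal B ^ N ≤ I) : ((Ideal.Quotient.mk I).comp (algebraMap k B)).Finite := by
  classical
  have : Nontrivial (B ⧸ I) :=
    Ideal.Quotient.nontrivial_iff.mpr (ne_top_of_le_ne_top (maximalIdeal.isMaximal B).ne_top hI)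
  have : IsLocalRing (B ⧸ I) := .of_surjective' (Ideal.Quotient.mk I) Ideal.Quotient.mk_surjective
  have hmax : maximalIdeal (B ⧸ I) = (maximalIdeal B).map (Ideal.Quotient.mk I) :=
    (map_maximalIdeal_of_surjective _ Ideal.Quotient.mk_surjective).symm
  have hNI : maximalIdeal (B ⧸ I) ^ N = ⊥ := by
    rw [hmax, ← Ideal.map_pow, eq_bot_iff, ← Ideal.map_quotient_self I]
    exact Ideal.map_mono hN
  -- lifts of a basis of the residue field are integral over `k`
  obtain ⟨s, hs⟩ := (inferInstance : Module.Finite k (ResidueField B)).fg_top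
  choose lift hlift using fun e : ResidueField B => residue_surjective (R := B) e
  let G : Set (B ⧸ I) := (fun e => Ideal.Quotient.mk I (lift e)) '' (s : Set (ResidueField B))
  have hint : ∀ y ∈ G, IsIntegral k y := by
    rintro _ ⟨e, -, rfl⟩
    obtain ⟨g, hg, hg0⟩ := Algebra.IsIntegral.isIntegral (R := k) e
    refine ⟨g ^ (N + 1), hg.pow _, ?_⟩
    rw [Polynomial.eval₂_pow, pow_succ]
    have h1 : Polynomial.eval₂ (algebraMap k (B ⧸ I)) (Ideal.Quotient.mk I (lift e)) g ∈ maximalIdeal (B ⧸ I) := by
      rw [show algebraMap k (B ⧸ I) = (Ideal.Quotient.mk I).comp (algebraMap k B) from rfl,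
        ← Polynomial.hom_eval₂, hmax]
      refine Ideal.mem_map_of_mem _ ?_
      rw [← residue_eq_zero_iff, Polynomial.hom_eval₂, hlift]
      exact hg0
    rw [show Polynomial.eval₂ (algebraMap k (B ⧸ I)) (Ideal.Quotient.mk I (lift e)) g ^ N = 0 from
      Ideal.mem_bot.mp (hNI ▸ Ideal.pow_mem_pow h1 N), zero_mul]
  let T := Algebra.adjoin k G
  have hTfin : Module.Finite k T :=
    Module.Finite.iff_fg.mpr (fg_adjoin_of_finite (s.finite_toSet.image _) hint)
  have hsurj : Function.Surjective ((residue (B ⧸ I)).comp T.val.toRingHom) := by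
    intro y
    obtain ⟨y, rfl⟩ := residue_surjective y
    obtain ⟨y, rfl⟩ := Ideal.Quotient.mk_surjective y
    suffices ∀ z ∈ Submodule.span k (s : Set (ResidueField B)), ∃ t ∈ T, ∃ b : B,
        residue B b = z ∧ Ideal.Quotient.mk I b = t by
      obtain ⟨t, ht, b, hb, hbt⟩ := this (residue B y) (by rw [hs]; trivial)
      refine ⟨⟨t, ht⟩, ?_⟩
      change residue (B ⧸ I) t = residue (B ⧸ I) (Ideal.Quotient.mk I y)
      rw [← hbt, ← sub_eq_zero, ← map_sub, ← map_sub, residue_eq_zero_iff, hmax]
      refine Ideal.mem_map_of_mem _ ?_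
      rw [← residue_eq_zero_iff, map_sub, hb, sub_self]
    intro z hz
    induction hz using Submodule.span_induction with
    | mem e he => exact ⟨_, Algebra.subset_adjoin ⟨e, he, rfl⟩, lift e, hlift e, rfl⟩
    | zero => exact ⟨0, T.zero_mem, 0, map_zero _, map_zero _⟩
    | add u v _ _ hu hv =>
      obtain ⟨t, ht, b, hb, hbt⟩ := hu
      obtain ⟨t', ht', b', hb', hbt'⟩ := hv
      exact ⟨t + t', T.add_mem ht ht', b + b', by rw [map_add, hb, hb'], by rw [map_add, hbt, hbt']⟩
    | smul c u _ hu =>
      obtain ⟨t, ht, b, hb, hbt⟩ := hu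
      refine ⟨c • t, T.smul_mem ht c, c • b, ?_, ?_⟩
      · rw [Algebra.smul_def, Algebra.smul_def, map_mul, hb]; rfl
      · rw [Algebra.smul_def, Algebra.smul_def, map_mul, hbt]; rfl
  have hT : T.val.toRingHom.Finite :=
    CohenStruct.finite_of_pow_maximalIdeal_eq_bot (IsNoetherian.noetherian _) _ hsurj hNI
  have hk : ((Ideal.Quotient.mk I).comp (algebraMap k B)).Finite := by
    have h1 : (algebraMap k T).Finite := RingHom.finite_algebraMap.mpr hTfin
    rw [show (Ideal.Quotient.mk I).comp (algebraMap k B) = T.val.toRingHom.comp (algebraMap k T) from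
      RingHom.ext fun _ => rfl]
    exact RingHom.Finite.comp hT h1
  exact hk

theorem exists_finite_injective_powerSeries (k B : Type u) [Field k] [CommRing B] [IsDomain B] [IsLocalRing B]
    [IsNoetherianRing B] [Algebra k B] [IsAdicComplete (maximalIdeal B) B]
    [Module.Finite k (ResidueField B)] :
    ∃ (d : ℕ) (f : MvPowerSeries (Fin d) k →+* B), ringKrullDim B = d ∧ Function.Injective f ∧ f.Finite ∧
      ∀ c, f (MvPowerSeries.C c) = algebraMap k B c := by
  classical
  obtain ⟨d, a, N, hd, ham, hN⟩ := CohenStruct.exists_parameters B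
  let I := Ideal.span (Set.range a)
  have hI : I ≤ maximalIdeal B := Ideal.span_le.mpr (Set.range_subset_iff.mpr ham)
  have hk := finite_quotient_of_pow_le k B I hI hN
  have hfin := CohenStruct.evalPS_finite (algebraMap k B) a ham hk
  have hdim := CohenStruct.ringKrullDim_mvPowerSeries_le (Λ := k) d ∅
    (by rw [Finset.coe_empty, Ideal.span_empty]; exact isField_iff_maximalIdeal_eq.mp (Field.toIsField k))
  have : IsDomain (MvPowerSeries (Fin d) k) := NoZeroDivisors.to_isDomain _
  exact ⟨d, _, hd, CohenStruct.injective_of_finite_of_dim _ hfin (by simpa using hdim) hd.ge, hfin,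
    CohenStruct.evalPS_C (maximalIdeal B) (algebraMap k B) a ham⟩

/-- `dim B` derivations of `B`, independent over its fraction field. -/
theorem exists_derivations_domain (k B : Type u) [Field k] [CommRing B] [IsDomain B] [IsLocalRing B]
    [IsNoetherianRing B] [Algebra k B] [IsAdicComplete (maximalIdeal B) B]
    [Module.Finite k (ResidueField B)] :
    ∃ (d : ℕ) (D : Fin d → Derivation k B B), ringKrullDim B = d ∧
      ∀ g : Fin d → FractionRing B, (∀ b, ∑ i, g i * algebraMap B (FractionRing B) (D i b) = 0) → ∀ i, g i = 0 := by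
  classical
  obtain ⟨d, f, hd, hinj, hfin, hfC⟩ := exists_finite_injective_powerSeries k B
  let R := MvPowerSeries (Fin d) k
  have : IsDomain R := NoZeroDivisors.to_isDomain _
  let _ : Algebra R B := f.toAlgebra
  have : Module.Finite R B := hfin
  let K := FractionRing B
  let F := FractionRing R
  have hinjK : Function.Injective (algebraMap R K) := by
    rw [IsScalarTower.algebraMap_eq R B K]
    exact (IsFractionRing.injective B K).comp hinj
  have hFS : FaithfulSMul R K := (faithfulSMul_iff_algebraMap_injective R K).mpr hinjK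
  let _ : Algebra F K := FractionRing.liftAlgebra R K
  have : IsScalarTower R F K := FractionRing.isScalarTower_liftAlgebra R K
  have : IsScalarTower k R B := IsScalarTower.of_algebraMap_eq fun c => (hfC c).symm
  have : IsScalarTower k R K := IsScalarTower.of_algebraMap_eq fun c => by
    rw [IsScalarTower.algebraMap_apply k B K, IsScalarTower.algebraMap_apply R B K,
      ← IsScalarTower.algebraMap_apply k R B]
  have : IsScalarTower k F K := IsScalarTower.of_algebraMap_eq fun c => by
    rw [IsScalarTower.algebraMap_apply k R F, ← IsScalarTower.algebraMap_apply R F K,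
      ← IsScalarTower.algebraMap_apply k R K]
  have hBK : Algebra.IsIntegral R B := Algebra.IsIntegral.of_finite R B
  obtain ⟨G, hG⟩ := (inferInstance : Module.Finite R B).fg_top
  have : FiniteDimensional F K := by
    let S : Set K := algebraMap B K '' (G : Set B)
    have hint : ∀ y ∈ S, IsIntegral F y := by
      rintro _ ⟨b, -, rfl⟩
      exact ((Algebra.IsIntegral.isIntegral (R := R) b).map (IsScalarTower.toAlgHom R B K)).tower_top
    let T := Algebra.adjoin F S
    have hBT : ∀ b : B, algebraMap B K b ∈ T := fun b => by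
      have hb : b ∈ Submodule.span R (G : Set B) := by rw [hG]; trivial
      induction hb using Submodule.span_induction with
      | mem b hb => exact Algebra.subset_adjoin ⟨b, hb, rfl⟩
      | zero => rw [map_zero]; exact T.zero_mem
      | add u v _ _ hu hv => rw [map_add]; exact T.add_mem hu hv
      | smul r u _ hu =>
        rw [Algebra.smul_def, map_mul, ← IsScalarTower.algebraMap_apply, IsScalarTower.algebraMap_apply R F K]
        exact T.mul_mem (T.algebraMap_mem _) hu
    have hT : Module.Finite F T := Module.Finite.iff_fg.mpr (fg_adjoin_of_finite (G.finite_toSet.image _) hint)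
    have htop : ∀ y : K, y ∈ T := fun y => by
      obtain ⟨a, b, _, rfl⟩ := IsFractionRing.div_surjective (A := B) y
      rw [div_eq_mul_inv]
      exact T.mul_mem (hBT a) (Subalgebra.inv_mem_of_algebraic T (x := ⟨_, hBT b⟩)
        ((Algebra.IsIntegral.isIntegral (R := R) b).map (IsScalarTower.toAlgHom R B K)).tower_top.isAlgebraic)
    exact Module.Finite.of_surjective T.val.toLinearMap fun y => ⟨⟨y, htop y⟩, rfl⟩
  -- the partial derivatives
  let D₀ : Fin d → Derivation k R K := fun i =>
    ((Algebra.linearMap R K).compDer (MvPowerSeries.pderiv k i))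
  choose D₁ hD₁ using fun i => exists_extend_fraction F (D₀ i)
  have hD₀ : ∀ i j, D₀ i (MvPowerSeries.X j) = if i = j then 1 else 0 := fun i j => by
    change algebraMap R K (MvPowerSeries.pderiv k i (MvPowerSeries.X j)) = _
    rw [MvPowerSeries.pderiv_X]
    by_cases h : i = j
    · subst h; rw [Pi.single_eq_same, map_one, if_pos rfl]
    · rw [Pi.single_eq_of_ne (Ne.symm h), map_zero, if_neg h]
  have hind : LinearIndependent K fun i => (D₁ i : F → K) := by
    rw [Fintype.linearIndependent_iff]
    intro g hg j
    have := (Finset.sum_apply (algebraMap R F (MvPowerSeries.X j)) _ _).symm.trans (congrFun hg _)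
    simp only [Pi.smul_apply, hD₁, hD₀, smul_eq_mul, mul_ite, mul_one, mul_zero, Finset.sum_ite_eq',
      Finset.mem_univ, if_true, Pi.zero_apply] at this
    exact this
  obtain ⟨E, hE, hEV⟩ := exists_derivations D₁ hind
  -- clearing denominators
  choose g hg using fun i => (Submodule.mem_span_range_iff_exists_fun K).mp (hEV i)
  let T : Finset K := (Finset.univ.image fun p : Fin d × Fin d => g p.1 p.2) ∪
    (Finset.univ (α := Fin d)).biUnion fun i => G.image fun b => E i (algebraMap B K b)
  obtain ⟨⟨s, hs⟩, hsT⟩ := IsLocalization.exist_integer_multiples_of_finset (nonZeroDivisors B) T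
  have hsmem : ∀ t ∈ T, ∃ b : B, algebraMap B K b = algebraMap B K s * t := fun t ht => by
    obtain ⟨b, hb⟩ := hsT t ht
    exact ⟨b, by rw [hb, Algebra.smul_def]⟩
  have hR : ∀ i (r : R), ∃ b : B, algebraMap B K b = algebraMap B K s * E i (algebraMap R K r) := by
    intro i r
    choose b hb using fun j => hsmem (g i j) (Finset.mem_union_left _ (Finset.mem_image.mpr ⟨(i, j), Finset.mem_univ _, rfl⟩))
    refine ⟨∑ j, b j * algebraMap R B (MvPowerSeries.pderiv k j r), ?_⟩
    have h := congrFun (hg i) (algebraMap R F r)
    simp only [Finset.sum_apply, Pi.smul_apply, hD₁, smul_eq_mul] at h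
    rw [IsScalarTower.algebraMap_apply R F K, ← h, map_sum, Finset.mul_sum]
    refine Finset.sum_congr rfl fun j _ => ?_
    rw [map_mul, hb, ← IsScalarTower.algebraMap_apply, mul_assoc]
    rfl
  have hB : ∀ i (b : B), ∃ c : B, algebraMap B K c = algebraMap B K s * E i (algebraMap B K b) := by
    intro i b
    have hb : b ∈ Submodule.span R (G : Set B) := by rw [hG]; trivial
    induction hb using Submodule.span_induction with
    | mem b hb => exact hsmem _ (Finset.mem_union_right _ (Finset.mem_biUnion.mpr
        ⟨i, Finset.mem_univ i, Finset.mem_image.mpr ⟨b, hb, rfl⟩⟩))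
    | zero => exact ⟨0, by rw [map_zero, map_zero, mul_zero]⟩
    | add u v _ _ hu hv =>
      obtain ⟨c, hc⟩ := hu
      obtain ⟨c', hc'⟩ := hv
      exact ⟨c + c', by rw [map_add, map_add, map_add, mul_add, hc, hc']⟩
    | smul r u _ hu =>
      obtain ⟨c, hc⟩ := hu
      obtain ⟨c', hc'⟩ := hR i r
      refine ⟨algebraMap R B r * c + u * c', ?_⟩
      rw [Algebra.smul_def, map_add, map_mul, map_mul, map_mul, hc, hc', Derivation.leibniz,
        ← IsScalarTower.algebraMap_apply, smul_eq_mul, smul_eq_mul]
      ring
  choose c hc using hB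
  have hinjB := IsFractionRing.injective B K
  let D : Fin d → Derivation k B B := fun i =>
    { toFun := c i
      map_add' := fun a b => hinjB (by rw [map_add, hc, hc, hc, map_add, map_add, mul_add])
      map_smul' := fun r a => hinjB (by
        have hsm : ∀ z : B, algebraMap B K (r • z) = r • algebraMap B K z := fun z => by
          rw [Algebra.smul_def, Algebra.smul_def, map_mul, ← IsScalarTower.algebraMap_apply]
        rw [RingHom.id_apply, hc, hsm, Derivation.map_smul, hsm, hc, mul_smul_comm])
      map_one_eq_zero' := hinjB (by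
        change algebraMap B K (c i 1) = algebraMap B K 0
        rw [hc, map_one, Derivation.map_one_eq_zero, mul_zero, map_zero])
      leibniz' := fun a b => hinjB (by
        change algebraMap B K (c i (a * b)) = algebraMap B K (a • c i b + b • c i a)
        simp only [smul_eq_mul, map_add, map_mul, hc, Derivation.leibniz]
        ring) }
  refine ⟨d, D, hd, fun γ hγ => ?_⟩
  rw [Fintype.linearIndependent_iff] at hE
  refine hE γ (funext fun y => ?_)
  obtain ⟨a, b, hb, rfl⟩ := IsFractionRing.div_surjective (A := B) y
  have hzero : ∀ z : B, ∑ i, γ i * E i (algebraMap B K z) = 0 := fun z => by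
    refine (mul_eq_zero.mp ?_).resolve_left (IsFractionRing.to_map_ne_zero_of_mem_nonZeroDivisors (K := K) hs)
    rw [Finset.mul_sum]
    refine Eq.trans (Finset.sum_congr rfl fun i _ => ?_) (hγ z)
    rw [show algebraMap B (FractionRing B) (D i z) = _ from hc i z]
    ring
  refine (Finset.sum_apply _ _ _).trans ?_
  simp only [Pi.smul_apply, Pi.zero_apply, smul_eq_mul, Derivation.leibniz_div]
  calc _ = (algebraMap B K b)⁻¹ ^ 2 * (algebraMap B K b * ∑ i, γ i * E i (algebraMap B K a) -
        algebraMap B K a * ∑ i, γ i * E i (algebraMap B K b)) := by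
        rw [Finset.mul_sum, Finset.mul_sum, ← Finset.sum_sub_distrib, Finset.mul_sum]
        exact Finset.sum_congr rfl fun i _ => by ring
    _ = 0 := by rw [hzero, hzero]; ring

/-- A finitely generated submodule of `B^d` spanning `K^d` has rank at least `d` at every point. -/
theorem le_rank_of_span {A B : Type u} [CommRing A] [IsNoetherianRing A] [CommRing B] [IsDomain B] [Algebra A B]
    [Module.Finite A B] {d : ℕ} (M : Submodule A (Fin d → B))
    (hM : ∀ g : Fin d → FractionRing B, (∀ m ∈ M, ∑ i, g i * algebraMap B (FractionRing B) (m i) = 0) → ∀ i, g i = 0)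
    (p : Ideal A) [p.IsPrime] (hp : RingHom.ker (algebraMap A B) ≤ p) :
    (d : ℕ∞) ≤ Cardinal.toENat (Module.rank p.ResidueField (TensorProduct A p.ResidueField M)) := by
  classical
  let K := FractionRing B
  have : Module.Finite A M := inferInstance
  let V := TensorProduct A p.ResidueField M
  have hfinV : Module.Finite p.ResidueField V := inferInstance
  have htop : Submodule.span p.ResidueField (Set.range fun m : M => (1 : p.ResidueField) ⊗ₜ[A] m) = ⊤ := by
    refine eq_top_iff.mpr fun z _ => ?_
    induction z with
    | zero => exact zero_mem _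
    | tmul a m =>
      rw [show a ⊗ₜ[A] m = a • ((1 : p.ResidueField) ⊗ₜ[A] m) by rw [TensorProduct.smul_tmul', smul_eq_mul, mul_one]]
      exact Submodule.smul_mem _ _ (Submodule.subset_span ⟨m, rfl⟩)
    | add a b ha hb => exact add_mem (ha trivial) (hb trivial)
  obtain ⟨n, hn, f, hfspan⟩ : ∃ n : ℕ, Module.rank p.ResidueField V = n ∧ ∃ f : Fin n → M,
      Submodule.span p.ResidueField (Set.range fun j => (1 : p.ResidueField) ⊗ₜ[A] f j) = ⊤ := by
    obtain ⟨b, hb1, hb2, hb3⟩ := exists_linearIndependent p.ResidueField
      (Set.range fun m : M => (1 : p.ResidueField) ⊗ₜ[A] m)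
    rw [htop] at hb2
    let basis := Module.Basis.mk hb3 (by rw [Subtype.range_coe]; exact hb2.ge)
    have : Fintype b := FiniteDimensional.fintypeBasisIndex basis
    refine ⟨Fintype.card b, by rw [rank_eq_card_basis basis], ?_⟩
    choose m hm using fun x : b => hb1 x.2
    refine ⟨fun j => m ((Fintype.equivFin b).symm j), eq_top_iff.mpr (hb2.ge.trans (Submodule.span_mono ?_))⟩
    intro x hx
    exact ⟨Fintype.equivFin b ⟨x, hx⟩, by simp only [Equiv.symm_apply_apply]; exact hm ⟨x, hx⟩⟩
  rw [hn, map_natCast, Nat.cast_le]
  let N : Submodule A M := Submodule.span A (Set.range f)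
  have hker : ¬ Nontrivial (TensorProduct A p.ResidueField (M ⧸ N)) := by
    intro h
    let π := N.mkQ.baseChange p.ResidueField
    have hπ : ∀ z, π z = 0 := fun z => by
      have hz : z ∈ Submodule.span p.ResidueField (Set.range fun j => (1 : p.ResidueField) ⊗ₜ[A] f j) := by
        rw [hfspan]; trivial
      induction hz using Submodule.span_induction with
      | mem z hz =>
        obtain ⟨j, rfl⟩ := hz
        rw [LinearMap.baseChange_tmul, (Submodule.Quotient.mk_eq_zero N).mpr (Submodule.subset_span ⟨j, rfl⟩) |>
          fun e : N.mkQ (f j) = 0 => e, TensorProduct.tmul_zero]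
      | zero => exact map_zero _
      | add u v _ _ hu hv => rw [map_add, hu, hv, add_zero]
      | smul c u _ hu => rw [map_smul, hu, smul_zero]
    obtain ⟨w, hw⟩ := exists_ne (0 : TensorProduct A p.ResidueField (M ⧸ N))
    obtain ⟨z, rfl⟩ := LinearMap.lTensor_surjective p.ResidueField N.mkQ_surjective w
    exact hw (hπ z)
  have hsupp : (⟨p, ‹_›⟩ : PrimeSpectrum A) ∉ Module.support A (M ⧸ N) := fun h =>
    hker ((Module.mem_support_iff_nontrivial_residueField_tensorProduct ⟨p, ‹_›⟩).mp h)
  by_contra hlt
  push Not at hlt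
  -- a linear form killing the generators
  let v : Fin n → (Fin d → K) := fun j i => algebraMap B K ((f j : Fin d → B) i)
  let L : (Fin d → K) →ₗ[K] (Fin n → K) := LinearMap.pi fun j => Fintype.linearCombination K (v j)
  have hL : ¬ Function.Injective L := fun h => by
    have := LinearMap.finrank_le_finrank_of_injective h
    simp only [Module.finrank_fin_fun] at this
    omega
  rw [← LinearMap.ker_eq_bot, ← ne_eq, Submodule.ne_bot_iff] at hL
  obtain ⟨γ, hγ, hγ0⟩ := hL
  refine hγ0 (funext (hM γ fun m hm => ?_))
  rw [Module.notMem_support_iff'] at hsupp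
  obtain ⟨s, hs, hsm⟩ := hsupp (Submodule.Quotient.mk ⟨m, hm⟩)
  rw [← Submodule.Quotient.mk_smul, Submodule.Quotient.mk_eq_zero, Submodule.mem_span_range_iff_exists_fun] at hsm
  obtain ⟨r, hr⟩ := hsm
  have h0 : algebraMap A K s ≠ 0 := fun h => hs (hp (IsFractionRing.injective B K (by
    rw [map_zero, ← IsScalarTower.algebraMap_apply]; exact h)))
  refine (mul_eq_zero.mp ?_).resolve_left h0
  have hr' : ∀ i, s • m i = ∑ j, r j • (f j : Fin d → B) i := fun i => by
    have := congrFun (congrArg Subtype.val hr) i
    simpa [Finset.sum_apply] using this.symm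
  have hj : ∀ j, ∑ i, γ i * v j i = 0 := fun j => by
    have := congrFun (LinearMap.mem_ker.mp hγ) j
    simpa [L, Fintype.linearCombination_apply] using this
  calc algebraMap A K s * ∑ i, γ i * algebraMap B K (m i)
      = ∑ i, γ i * algebraMap B K (s • m i) := by
        rw [Finset.mul_sum]
        refine Finset.sum_congr rfl fun i _ => ?_
        rw [Algebra.smul_def, map_mul, ← IsScalarTower.algebraMap_apply]
        ring
    _ = ∑ j, algebraMap A K (r j) * ∑ i, γ i * v j i := by
        simp only [hr', map_sum, Finset.mul_sum]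
        rw [Finset.sum_comm]
        refine Finset.sum_congr rfl fun j _ => Finset.sum_congr rfl fun i _ => ?_
        rw [Algebra.smul_def, map_mul, ← IsScalarTower.algebraMap_apply]
        ring
    _ = 0 := by simp [hj]

end Groth.Agent.ComplDeriv
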