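import Groth.Agent.EGA41Lib.FieldCrit
import Groth.Agent.EGA41Lib.FormallySmooth
import Mathlib.RingTheory.EssentialFiniteness
import Mathlib.RingTheory.Extension.Cotangent.Basic
import Mathlib.RingTheory.Kaehler.JacobiZariski
import Mathlib.RingTheory.Flat.Basic
import Mathlib.RingTheory.HopkinsLevitzki
import Mathlib.Algebra.Algebra.ZMod
import Mathlib.Algebra.Field.ZMod

/-!
# Artinian local algebras as unions of essentially finite type ones
-/

universe u

open TensorProduct IsLocalRing
open KaehlerDifferential (D mapBaseChange)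

namespace Groth.Agent.ComplDeriv

/-- All but finitely many members of some `p`-basis of `k` stay `p`-independent in `K`. -/
theorem exists_pBasis_split (p : ℕ) [Fact p.Prime] {k K : Type u} [Field k] [Field K] [CharP k p] [CharP K p]
    [Algebra (ZMod p) k] [Algebra (ZMod p) K] [Algebra k K] [IsScalarTower (ZMod p) k K]
    (hH : Module.Finite K (Algebra.H1Cotangent k K)) :
    ∃ (B F : Set k) (C : Set K), F.Finite ∧ EGA41Lib.PBasis p (ZMod p) (Subtype.val : B → k) ∧
      algebraMap k K '' (B \ F) ⊆ C ∧ EGA41Lib.PBasis p (ZMod p) (Subtype.val : C → K) := by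
  classical
  obtain ⟨B, hB⟩ := EGA41Lib.exists_isPBasis (p := p) (k := ZMod p) (K := k)
  obtain ⟨b, hb⟩ := EGA41Lib.exists_basis_kaehler hB
  let bK := b.baseChange K
  let π := mapBaseChange (ZMod p) k K
  have hN : (LinearMap.ker π).FG := by
    have h : LinearMap.ker π = LinearMap.range (Algebra.H1Cotangent.δ (ZMod p) k K) :=
      LinearMap.exact_iff.mp (Algebra.H1Cotangent.exact_δ_mapBaseChange (ZMod p) k K)
    rw [h, LinearMap.range_eq_map]
    exact hH.fg_top.map _
  obtain ⟨t, ht⟩ := hN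
  let T : Finset B := t.biUnion fun z => (bK.repr z).support
  let F : Set k := Subtype.val '' (T : Set B)
  have hker : LinearMap.ker π ≤ Submodule.span K (bK '' (T : Set B)) := by
    rw [← ht, Submodule.span_le]
    intro z hz
    rw [SetLike.mem_coe, Module.Basis.mem_span_image]
    exact fun i hi => Finset.mem_biUnion.mpr ⟨z, hz, hi⟩
  have hli : LinearIndependent K fun i : {i : B // i ∉ T} =>
      D (ZMod p) K (algebraMap k K (i.1 : k)) := by
    have h1 : LinearIndependent K fun i : {i : B // i ∉ T} => bK i.1 :=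
      bK.linearIndependent.comp _ Subtype.val_injective
    have h2 := h1.map (f := π) (Disjoint.mono_right hker ?_)
    · have e : (π ∘ fun i : {i : B // i ∉ T} => bK i.1) = fun i => D (ZMod p) K (algebraMap k K (i.1 : k)) :=
        funext fun i => by
          simp only [Function.comp_apply, bK, π, Module.Basis.baseChange_apply, hb,
            KaehlerDifferential.mapBaseChange_tmul, one_smul, KaehlerDifferential.map_D]
      rwa [e] at h2
    · rw [show Set.range (fun i : {i : B // i ∉ T} => bK i.1) = bK '' {i | i ∉ T} by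
        rw [Set.range_comp' (g := bK) (f := Subtype.val), Subtype.range_coe_subtype]]
      exact bK.linearIndependent.disjoint_span_image (Set.disjoint_left.mpr fun i hi hi' => hi hi')
  have hP := (EGA41Lib.isPIndependent_iff_linearIndependent (p := p) (k := ZMod p)
    (fun i : {i : B // i ∉ T} => algebraMap k K (i.1 : k))).mpr hli
  have hinj := EGA41Lib.Ind.injective hP
  let x := fun i : {i : B // i ∉ T} => algebraMap k K (i.1 : k)
  have hrange : Set.range x = algebraMap k K '' (B \ F) := by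
    ext z
    constructor
    · rintro ⟨⟨⟨i, hi⟩, hiT⟩, rfl⟩
      exact ⟨i, ⟨hi, fun ⟨j, hj, hji⟩ => hiT (show (⟨i, hi⟩ : B) ∈ T from (Subtype.ext hji : j = ⟨i, hi⟩) ▸ hj)⟩, rfl⟩
    · rintro ⟨i, ⟨hi, hiF⟩, rfl⟩
      exact ⟨⟨⟨i, hi⟩, fun h => hiF ⟨⟨i, hi⟩, h, rfl⟩⟩, rfl⟩
  have hL : EGA41Lib.PIndep p (ZMod p) (Subtype.val : Set.range x → K) := by
    have e : (Subtype.val : Set.range x → K) = x ∘ (Equiv.ofInjective x hinj).symm :=
      funext fun y => (Equiv.apply_ofInjective_symm hinj y).symm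
    rw [e]
    exact EGA41Lib.isPIndependent_comp hP _ (Equiv.injective _)
  obtain ⟨C, hC1, -, hC⟩ := EGA41Lib.exists_isPBasis_between (p := p) (k := ZMod p) Set.univ (Set.range x)
    (Set.subset_univ _) (eq_top_iff.2 fun y _ => Subring.subset_closure (Or.inr trivial)) hL
  exact ⟨B, F, C, T.finite_toSet.image _, hB, hrange ▸ hC1, hC⟩

/-- A subfield containing high `p`-th powers and a `p`-basis is everything. -/
theorem eq_top_of_pow_mem (p : ℕ) [hp : Fact p.Prime] {k : Type u} [Field k] [CharP k p] [Algebra (ZMod p) k]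
    {B : Set k} (hB : EGA41Lib.PBasis p (ZMod p) (Subtype.val : B → k)) {S : Subfield k} (hBS : B ⊆ S) {N : ℕ}
    (hN : ∀ a : k, a ^ p ^ N ∈ S) : S = ⊤ := by
  have hclos := (EGA41Lib.pGen_iff_closure p (ZMod p) _).1 hB.2
  rw [Subtype.range_coe] at hclos
  have : PerfectRing (ZMod p) p := PerfectRing.ofFiniteOfIsReduced p (ZMod p)
  have key : ∀ j ≤ N, ∀ a : k, a ^ p ^ (N - j) ∈ S := by
    intro j
    induction j with
    | zero => intro _ a; exact hN a
    | succ j ih =>
      intro hj a
      have ha : a ∈ Subring.closure ((EGA41Lib.pSub p (ZMod p) k : Set k) ∪ B) := hclos.ge trivial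
      have hle : (EGA41Lib.pSub p (ZMod p) k : Set k) ∪ B ⊆ S.toSubring.comap (iterateFrobenius k p (N - (j + 1))) := by
        rintro z (hz | hz)
        · rw [SetLike.mem_coe, EGA41Lib.pSub_eq_frobenius_range] at hz
          obtain ⟨c, rfl⟩ := hz
          change iterateFrobenius k p (N - (j + 1)) (frobenius k p c) ∈ S
          rw [iterateFrobenius_def, frobenius_def, ← pow_mul, ← pow_succ',
            show N - (j + 1) + 1 = N - j by omega]
          exact ih (by omega) c
        · change iterateFrobenius k p _ z ∈ S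
          rw [iterateFrobenius_def]
          exact S.pow_mem (hBS hz) _
      have := (Subring.closure_le.mpr hle) ha
      rwa [Subring.mem_comap, iterateFrobenius_def] at this
  refine eq_top_iff.mpr fun a _ => ?_
  simpa using key N le_rfl a

/-- An Artinian local algebra is a union of essentially finite type Artinian local subalgebras over which it is free. -/
theorem exists_artinian_subalgebra {k Λ : Type u} [Field k] (p : ℕ) [hp : Fact p.Prime]
    [CharP k p] [CommRing Λ] [Algebra k Λ] [IsArtinianRing Λ] [IsLocalRing Λ]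
    (hH : Module.Finite (ResidueField Λ) (Algebra.H1Cotangent k (ResidueField Λ)))
    (E : Finset Λ) :
    ∃ (A : Subalgebra k Λ) (_ : IsLocalRing A), (↑E : Set Λ) ⊆ A ∧ IsArtinianRing A ∧ Module.Flat A Λ ∧
      Algebra.EssFiniteType k A ∧
      (maximalIdeal A).map (algebraMap A Λ) = maximalIdeal Λ := by
  classical
  let K := ResidueField Λ
  let m := maximalIdeal Λ
  have hchK : CharP K p := charP_of_injective_algebraMap (algebraMap k K).injective p
  have hchΛ : CharP Λ p := charP_of_injective_algebraMap (algebraMap k Λ).injective p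
  let _ : Algebra (ZMod p) k := ZMod.algebra k p
  let _ : Algebra (ZMod p) K := ZMod.algebra K p
  let _ : Algebra (ZMod p) Λ := ZMod.algebra Λ p
  have : IsScalarTower (ZMod p) k K := IsScalarTower.of_algebraMap_eq' (Subsingleton.elim _ _)
  have : PerfectRing (ZMod p) p := PerfectRing.ofFiniteOfIsReduced p (ZMod p)
  obtain ⟨B, F, C, hF, hB, hBC, hC⟩ := exists_pBasis_split p (k := k) (K := K) hH
  have hnil : IsNilpotent m := by
    simp only [m]
    rw [← jacobson_eq_maximalIdeal (⊥ : Ideal Λ) bot_ne_top]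
    exact IsArtinianRing.isNilpotent_jacobson_bot
  -- the coefficient field
  choose lift hlift using fun c : K => residue_surjective (R := Λ) c
  let z : C → Λ := fun c =>
    if h : ∃ β ∈ B \ F, algebraMap k K β = c.1 then algebraMap k Λ h.choose else lift c.1
  have hz : ∀ c : C, Ideal.Quotient.mk m (z c) = c.1 := fun c => by
    simp only [z]
    split_ifs with h
    · exact h.choose_spec.2
    · exact hlift _
  let v : K →ₐ[ZMod p] Λ ⧸ m :=
    { RingHom.id K with commutes' := fun a => RingHom.congr_fun (Subsingleton.elim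
        ((RingHom.id K).comp (algebraMap (ZMod p) K)) (algebraMap (ZMod p) (Λ ⧸ m))) a }
  obtain ⟨w, ⟨hw, hwx⟩, -⟩ := EGA41Lib.existsUnique_lift (fun c : C => (c : K)) hC m hnil v z hz
  have hres : ∀ c : K, residue Λ (w c) = c := fun c => DFunLike.congr_fun hw c
  let S₀ : Subfield k := (w.toRingHom.comp (algebraMap k K)).eqLocusField (algebraMap k Λ)
  have hS₀B : ∀ β ∈ B \ F, β ∈ S₀ := fun β hβ => by
    have hc : algebraMap k K β ∈ C := hBC ⟨β, hβ, rfl⟩
    change w ((⟨_, hc⟩ : C) : K) = _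
    rw [hwx]
    have hex : ∃ β' ∈ B \ F, algebraMap k K β' = algebraMap k K β := ⟨β, hβ, rfl⟩
    simp only [z, dif_pos hex]
    rw [(algebraMap k K).injective hex.choose_spec.2]
  obtain ⟨N₀, hN₀⟩ := hnil
  have hS₀pow : ∀ a : k, a ^ p ^ N₀ ∈ S₀ := fun a => by
    change w (algebraMap k K (a ^ p ^ N₀)) = algebraMap k Λ (a ^ p ^ N₀)
    have hmem : w (algebraMap k K a) - algebraMap k Λ a ∈ m := by
      rw [← residue_eq_zero_iff, map_sub, hres]
      exact sub_self _
    have h0 : (w (algebraMap k K a) - algebraMap k Λ a) ^ p ^ N₀ = 0 := by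
      refine pow_eq_zero_of_le (m := N₀) (Nat.lt_pow_self hp.out.one_lt).le ?_
      rw [← Submodule.mem_bot Λ, ← Ideal.zero_eq_bot, ← hN₀]
      exact Ideal.pow_mem_pow hmem N₀
    rw [sub_pow_char_pow, sub_eq_zero] at h0
    rw [map_pow, map_pow, map_pow, h0]
  -- `Λ` over the coefficient field
  let _ : Algebra K Λ := w.toRingHom.toAlgebra
  have hwdef : ∀ c, algebraMap K Λ c = w c := fun c => rfl
  have hfinK : Module.Finite K Λ := by
    obtain ⟨s, hs⟩ := IsNoetherian.noetherian m
    have hpow : ∀ j, ∃ U : Submodule K Λ, U.FG ∧ ∀ x, ∃ u ∈ U, x - u ∈ m ^ j := by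
      intro j
      induction j with
      | zero => exact ⟨⊥, Submodule.fg_bot, fun x => ⟨0, zero_mem _, by simp⟩⟩
      | succ j ih =>
        obtain ⟨U, hU, hUx⟩ := ih
        obtain ⟨gs, hgs⟩ := IsNoetherian.noetherian (m ^ j)
        refine ⟨U ⊔ Submodule.span K (gs : Set Λ), hU.sup (Submodule.fg_span gs.finite_toSet), fun x => ?_⟩
        obtain ⟨u, hu, hxu⟩ := hUx x
        have hx' : x - u ∈ Submodule.span Λ (gs : Set Λ) := hgs.symm ▸ hxu
        obtain ⟨f, -, hf⟩ := Submodule.mem_span_finset.mp hx'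
        refine ⟨u + ∑ g ∈ gs, residue Λ (f g) • g, add_mem (Submodule.mem_sup_left hu)
          (Submodule.mem_sup_right (Submodule.sum_mem _ fun g hg => Submodule.smul_mem _ _ (Submodule.subset_span hg))), ?_⟩
        rw [← sub_sub, ← hf, ← Finset.sum_sub_distrib]
        refine Ideal.sum_mem _ fun g hg => ?_
        rw [smul_eq_mul, Algebra.smul_def, ← sub_mul, pow_succ']
        refine Ideal.mul_mem_mul ?_ (hgs ▸ Submodule.subset_span hg)
        rw [← residue_eq_zero_iff, map_sub, hwdef, hres]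
        exact sub_self _
    obtain ⟨U, hU, hUx⟩ := hpow N₀
    refine ⟨?_⟩
    rw [show (⊤ : Submodule K Λ) = U from ?_]
    · exact hU
    · refine (eq_top_iff.mpr fun x _ => ?_).symm
      obtain ⟨u, hu, hxu⟩ := hUx x
      rw [show m ^ N₀ = ⊥ from hN₀, Ideal.mem_bot, sub_eq_zero] at hxu
      rwa [hxu]
  let e := Module.finBasis K Λ
  obtain ⟨ys, hys⟩ := IsNoetherian.noetherian m
  -- the finitely many coefficients
  let Y : Set Λ := insert 1 ((E : Set Λ) ∪ ys ∪ algebraMap k Λ '' F ∪
    Set.range fun il : Fin (Module.finrank K Λ) × Fin (Module.finrank K Λ) => e il.1 * e il.2)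
  have hYfin : Y.Finite := ((((E.finite_toSet.union ys.finite_toSet).union (hF.image _))).union
    (Set.finite_range _)).insert _
  let G : Set K := ⋃ y ∈ Y, Set.range fun l => e.repr y l
  have hGfin : G.Finite := hYfin.biUnion fun y _ => Set.finite_range _
  let K₁ : Subfield K := Subfield.closure (Set.range (algebraMap k K) ∪ G)
  have hιK₁ : ∀ a, algebraMap k K a ∈ K₁ := fun a => Subfield.subset_closure (Or.inl ⟨a, rfl⟩)
  have hY : ∀ y ∈ Y, ∀ l, e.repr y l ∈ K₁ := fun y hy l =>
    Subfield.subset_closure (Or.inr (Set.mem_biUnion hy ⟨l, rfl⟩))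
  let R : Subring Λ :=
    { carrier := {x | ∀ l, e.repr x l ∈ K₁}
      zero_mem' := fun l => by simp
      one_mem' := hY 1 (Set.mem_insert _ _)
      add_mem' := fun {a b} ha hb l => by rw [map_add, Finsupp.add_apply]; exact add_mem (ha l) (hb l)
      neg_mem' := fun {a} ha l => by rw [map_neg, Finsupp.neg_apply]; exact neg_mem (ha l)
      mul_mem' := fun {a b} ha hb l => by
        rw [← e.sum_repr a, ← e.sum_repr b, Finset.sum_mul_sum, map_sum, Finsupp.finsetSum_apply]
        refine sum_mem fun i _ => ?_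
        rw [map_sum, Finsupp.finsetSum_apply]
        refine sum_mem fun j _ => ?_
        rw [smul_mul_smul_comm, map_smul, Finsupp.smul_apply, smul_eq_mul]
        exact mul_mem (mul_mem (ha i) (hb j)) (hY _ (Or.inr (Or.inr ⟨(i, j), rfl⟩)) l) }
  have hwR : ∀ c ∈ K₁, w c ∈ R := fun c hc l => by
    rw [← hwdef, Algebra.algebraMap_eq_smul_one, map_smul, Finsupp.smul_apply, smul_eq_mul]
    exact mul_mem hc (R.one_mem l)
  -- units of `Λ` in `R` are units of `R`
  let _ : Algebra K₁ R := (RingHom.codRestrict (w.toRingHom.comp K₁.subtype) R fun c => hwR c c.2).toAlgebra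
  let eR : Fin (Module.finrank K Λ) → R := fun l => ⟨e l, fun l' => by
    rw [e.repr_self, Finsupp.single_apply]
    split_ifs
    · exact K₁.one_mem
    · exact K₁.zero_mem⟩
  have hsmulR : ∀ (c : K₁) (x : R), ((c • x : R) : Λ) = (c : K) • (x : Λ) := fun c x => by
    rw [Algebra.smul_def (c : K), Algebra.smul_def c x]
    rfl
  have hspanR : ∀ x : R, x = ∑ l, (⟨e.repr x l, x.2 l⟩ : K₁) • eR l := fun x => Subtype.ext (by
    rw [AddSubmonoidClass.coe_finsetSum]
    exact (e.sum_repr (x : Λ)).symm.trans (Finset.sum_congr rfl fun l _ => (hsmulR ⟨_, x.2 l⟩ (eR l)).symm))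
  have hfinR : Module.Finite K₁ R := ⟨⟨Finset.univ.image eR, eq_top_iff.mpr fun x _ => by
    rw [hspanR x]
    exact Submodule.sum_mem _ fun l _ => Submodule.smul_mem _ _
      (Submodule.subset_span (Finset.mem_image_of_mem _ (Finset.mem_univ l)))⟩⟩
  have hunitR : ∀ x : R, IsUnit (x : Λ) → IsUnit x := fun x hx => by
    have hinj : Function.Injective (LinearMap.mulLeft K₁ x) := fun a b hab =>
      Subtype.ext (hx.mul_left_cancel (congrArg Subtype.val hab))
    obtain ⟨y, hy⟩ := (LinearMap.injective_iff_surjective.mp hinj) 1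
    exact IsUnit.of_mul_eq_one y hy
  -- `k` lands in `R`
  let Sk : Subfield k :=
    { (R.comap (algebraMap k Λ)) with
      inv_mem' := fun a ha => by
        rcases eq_or_ne a 0 with rfl | ha0
        · simp [R.zero_mem]
        obtain ⟨u, hu⟩ := hunitR ⟨algebraMap k Λ a, ha⟩ ((isUnit_iff_ne_zero.mpr ha0).map _)
        have h1 : algebraMap k Λ a * ((↑u⁻¹ : R) : Λ) = 1 := by
          rw [show algebraMap k Λ a = ((u : R) : Λ) from congrArg Subtype.val hu.symm, ← Subring.coe_mul,
            Units.mul_inv, Subring.coe_one]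
        have h2 : algebraMap k Λ a⁻¹ = ((↑u⁻¹ : R) : Λ) := by
          rw [← mul_one (algebraMap k Λ a⁻¹), ← h1, ← mul_assoc, ← map_mul, inv_mul_cancel₀ ha0, map_one, one_mul]
        change algebraMap k Λ a⁻¹ ∈ R
        rw [h2]
        exact (↑u⁻¹ : R).2 }
  have hSk : Sk = ⊤ := by
    refine eq_top_of_pow_mem p hB (fun β hβ => ?_) (N := N₀) fun a => ?_
    · change algebraMap k Λ β ∈ R
      by_cases hβF : β ∈ F
      · exact fun l => hY _ (Or.inr (Or.inl (Or.inr ⟨β, hβF, rfl⟩))) l
      · rw [← (hS₀B β ⟨hβ, hβF⟩ : w (algebraMap k K β) = _)]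
        exact hwR _ (hιK₁ β)
    · change algebraMap k Λ _ ∈ R
      rw [← (hS₀pow a : w (algebraMap k K _) = _)]
      exact hwR _ (hιK₁ _)
  let A : Subalgebra k Λ :=
    { R.toSubsemiring with
      algebraMap_mem' := fun a => (show algebraMap k Λ a ∈ R from (hSk.ge (Subfield.mem_top a) : a ∈ Sk)) }
  have hunitA : ∀ x : A, IsUnit (x : Λ) → IsUnit x := fun x hx => by
    obtain ⟨u, hu⟩ := hunitR ⟨x.1, x.2⟩ hx
    exact IsUnit.of_mul_eq_one ⟨((↑u⁻¹ : R) : Λ), (↑u⁻¹ : R).2⟩ (Subtype.ext (by
      change (x : Λ) * ((↑u⁻¹ : R) : Λ) = 1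
      rw [show (x : Λ) = ((u : R) : Λ) from congrArg Subtype.val hu.symm, ← Subring.coe_mul,
        Units.mul_inv, Subring.coe_one]))
  have hloc : IsLocalHom (A.val.toRingHom) := ⟨fun x hx => hunitA x hx⟩
  have hlocA : IsLocalRing A := RingHom.domain_isLocalRing A.val.toRingHom
  refine ⟨A, hlocA, fun y hy => fun l => hY y (Or.inr (Or.inl (Or.inl (Or.inl hy)))) l, ?_, ?_, ?_, ?_⟩
  · -- Artinian
    have : IsArtinianRing R := isArtinian_of_tower K₁ (inferInstance : IsArtinian K₁ R)
    exact Function.Surjective.isArtinianRing (f := ({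
      toFun := fun x => ⟨x.1, x.2⟩, map_one' := rfl, map_mul' := fun _ _ => rfl,
      map_zero' := rfl, map_add' := fun _ _ => rfl } : R →+* A)) fun x => ⟨⟨x.1, x.2⟩, rfl⟩
  · -- free
    let bK₁ := Module.Free.chooseBasis K₁ K
    let ν : Module.Free.ChooseBasisIndex K₁ K → Λ := fun t => w (bK₁ t)
    have hsm : ∀ (x : A) (t) (l), e.repr (x • ν t) l = (⟨e.repr x l, x.2 l⟩ : K₁) • bK₁ t := fun x t l => by
      rw [Subalgebra.smul_def, smul_eq_mul, mul_comm]
      simp only [ν]
      rw [← hwdef, ← Algebra.smul_def, map_smul, Finsupp.smul_apply, Subfield.smul_def, smul_eq_mul, smul_eq_mul,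
        mul_comm]
    have hindep : LinearIndependent A ν := by
      rw [linearIndependent_iff']
      intro s g hg t ht
      have hl : ∀ l, (⟨e.repr (g t) l, (g t).2 l⟩ : K₁) = 0 := fun l => by
        refine linearIndependent_iff'.mp bK₁.linearIndependent s (fun t => ⟨e.repr (g t) l, (g t).2 l⟩) ?_ t ht
        have h := congrArg (fun x => e.repr x l) hg
        simp only [map_sum, Finsupp.finsetSum_apply, map_zero, Finsupp.zero_apply] at h
        rw [← h]
        exact Finset.sum_congr rfl fun t _ => (hsm _ _ _).symm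
      refine Subtype.ext (e.repr.injective (Finsupp.ext fun l => ?_))
      rw [show ((0 : A) : Λ) = 0 from rfl, map_zero, Finsupp.zero_apply]
      exact congrArg Subtype.val (hl l)
    have hspan : ⊤ ≤ Submodule.span A (Set.range ν) := by
      intro x _
      rw [← e.sum_repr x]
      refine Submodule.sum_mem _ fun l _ => ?_
      rw [← bK₁.linearCombination_repr (e.repr x l), Finsupp.linearCombination_apply, Finsupp.sum, Finset.sum_smul]
      refine Submodule.sum_mem _ fun t _ => ?_
      have h : ((bK₁.repr (e.repr x l) t) • bK₁ t) • e l =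
          (⟨w ((bK₁.repr (e.repr x l) t : K₁) : K) * e l,
            R.mul_mem (hwR _ (bK₁.repr (e.repr x l) t).2) (eR l).2⟩ : A) • ν t := by
        rw [Subalgebra.smul_def, smul_eq_mul, Algebra.smul_def, Subfield.smul_def, smul_eq_mul, map_mul, hwdef,
          hwdef]
        change _ = _ * _ * w (bK₁ t)
        ring
      rw [h]
      exact Submodule.smul_mem _ _ (Submodule.subset_span ⟨t, rfl⟩)
    have : Module.Free A Λ := Module.Free.of_basis (Module.Basis.mk hindep hspan)
    exact inferInstance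
  · -- essentially of finite type
    let gK : Set A := (fun c : G => (⟨w c.1, hwR _ (Subfield.subset_closure (Or.inr c.2))⟩ : A)) '' Set.univ
    let gF : Set A := (fun β : F => (⟨w (algebraMap k K β.1), hwR _ (hιK₁ _)⟩ : A)) '' Set.univ
    let ge : Set A := Set.range fun l => (⟨e l, (eR l).2⟩ : A)
    have : Finite G := hGfin.to_subtype
    have : Finite F := hF.to_subtype
    have hs : (gK ∪ gF ∪ ge).Finite :=
      ((Set.toFinite _).union (Set.toFinite _)).union (Set.finite_range _)
    rw [Algebra.essFiniteType_iff]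
    refine ⟨hs.toFinset, ?_⟩
    let P := Algebra.adjoin k ((hs.toFinset : Finset A) : Set A)
    let Q : Subalgebra k A :=
      { carrier := {x | ∃ t ∈ P, IsUnit t ∧ x * t ∈ P}
        mul_mem' := fun {a b} ⟨t, ht, htu, hat⟩ ⟨t', ht', htu', hbt⟩ =>
          ⟨t * t', mul_mem ht ht', htu.mul htu', by rw [mul_mul_mul_comm]; exact mul_mem hat hbt⟩
        add_mem' := fun {a b} ⟨t, ht, htu, hat⟩ ⟨t', ht', htu', hbt⟩ =>
          ⟨t * t', mul_mem ht ht', htu.mul htu', by
            rw [add_mul, ← mul_assoc, mul_left_comm b t t']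
            exact add_mem (mul_mem hat ht') (mul_mem ht hbt)⟩
        algebraMap_mem' := fun a => ⟨1, one_mem _, isUnit_one, by rw [mul_one]; exact Subalgebra.algebraMap_mem _ a⟩ }
    have hQinv : ∀ x y : A, x ∈ Q → x * y = 1 → y ∈ Q := fun x y ⟨t, ht, htu, hxt⟩ hxy =>
      ⟨x * t, hxt, (IsUnit.of_mul_eq_one y hxy).mul htu, by
        rw [← mul_assoc, mul_comm y x, hxy, one_mul]; exact ht⟩
    have hPQ : ∀ x ∈ P, x ∈ Q := fun x hx => ⟨1, one_mem _, isUnit_one, by rwa [mul_one]⟩
    have hgen : ∀ x ∈ gK ∪ gF ∪ ge, x ∈ Q := fun x hx =>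
      hPQ x (Algebra.subset_adjoin (hs.mem_toFinset.mpr hx))
    let toA : K₁ →+* A :=
      { toFun := fun c => ⟨w c.1, hwR _ c.2⟩
        map_one' := Subtype.ext (map_one w)
        map_mul' := fun a b => Subtype.ext (map_mul w _ _)
        map_zero' := Subtype.ext (map_zero w)
        map_add' := fun a b => Subtype.ext (map_add w _ _) }
    let Tk : Subfield k :=
      { (Q.toSubring.comap (toA.comp ((algebraMap k K).codRestrict K₁ hιK₁))) with
        inv_mem' := fun a ha => by
          rcases eq_or_ne a 0 with rfl | ha0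
          · rw [inv_zero]; exact ha
          refine hQinv _ _ ha ?_
          rw [← map_mul, mul_inv_cancel₀ ha0, map_one] }
    have hTk : Tk = ⊤ := by
      refine eq_top_of_pow_mem p hB (fun β hβ => ?_) (N := N₀) fun a => ?_
      · by_cases hβF : β ∈ F
        · exact hgen _ (Or.inl (Or.inr ⟨⟨β, hβF⟩, trivial, rfl⟩))
        · change toA ⟨_, hιK₁ β⟩ ∈ Q
          rw [show toA ⟨_, hιK₁ β⟩ = algebraMap k A β from Subtype.ext (hS₀B β ⟨hβ, hβF⟩)]
          exact Q.algebraMap_mem β
      · change toA ⟨_, hιK₁ (a ^ p ^ N₀)⟩ ∈ Q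
        rw [show toA ⟨_, hιK₁ (a ^ p ^ N₀)⟩ = algebraMap k A _ from Subtype.ext (hS₀pow a)]
        exact Q.algebraMap_mem _
    let T₁ : Subfield K :=
      { carrier := {c | ∃ h : c ∈ K₁, toA ⟨c, h⟩ ∈ Q}
        mul_mem' := fun {a b} ⟨ha, ha'⟩ ⟨hb, hb'⟩ => ⟨mul_mem ha hb, by
          rw [show (⟨a * b, mul_mem ha hb⟩ : K₁) = ⟨a, ha⟩ * ⟨b, hb⟩ from rfl, map_mul]; exact mul_mem ha' hb'⟩
        one_mem' := ⟨K₁.one_mem, by
          rw [show (⟨1, K₁.one_mem⟩ : K₁) = 1 from rfl, map_one]; exact Q.one_mem⟩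
        add_mem' := fun {a b} ⟨ha, ha'⟩ ⟨hb, hb'⟩ => ⟨add_mem ha hb, by
          rw [show (⟨a + b, add_mem ha hb⟩ : K₁) = ⟨a, ha⟩ + ⟨b, hb⟩ from rfl, map_add]; exact add_mem ha' hb'⟩
        zero_mem' := ⟨K₁.zero_mem, by
          rw [show (⟨0, K₁.zero_mem⟩ : K₁) = 0 from rfl, map_zero]; exact Q.zero_mem⟩
        neg_mem' := fun {a} ⟨ha, ha'⟩ => ⟨neg_mem ha, by
          rw [show (⟨-a, neg_mem ha⟩ : K₁) = -⟨a, ha⟩ from rfl, map_neg]; exact neg_mem ha'⟩
        inv_mem' := fun a ⟨ha, ha'⟩ => ⟨inv_mem ha, by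
          rw [show (⟨a⁻¹, inv_mem ha⟩ : K₁) = ⟨a, ha⟩⁻¹ from rfl]
          rcases eq_or_ne (⟨a, ha⟩ : K₁) 0 with h0 | h0
          · rw [h0, inv_zero, map_zero]; exact Q.zero_mem
          · exact hQinv _ _ ha' (by rw [← map_mul, mul_inv_cancel₀ h0, map_one])⟩ }
    have hT₁ : K₁ ≤ T₁ := Subfield.closure_le.mpr (by
      rintro c (⟨a, rfl⟩ | hc)
      · exact ⟨hιK₁ a, (hTk.ge (Subfield.mem_top a) : a ∈ Tk)⟩
      · exact ⟨Subfield.subset_closure (Or.inr hc), hgen _ (Or.inl (Or.inl ⟨⟨c, hc⟩, trivial, rfl⟩))⟩)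
    intro x
    have hx : x ∈ Q := by
      rw [show x = ∑ l, toA ⟨e.repr x l, x.2 l⟩ * ⟨e l, (eR l).2⟩ from Subtype.ext (by
        rw [AddSubmonoidClass.coe_finsetSum]
        exact (e.sum_repr (x : Λ)).symm.trans (Finset.sum_congr rfl fun l _ => Algebra.smul_def _ _))]
      refine Q.sum_mem fun l _ => Q.mul_mem ?_ (hgen _ (Or.inr ⟨l, rfl⟩))
      obtain ⟨h, h'⟩ := hT₁ (x.2 l)
      exact h'
    exact hx
  · refine le_antisymm (Ideal.map_le_iff_le_comap.mpr fun x hx => ?_) ?_
    · rw [Ideal.mem_comap, mem_maximalIdeal, mem_nonunits_iff]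
      exact fun h => hx (hunitA x h)
    · rw [show maximalIdeal Λ = Ideal.span (ys : Set Λ) from hys.symm]
      refine Ideal.span_le.mpr fun y hy => ?_
      have hyA : y ∈ A := fun l => hY y (Or.inr (Or.inl (Or.inl (Or.inr hy)))) l
      refine Ideal.mem_map_of_mem (algebraMap A Λ) (show (⟨y, hyA⟩ : A) ∈ maximalIdeal A from fun h => ?_)
      have hym : y ∈ maximalIdeal Λ := (hys.le (Submodule.subset_span hy) : y ∈ m)
      exact hym (h.map A.val)

end Groth.Agent.ComplDeriv
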