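import Groth.Agent.ComplDeriv.RegUnram
import Groth.Agent.Miracle.Basic
import Groth.Agent.S9566

/-!
# Etale points of finite algebras over regular normal domains
-/

universe u

open IsLocalRing

namespace Groth.Agent.ComplDeriv

/-- A finite algebra over a regular normal domain, unramified at `Q`, is étale there. -/
theorem isEtaleAt_of_unramified {P A : Type u} [CommRing P] [IsDomain P]
    [IsRegularRing P] [IsIntegrallyClosed P] [CommRing A] [Algebra P A] [Module.Finite P A]
    (q Q : Ideal A) [q.IsPrime] [Q.IsPrime] (hqQ : q ≤ Q) (hinj : q.comap (algebraMap P A) = ⊥)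
    [Algebra.IsUnramifiedAt P Q] : Algebra.IsEtaleAt P Q := by
  have : IsNoetherianRing A := IsNoetherianRing.of_finite P A
  let Q₀ := Q.under P
  let Ps := Localization.AtPrime Q₀
  let S := Localization.AtPrime Q
  let _ := Localization.AtPrime.algebraOfLiesOver Q₀ Q
  have : IsRegularLocalRing Ps := IsRegularRing.isRegularLocalRing_localization Q₀
  have : IsRegularLocalRing S := isRegularLocalRing_atPrime_of_unramified q Q hqQ hinj
  have := DepthLib.isCohenMacaulayLocalRing_of_isRegularLocalRing S
  have : IsLocalHom (algebraMap Ps S) := by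
    rw [RingHom.algebraMap_toAlgebra]; infer_instance
  have : Algebra.FinitePresentation P A := Algebra.FinitePresentation.of_finiteType.mp inferInstance
  have hmap : (maximalIdeal Ps).map (algebraMap Ps S) = maximalIdeal S := by
    rw [← Localization.AtPrime.map_eq_maximalIdeal, Ideal.map_map, ← IsScalarTower.algebraMap_eq]
    exact ((Algebra.isUnramifiedAt_iff_map_eq P Q₀ Q).mp ‹_›).2
  have : Module.Flat Ps S := by
    refine Miracle.flat _ rfl ?_
    rw [hmap]
    let _ := Ideal.Quotient.field (maximalIdeal S)
    rw [ringKrullDim_eq_zero_of_field (S ⧸ maximalIdeal S), add_zero]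
    refine le_antisymm ?_ ?_
    · refine (Miracle.ringKrullDim_le_add (R := Ps)).trans ?_
      rw [hmap, ringKrullDim_eq_zero_of_field (S ⧸ maximalIdeal S), add_zero]
    · rw [IsLocalization.AtPrime.ringKrullDim_eq_height Q₀ Ps, IsLocalization.AtPrime.ringKrullDim_eq_height Q S,
        WithBot.coe_le_coe]
      exact height_under_le q Q hqQ hinj
  have : Algebra.FormallyUnramified Ps S := .of_restrictScalars P _ _
  exact S9566.isEtaleAt_of_local Q₀ Q

end Groth.Agent.ComplDeriv
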