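import Groth.Prelude.Def_EGA41
import Groth.Agent.ComplDeriv.PowerSeries
import Groth.Agent.S2471
import Groth.Agent.EGA41Lib.AdicLift
import Groth.Agent.EGA41Lib.Separable

/-!
# Adically formally smooth local algebras with prescribed residue field
-/

universe u

open IsLocalRing TensorProduct
open KaehlerDifferential (D mapBaseChange)

namespace Groth.Agent.ComplDeriv

/-- A derivation of a field kills the prime subfield. -/
theorem derivation_eq_zero_of_mem_bot {F k : Type u} [Field F] [Field k] (φ : F →+* k) {M : Type u}
    [AddCommGroup M] [Module F M] (d : Derivation ℤ F M) {x : F} (hx : φ x ∈ (⊥ : Subfield k)) : d x = 0 := by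
  let S : Subfield k :=
    { carrier := φ '' {y | d y = 0}
      mul_mem' := by
        rintro _ _ ⟨a, ha, rfl⟩ ⟨b, hb, rfl⟩
        exact ⟨a * b, by simp [Derivation.leibniz, Set.mem_ofPred_eq.mp ha, Set.mem_ofPred_eq.mp hb], map_mul φ a b⟩
      one_mem' := ⟨1, d.map_one_eq_zero, map_one φ⟩
      add_mem' := by
        rintro _ _ ⟨a, ha, rfl⟩ ⟨b, hb, rfl⟩
        exact ⟨a + b, by simp [Set.mem_ofPred_eq.mp ha, Set.mem_ofPred_eq.mp hb], map_add φ a b⟩
      zero_mem' := ⟨0, map_zero d, map_zero φ⟩
      neg_mem' := by
        rintro _ ⟨a, ha, rfl⟩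
        exact ⟨-a, by simp [Set.mem_ofPred_eq.mp ha], map_neg φ a⟩
      inv_mem' := by
        rintro _ ⟨a, ha, rfl⟩
        exact ⟨a⁻¹, by simp [Derivation.leibniz_inv, Set.mem_ofPred_eq.mp ha], map_inv₀ φ a⟩ }
  obtain ⟨y, hy, hyx⟩ := (bot_le : (⊥ : Subfield k) ≤ S) hx
  rwa [← φ.injective hyx]

instance subsingleton_kaehler_primeSubfield (k : Type u) [Field k] : Subsingleton Ω[(⊥ : Subfield k)⁄ℤ] := by
  refine subsingleton_of_forall_eq 0 fun z => ?_
  induction (KaehlerDifferential.span_range_derivation ℤ (⊥ : Subfield k)).ge (Submodule.mem_top (x := z)) using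
    Submodule.span_induction with
  | mem z hz => obtain ⟨a, rfl⟩ := hz; exact derivation_eq_zero_of_mem_bot (⊥ : Subfield k).subtype _ a.2
  | zero => rfl
  | add a b _ _ ha hb => rw [ha, hb, add_zero]
  | smul c a _ ha => rw [ha, smul_zero]

/-- An adically complete ring is complete for the square of the ideal. -/
theorem isAdicComplete_sq {A : Type u} [CommRing A] (m : Ideal A) [IsAdicComplete m A] :
    IsAdicComplete (m ^ 2) A := by
  have hle : ∀ n, (m ^ 2) ^ n ≤ m ^ n := fun n => by
    rw [← pow_mul]; exact Ideal.pow_le_pow_right (by omega)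
  refine { haus' := fun x hx => IsHausdorff.haus' (I := m) x fun n => ?_, prec' := fun f hf => ?_ }
  · have h := hx n
    rw [SModEq.zero, smul_eq_mul, Ideal.mul_top] at h ⊢
    exact hle n h
  · have hf' : ∀ {a b}, a ≤ b → f a - f b ∈ (m ^ 2) ^ a := fun {a b} hab => by
      have h := hf hab
      rwa [SModEq.sub_mem, smul_eq_mul, Ideal.mul_top] at h
    obtain ⟨L, hL⟩ := IsPrecomplete.prec' (I := m) f fun {a b} hab => by
      rw [SModEq.sub_mem, smul_eq_mul, Ideal.mul_top]
      exact hle a (hf' hab)
    refine ⟨L, fun n => ?_⟩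
    have h := hL (2 * n)
    rw [SModEq.sub_mem, smul_eq_mul, Ideal.mul_top] at h ⊢
    rw [← sub_add_sub_cancel (f n) (f (2 * n)) L]
    refine add_mem (hf' (by omega)) ?_
    rwa [← pow_mul]

/-- An additive map satisfying the Leibniz rule, as a derivation over `ℤ`. -/
def intDerivation {A : Type u} [CommRing A] {V : Type u} [AddCommGroup V] [Module A V] (f : A →+ V)
    (h : ∀ x y, f (x * y) = x • f y + y • f x) : Derivation ℤ A V :=
  Derivation.mk' f.toIntLinearMap h

theorem intDerivation_apply {A : Type u} [CommRing A] {V : Type u} [AddCommGroup V] [Module A V] (f : A →+ V)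
    (h : ∀ x y, f (x * y) = x • f y + y • f x) (x : A) : intDerivation f h x = f x := rfl

section transfer

variable {k A K : Type u} [Field k] [CommRing A] [IsLocalRing A] [Algebra k A] [Field K] [Algebra k K]
  [Algebra A K] [IsScalarTower k A K]

/-- The residue field can be replaced by any field quotient. -/
noncomputable def residueEquiv (hsurj : Function.Surjective (algebraMap A K)) : ResidueField A ≃ₐ[A] K :=
  (Ideal.quotientEquivAlgOfEq A
    (show maximalIdeal A = RingHom.ker (Algebra.ofId A K) from
      (eq_maximalIdeal (RingHom.ker_isMaximal_of_surjective (algebraMap A K) hsurj)).symm)).trans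
    (Ideal.quotientKerAlgEquivOfSurjective hsurj)

omit [Algebra k K] [IsScalarTower k A K] in
theorem kInj_iff (hsurj : Function.Surjective (algebraMap A K)) :
    Function.Injective ((mapBaseChange ℤ k A).lTensor (ResidueField A)) ↔
      Function.Injective ((mapBaseChange ℤ k A).lTensor K) := by
  let e := (residueEquiv hsurj).toLinearEquiv
  let e₁ := TensorProduct.congr e (LinearEquiv.refl A (A ⊗[k] Ω[k⁄ℤ]))
  let e₂ := TensorProduct.congr e (LinearEquiv.refl A Ω[A⁄ℤ])
  have h : ∀ y, (mapBaseChange ℤ k A).lTensor K (e₁ y) = e₂ ((mapBaseChange ℤ k A).lTensor (ResidueField A) y) :=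
    fun y => by
      induction y using TensorProduct.induction_on with
      | zero => simp
      | add a b ha hb => simp only [map_add, ha, hb]
      | tmul c z => rfl
  constructor <;> intro hi y y' hy
  · obtain ⟨y, rfl⟩ := e₁.surjective y
    obtain ⟨y', rfl⟩ := e₁.surjective y'
    rw [h, h] at hy
    rw [hi (e₂.injective hy)]
  · exact e₁.injective (hi (by rw [h, h, hy]))

omit [IsLocalRing A] in
theorem mapBaseChange_lTensor (y : K ⊗[A] (A ⊗[k] Ω[k⁄ℤ])) :
    mapBaseChange ℤ k K (TensorProduct.AlgebraTensorModule.cancelBaseChange k A K K Ω[k⁄ℤ] y) =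
      (KaehlerDifferential.map ℤ ℤ A K).liftBaseChange K ((mapBaseChange ℤ k A).lTensor K y) := by
  induction y using TensorProduct.induction_on with
  | zero => simp
  | add a b ha hb => simp only [map_add, ha, hb]
  | tmul c y =>
    induction y using TensorProduct.induction_on with
    | zero => simp
    | add a b ha hb => simp only [TensorProduct.tmul_add, map_add, ha, hb]
    | tmul a z =>
      induction (KaehlerDifferential.span_range_derivation ℤ k).ge (Submodule.mem_top (x := z)) using
        Submodule.span_induction generalizing a c with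
      | mem z hz =>
        obtain ⟨x, rfl⟩ := hz
        simp only [LinearMap.lTensor_tmul, KaehlerDifferential.mapBaseChange_tmul, KaehlerDifferential.map_D,
          LinearMap.liftBaseChange_tmul, TensorProduct.AlgebraTensorModule.cancelBaseChange_tmul, map_smul,
          ← IsScalarTower.algebraMap_apply k A K]
        rw [← algebraMap_smul K a (D ℤ K (algebraMap k K x)), smul_smul, Algebra.smul_def a c, mul_comm]
      | zero => simp
      | add x y _ _ hx hy => simp only [TensorProduct.tmul_add, map_add, hx, hy]
      | smul r x _ hx => rw [← TensorProduct.smul_tmul]; exact hx _ _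

set_option linter.overlappingInstances false in
/-- A criterion for adic formal smoothness of a regular algebra with residue field `K`. -/
theorem isAdicFormallySmooth_of_derivation [IsRegularLocalRing A] (hsurj : Function.Surjective (algebraMap A K))
    {V : Type u} [AddCommGroup V] [Module K V] [Module A V] [IsScalarTower A K V]
    (d : Derivation ℤ A V) (L : K ⊗[k] Ω[k⁄ℤ] →ₗ[K] V)
    (hL : ∀ a : k, d (algebraMap k A a) = L (1 ⊗ₜ D ℤ k a))
    (hbot : LinearMap.ker (mapBaseChange ℤ k K) ⊓ LinearMap.ker L = ⊥) :
    CAlgX.IsAdicFormallySmooth k A (maximalIdeal A) := by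
  rw [S2471.result]
  refine ⟨‹_›, (kInj_iff hsurj).mpr ((injective_iff_map_eq_zero _).mpr fun y hy => ?_)⟩
  let E := TensorProduct.AlgebraTensorModule.cancelBaseChange k A K K Ω[k⁄ℤ]
  have h2 : L (E y) = d.liftKaehlerDifferential.liftBaseChange K ((mapBaseChange ℤ k A).lTensor K y) := by
    clear hy
    induction y using TensorProduct.induction_on with
    | zero => simp
    | add a b ha hb => simp only [map_add, ha, hb]
    | tmul c y =>
      induction y using TensorProduct.induction_on with
      | zero => simp
      | add a b ha hb => simp only [TensorProduct.tmul_add, map_add, ha, hb]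
      | tmul a z =>
        induction (KaehlerDifferential.span_range_derivation ℤ k).ge (Submodule.mem_top (x := z)) using
          Submodule.span_induction generalizing a c with
        | mem z hz =>
          obtain ⟨x, rfl⟩ := hz
          simp only [E, LinearMap.lTensor_tmul, KaehlerDifferential.mapBaseChange_tmul, KaehlerDifferential.map_D,
            LinearMap.liftBaseChange_tmul, TensorProduct.AlgebraTensorModule.cancelBaseChange_tmul, map_smul,
            Derivation.liftKaehlerDifferential_comp_D, hL]
          rw [show ((a • c) ⊗ₜ[k] D ℤ k x : K ⊗[k] Ω[k⁄ℤ]) = (a • c) • ((1 : K) ⊗ₜ[k] D ℤ k x) by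
            rw [TensorProduct.smul_tmul', smul_eq_mul, mul_one]]
          rw [map_smul, smul_assoc, smul_comm]
        | zero => simp
        | add x y _ _ hx hy => simp only [TensorProduct.tmul_add, map_add, hx, hy]
        | smul r x _ hx => rw [← TensorProduct.smul_tmul]; exact hx _ _
  have hm : E y ∈ LinearMap.ker (mapBaseChange ℤ k K) ⊓ LinearMap.ker L := by
    refine ⟨?_, ?_⟩
    · rw [SetLike.mem_coe, LinearMap.mem_ker, mapBaseChange_lTensor, hy, map_zero]
    · rw [SetLike.mem_coe, LinearMap.mem_ker, h2, hy, map_zero]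
  rw [hbot, Submodule.mem_bot] at hm
  exact E.injective (hm.trans (map_zero _).symm)

/-- The imperfection module of the residue field of an adically formally smooth algebra is finite. -/
theorem finite_imperfection_of_isAdicFormallySmooth [IsNoetherianRing A]
    (hsurj : Function.Surjective (algebraMap A K)) (h : CAlgX.IsAdicFormallySmooth k A (maximalIdeal A)) :
    Module.Finite K (EGA41.imperfection ℤ k K) := by
  classical
  let E := TensorProduct.AlgebraTensorModule.cancelBaseChange k A K K Ω[k⁄ℤ]
  let f : K ⊗[k] Ω[k⁄ℤ] →ₗ[K] K ⊗[A] Ω[A⁄ℤ] := ((mapBaseChange ℤ k A).baseChange K).comp E.symm.toLinearMap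
  have hinj : Function.Injective f := fun y y' hy =>
    E.symm.injective ((kInj_iff hsurj).mp (S2471.result.mp h).2 hy)
  let W := LinearMap.ker (mapBaseChange ℤ A K)
  have hW : Module.Finite K W := by
    refine Module.Finite.iff_fg.mpr (Submodule.FG.of_restrictScalars A ?_)
    rw [← KaehlerDifferential.range_kerCotangentToTensor ℤ A K hsurj, LinearMap.range_eq_map]
    have hN : Module.Finite A (RingHom.ker (algebraMap A K)).Cotangent :=
      Module.Finite.of_surjective _ (Ideal.toCotangent_surjective _)
    exact hN.fg_top.map _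
  have hmb : ∀ z, mapBaseChange ℤ A K z = (KaehlerDifferential.map ℤ ℤ A K).liftBaseChange K z := fun z => by
    induction z using TensorProduct.induction_on with
    | zero => simp
    | add a b ha hb => simp only [map_add, ha, hb]
    | tmul c w => rw [KaehlerDifferential.mapBaseChange_tmul, LinearMap.liftBaseChange_tmul]
  have hmem : ∀ y : EGA41.imperfection ℤ k K, f y ∈ W := fun y => by
    rw [LinearMap.mem_ker]
    have hy : mapBaseChange ℤ k K (y : K ⊗[k] Ω[k⁄ℤ]) = 0 := y.2
    rw [← E.apply_symm_apply (y : K ⊗[k] Ω[k⁄ℤ]), mapBaseChange_lTensor] at hy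
    refine Eq.trans ?_ hy
    simp only [f, LinearMap.comp_apply, LinearMap.baseChange_eq_ltensor]
    exact hmb _
  have : IsNoetherian K W := isNoetherian_of_isNoetherianRing_of_finite K W
  exact Module.Finite.of_injective ((f.comp (Submodule.subtype _)).codRestrict W hmem)
    fun y y' hy => Subtype.ext (hinj (congrArg Subtype.val hy))

end transfer

/-- Every finite imperfection module is realised by a power series ring, in every large enough dimension. -/
theorem exists_adicSmooth {k K : Type u} [Field k] [Field K] [Algebra k K]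
    [Module.Finite K (EGA41.imperfection ℤ k K)] (n : ℕ)
    (hn : Module.finrank K (EGA41.imperfection ℤ k K) ≤ n) :
    ∃ (A : Type u) (_ : CommRing A) (_ : IsLocalRing A) (_ : IsNoetherianRing A) (_ : Algebra k A),
      IsAdicComplete (maximalIdeal A) A ∧ CAlgX.IsAdicFormallySmooth k A (maximalIdeal A) ∧
      Nonempty (ResidueField A ≃ₐ[k] K) ∧ ringKrullDim A = n := by
  classical
  let Y := EGA41.imperfection ℤ k K
  let A := MvPowerSeries (Fin n) K
  have : Module.Free K Y := Module.Free.of_divisionRing K Y
  let bY := Module.finBasis K Y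
  let g : Y →ₗ[K] (Fin n → K) :=
    (Finsupp.linearEquivFunOnFinite K K (Fin n)).toLinearMap ∘ₗ
      Finsupp.lmapDomain K K (Fin.castLE hn) ∘ₗ bY.repr.toLinearMap
  have hg : Function.Injective g := by
    simp only [g, LinearMap.coe_comp, LinearEquiv.coe_coe]
    exact (Finsupp.linearEquivFunOnFinite K K (Fin n)).injective.comp
      ((Finsupp.mapDomain_injective (Fin.castLE_injective hn)).comp bY.repr.injective)
  obtain ⟨L, hL⟩ := LinearMap.exists_extend g
  let δ : k → Fin n → K := fun a => L (1 ⊗ₜ D ℤ k a)
  have hδmul : ∀ a b, δ (a * b) = algebraMap k K a • δ b + algebraMap k K b • δ a := fun a b => by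
    simp only [δ, Derivation.leibniz, TensorProduct.tmul_add, TensorProduct.tmul_smul, map_add]
    rw [← algebraMap_smul K a, ← algebraMap_smul K b, map_smul, map_smul]
  let lin : (Fin n → K) →+ A :=
    { toFun := fun v => ∑ i, MvPowerSeries.C (v i) * MvPowerSeries.X i
      map_zero' := by simp
      map_add' := fun v w => by simp [add_mul, Finset.sum_add_distrib] }
  have hlinm : ∀ v, lin v ∈ maximalIdeal A := fun v => by
    rw [← span_X_eq_maximalIdeal n K]
    exact Ideal.sum_mem (t := Finset.univ) (f := fun i => MvPowerSeries.C (v i) * MvPowerSeries.X i) _ fun i _ =>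
      Ideal.mul_mem_left _ _ (Ideal.subset_span ⟨i, rfl⟩)
  have hlin_smul : ∀ (c : K) v, lin (c • v) = MvPowerSeries.C c * lin v := fun c v => by
    simp [lin, Finset.mul_sum, mul_assoc]
  let J := maximalIdeal A ^ 2
  let f₁ : k →+* A ⧸ J :=
    { toFun := fun a => Ideal.Quotient.mk J (MvPowerSeries.C (algebraMap k K a) + lin (δ a))
      map_one' := by simp [δ]
      map_zero' := by simp [δ]
      map_add' := fun a b => by
        rw [← map_add (Ideal.Quotient.mk J)]
        congr 1
        simp only [δ, map_add, TensorProduct.tmul_add]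
        abel
      map_mul' := fun a b => by
        rw [← map_mul (Ideal.Quotient.mk J), Ideal.Quotient.mk_eq_mk_iff_sub_mem, hδmul, map_mul, map_mul, map_add lin,
          hlin_smul, hlin_smul,
          show MvPowerSeries.C (algebraMap k K a) * MvPowerSeries.C (algebraMap k K b) +
            (MvPowerSeries.C (algebraMap k K a) * lin (δ b) + MvPowerSeries.C (algebraMap k K b) * lin (δ a)) -
            (MvPowerSeries.C (algebraMap k K a) + lin (δ a)) * (MvPowerSeries.C (algebraMap k K b) + lin (δ b)) =
            -(lin (δ a) * lin (δ b)) by ring, neg_mem_iff]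
        change _ ∈ maximalIdeal A ^ 2
        rw [pow_two]
        exact Ideal.mul_mem_mul (hlinm _) (hlinm _) }
  have : Algebra.FormallySmooth (⊥ : Subfield k) k :=
    EGA41Lib.formallySmooth_of_injective (Function.injective_of_subsingleton _)
  let alg₀ : Algebra (⊥ : Subfield k) A :=
    (((MvPowerSeries.C : K →+* A).comp (algebraMap k K)).comp (⊥ : Subfield k).subtype).toAlgebra
  let f₀ : k →ₐ[(⊥ : Subfield k)] A ⧸ J :=
    { f₁ with
      commutes' := fun a => by
        have h0 : D ℤ k (a : k) = 0 := derivation_eq_zero_of_mem_bot (RingHom.id k) _ a.2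
        change Ideal.Quotient.mk J (MvPowerSeries.C (algebraMap k K a) + lin (L (1 ⊗ₜ D ℤ k (a : k)))) = _
        rw [h0, TensorProduct.tmul_zero, map_zero, map_zero, add_zero]
        rfl }
  have hcomp := isAdicComplete_powerSeries n K
  have : IsAdicComplete J A := isAdicComplete_sq _
  obtain ⟨σ, hσ⟩ := EGA41Lib.exists_lift_of_isAdicComplete (k := (⊥ : Subfield k)) J f₀
  have hσ' : ∀ a, σ a - (MvPowerSeries.C (algebraMap k K a) + lin (δ a)) ∈ J := fun a =>
    (Ideal.Quotient.mk_eq_mk_iff_sub_mem _ _).mp (hσ a)
  have hcc : ∀ a, MvPowerSeries.constantCoeff (σ a) = algebraMap k K a := fun a => by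
    have h := constantCoeff_eq_zero_of_mem n K (Ideal.pow_le_self two_ne_zero (hσ' a))
    rw [map_sub, map_add, constantCoeff_eq_zero_of_mem n K (hlinm _), add_zero, MvPowerSeries.constantCoeff_C,
      sub_eq_zero] at h
    exact h
  have hlc : ∀ a i, MvPowerSeries.coeff (Finsupp.single i 1) (σ a) = δ a i := fun a i => by
    have h := coeff_single_eq_zero_of_mem_sq n K (hσ' a) i
    rw [map_sub, map_add, MvPowerSeries.coeff_C, if_neg (by simp), zero_add, sub_eq_zero] at h
    rw [h]
    change MvPowerSeries.coeff (Finsupp.single i 1) (∑ j, MvPowerSeries.C (δ a j) * MvPowerSeries.X j) = _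
    rw [map_sum, Finset.sum_eq_single i (fun j _ hj => by
      rw [MvPowerSeries.coeff_C_mul, coeff_single_X, if_neg hj.symm, mul_zero]) (by simp),
      MvPowerSeries.coeff_C_mul, coeff_single_X, if_pos rfl, mul_one]
  let _ : Algebra k A := σ.toRingHom.toAlgebra
  let _ : Algebra A K := (MvPowerSeries.constantCoeff : A →+* K).toAlgebra
  have : IsScalarTower k A K := IsScalarTower.of_algebraMap_eq fun a => (hcc a).symm
  have hsurj : Function.Surjective (algebraMap A K) := fun c =>
    ⟨MvPowerSeries.C c, MvPowerSeries.constantCoeff_C _⟩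
  let d := intDerivation (A := A) (V := Fin n → K)
    (AddMonoidHom.mk' (fun x i => MvPowerSeries.coeff (Finsupp.single i 1) x) fun x y => funext fun i => map_add _ x y)
    fun x y => funext fun i => coeff_single_mul n K x y i
  have hreg : IsRegularLocalRing A := PP16Lib.isRegularLocalRing_mvPowerSeries n K
  have hd : ∀ a : k, d (algebraMap k A a) = L (1 ⊗ₜ D ℤ k a) := fun a => funext fun i => hlc a i
  refine ⟨A, inferInstance, inferInstance, inferInstance, inferInstance, hcomp,
    isAdicFormallySmooth_of_derivation (K := K) (V := Fin n → K) hsurj d L hd ?_,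
    ⟨(residueEquiv hsurj).restrictScalars k⟩, ringKrullDim_powerSeries n K⟩
  rw [eq_bot_iff]
  rintro y ⟨hy1, hy2⟩
  have h : g ⟨y, hy1⟩ = 0 := by
    rw [← hL]
    exact hy2
  rw [Submodule.mem_bot]
  exact congrArg Subtype.val (hg (h.trans (map_zero g).symm))

end Groth.Agent.ComplDeriv
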