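import Mathlib.FieldTheory.IntermediateField.Adjoin.Basic
import Mathlib.FieldTheory.IntermediateField.Adjoin.Algebra
import Mathlib.Algebra.TrivSqZeroExt.Basic
import Mathlib.RingTheory.Derivation.Basic
import Mathlib.RingTheory.Localization.FractionRing
import Mathlib.LinearAlgebra.LinearIndependent.Defs

/-!
# Extending derivations to finite field extensions

* `exists_derivations`: `d` independent derivations of `F` with values in a finite extension `K` give `d`
  independent derivations of `K`, whose restrictions to `F` are combinations of the given ones.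
-/

universe u

open Polynomial IntermediateField

namespace Groth.Agent.ComplDeriv

variable {k : Type u} [Field k] {K : Type u} [Field K] [Algebra k K]

/-- A derivation with values in `K` as a map to the dual numbers. -/
noncomputable def toDual {L : Type u} [CommRing L] [Algebra k L] [Algebra L K] [IsScalarTower k L K]
    (D : Derivation k L K) : L →+* TrivSqZeroExt K K where
  toFun l := (algebraMap L K l, D l)
  map_one' := TrivSqZeroExt.ext (map_one _) D.map_one_eq_zero
  map_mul' a b := TrivSqZeroExt.ext (map_mul _ a b) (by
    change D (a * b) = algebraMap L K a • D b + MulOpposite.op (algebraMap L K b) • D a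
    rw [D.leibniz, op_smul_eq_smul, algebraMap_smul, algebraMap_smul])
  map_zero' := TrivSqZeroExt.ext (map_zero _) D.map_zero
  map_add' a b := TrivSqZeroExt.ext (map_add _ a b) (D.map_add a b)

/-- A ring map to the dual numbers over the inclusion, killing `k`, is a derivation. -/
noncomputable def ofDual {S : Type u} [CommRing S] [Algebra k S] [Algebra S K] [IsScalarTower k S K]
    (φ : S →+* TrivSqZeroExt K K) (h1 : ∀ s, (φ s).fst = algebraMap S K s)
    (h2 : ∀ c, (φ (algebraMap k S c)).snd = 0) : Derivation k S K where
  toFun s := (φ s).snd
  map_add' a b := by rw [map_add, TrivSqZeroExt.snd_add]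
  map_smul' c a := by
    rw [RingHom.id_apply, Algebra.smul_def, map_mul, TrivSqZeroExt.snd_mul, h2, smul_zero, add_zero, h1,
      ← IsScalarTower.algebraMap_apply, algebraMap_smul]
  map_one_eq_zero' := by
    change (φ 1).snd = 0
    rw [map_one, TrivSqZeroExt.snd_one]
  leibniz' a b := by
    change (φ (a * b)).snd = a • (φ b).snd + b • (φ a).snd
    rw [map_mul, TrivSqZeroExt.snd_mul, h1, h1, op_smul_eq_smul, algebraMap_smul, algebraMap_smul]

/-- Extension of a derivation to the fraction field. -/
theorem exists_extend_fraction {R : Type u} [CommRing R] [Algebra k R] [Algebra R K] [IsScalarTower k R K]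
    (F : Type u) [Field F] [Algebra R F] [IsFractionRing R F] [Algebra F K] [IsScalarTower R F K]
    [Algebra k F] [IsScalarTower k F K] [IsScalarTower k R F] [IsDomain R] (D : Derivation k R K) :
    ∃ D' : Derivation k F K, ∀ r, D' (algebraMap R F r) = D r := by
  have hu : ∀ y : nonZeroDivisors R, IsUnit (toDual D y) := fun y => by
    rw [TrivSqZeroExt.isUnit_iff_isUnit_fst]
    refine isUnit_iff_ne_zero.mpr ?_
    change algebraMap R K y ≠ 0
    rw [IsScalarTower.algebraMap_apply R F K, _root_.map_ne_zero]
    exact IsFractionRing.to_map_ne_zero_of_mem_nonZeroDivisors y.2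
  let φ : F →+* TrivSqZeroExt K K := IsLocalization.lift hu
  have hφ : ∀ r, φ (algebraMap R F r) = toDual D r := IsLocalization.lift_eq hu
  refine ⟨ofDual φ (fun s => ?_) (fun c => ?_), fun r => ?_⟩
  · have h : (TrivSqZeroExt.fstHom K K K).toRingHom.comp φ = algebraMap F K := by
      refine IsLocalization.ringHom_ext (nonZeroDivisors R) (RingHom.ext fun r => ?_)
      change (φ (algebraMap R F r)).fst = algebraMap F K (algebraMap R F r)
      rw [hφ, ← IsScalarTower.algebraMap_apply]
      rfl
    exact congrArg (fun f : F →+* K => f s) h
  · rw [IsScalarTower.algebraMap_apply k R F, hφ]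
    exact D.map_algebraMap c
  · change (φ (algebraMap R F r)).snd = D r
    rw [hφ]
    rfl

variable {F : Type u} [Field F] [Algebra k F] [Algebra F K] [IsScalarTower k F K]

instance isScalarTower_intermediate (L : IntermediateField F K) : IsScalarTower k L K :=
  IsScalarTower.of_algebraMap_eq fun _ => rfl

/-- A dual number. -/
def dual (x e : K) : TrivSqZeroExt K K := (x, e)

omit [Algebra k K] [Field K] in
theorem fst_dual (x e : K) : (dual x e).fst = x := rfl

omit [Algebra k K] [Field K] in
theorem snd_dual (x e : K) : (dual x e).snd = e := rfl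

/-- Derivation applied to coefficients, evaluated at `x`. -/
noncomputable def coeffEval {L : IntermediateField F K} (D : Derivation k L K) (x : K) (f : L[X]) : K :=
  f.sum fun j a => D a * x ^ j

theorem eval₂_toDual {L : IntermediateField F K} (D : Derivation k L K) (x e : K) (f : L[X]) :
    eval₂ (toDual D) (dual x e) f =
      dual (aeval x f) (coeffEval D x f + aeval x (derivative f) * e) := by
  induction f using Polynomial.induction_on' with
  | add p q hp hq =>
    rw [eval₂_add, hp, hq]
    refine TrivSqZeroExt.ext (map_add (aeval x) p q).symm ?_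
    change (coeffEval D x p + _) + (coeffEval D x q + _) = coeffEval D x (p + q) + aeval x (derivative (p + q)) * e
    rw [coeffEval, coeffEval, coeffEval, sum_add_index p q (f := fun j a => D a * x ^ j)
      (fun j => by simp) (fun j a b => by rw [map_add, add_mul]), derivative_add, map_add]
    ring
  | monomial n a =>
    rw [eval₂_monomial]
    refine TrivSqZeroExt.ext ?_ ?_
    · rw [TrivSqZeroExt.fst_mul, TrivSqZeroExt.fst_pow, fst_dual]
      change algebraMap L K a * x ^ n = aeval x (monomial n a)
      rw [aeval_monomial]
    · rw [TrivSqZeroExt.snd_mul, TrivSqZeroExt.fst_pow, TrivSqZeroExt.snd_pow, op_smul_eq_smul, fst_dual, snd_dual,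
        snd_dual]
      change algebraMap L K a • (n • (x ^ n.pred • e)) + x ^ n • D a =
        coeffEval D x (monomial n a) + aeval x (derivative (monomial n a)) * e
      rw [coeffEval, sum_monomial_index a _ (by simp), derivative_monomial, aeval_monomial, map_mul, map_natCast]
      simp only [smul_eq_mul, nsmul_eq_mul, Nat.pred_eq_sub_one]
      ring

theorem exists_extend (L : IntermediateField F K) (x : K) (hx : IsIntegral L x) (D : Derivation k L K) (e : K)
    (h : coeffEval D x (minpoly L x) + aeval x (derivative (minpoly L x)) * e = 0) :
    ∃ D' : Derivation k (L⟮x⟯ : IntermediateField L K) K,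
      (∀ l : L, D' (algebraMap L L⟮x⟯ l) = D l) ∧ D' (AdjoinSimple.gen L x) = e := by
  have hroot : eval₂ (toDual D) (dual x e) (minpoly L x) = 0 := by
    rw [eval₂_toDual, minpoly.aeval, h]
    rfl
  let ev := (adjoinRootEquivAdjoin L hx).symm
  let φ : (L⟮x⟯ : IntermediateField L K) →+* TrivSqZeroExt K K :=
    (AdjoinRoot.lift (toDual D) _ hroot).comp ev.toRingEquiv.toRingHom
  have hof : ∀ l : L, φ (algebraMap L L⟮x⟯ l) = toDual D l := fun l => by
    change AdjoinRoot.lift (toDual D) _ hroot (ev (algebraMap L L⟮x⟯ l)) = _
    rw [ev.commutes, AdjoinRoot.algebraMap_eq, AdjoinRoot.lift_of]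
  have hgen : φ (AdjoinSimple.gen L x) = (dual x e) := by
    change AdjoinRoot.lift (toDual D) _ hroot (ev (AdjoinSimple.gen L x)) = _
    rw [show ev (AdjoinSimple.gen L x) = AdjoinRoot.root (minpoly L x) from
      adjoinRootEquivAdjoin_symm_apply_gen L hx, AdjoinRoot.lift_root]
  have h1 : ∀ s, (φ s).fst = algebraMap L⟮x⟯ K s := by
    have key : (TrivSqZeroExt.fstHom K K K).toRingHom.comp (AdjoinRoot.lift (toDual D) _ hroot) =
        (algebraMap L⟮x⟯ K).comp (adjoinRootEquivAdjoin L hx).toRingEquiv.toRingHom := by
      refine AdjoinRoot.ringHom_ext (RingHom.ext fun l => ?_) ?_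
      · change (AdjoinRoot.lift (toDual D) _ hroot (AdjoinRoot.of _ l)).fst =
          algebraMap L⟮x⟯ K (adjoinRootEquivAdjoin L hx (AdjoinRoot.of _ l))
        rw [AdjoinRoot.lift_of, ← AdjoinRoot.algebraMap_eq, AlgEquiv.commutes]
        rfl
      · change (AdjoinRoot.lift (toDual D) _ hroot (AdjoinRoot.root _)).fst =
          algebraMap L⟮x⟯ K (adjoinRootEquivAdjoin L hx (AdjoinRoot.root _))
        rw [AdjoinRoot.lift_root, adjoinRootEquivAdjoin_apply_root]
        rfl
    intro s
    have := congrArg (fun f : AdjoinRoot (minpoly L x) →+* K => f (ev s)) key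
    change (φ s).fst = algebraMap L⟮x⟯ K (adjoinRootEquivAdjoin L hx (ev s)) at this
    rwa [AlgEquiv.apply_symm_apply] at this
  refine ⟨ofDual φ h1 (fun c => ?_), fun l => ?_, ?_⟩
  · rw [IsScalarTower.algebraMap_apply k L L⟮x⟯, hof]
    exact D.map_algebraMap c
  · change (φ (algebraMap L L⟮x⟯ l)).snd = D l
    rw [hof]
    rfl
  · change (φ (AdjoinSimple.gen L x)).snd = e
    rw [hgen]
    rfl

/-- The restriction of a derivation of an intermediate field to the bottom field. -/
noncomputable def restr {L : IntermediateField F K} (D : Derivation k L K) : F → K :=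
  fun y => D (algebraMap F L y)

/-- One can keep `d` independent derivations through any finite extension. -/
theorem exists_derivations [FiniteDimensional F K] {d : ℕ} (D : Fin d → Derivation k F K)
    (hD : LinearIndependent K fun i => (D i : F → K)) :
    ∃ E : Fin d → Derivation k K K, LinearIndependent K (fun i => (E i : K → K)) ∧
      ∀ i, (fun y : F => E i (algebraMap F K y)) ∈ Submodule.span K (Set.range fun j => (D j : F → K)) := by
  classical
  let V := Submodule.span K (Set.range fun j => (D j : F → K))
  let P : IntermediateField F K → Prop := fun L => ∃ E : Fin d → Derivation k L K,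
    LinearIndependent K (fun i => (E i : L → K)) ∧ ∀ i, restr (E i) ∈ V
  suffices h : P ⊤ by
    obtain ⟨E, hE, hEV⟩ := h
    let e : K →ₐ[k] (⊤ : IntermediateField F K) :=
      ((IntermediateField.topEquiv (F := F) (E := K)).symm.toAlgHom).restrictScalars k
    let E' : Fin d → Derivation k K K := fun i =>
      { toFun := fun y => E i (e y)
        map_add' := fun a b => by rw [map_add, map_add]
        map_smul' := fun c a => by rw [map_smul, Derivation.map_smul, RingHom.id_apply]
        map_one_eq_zero' := by
          change E i (e 1) = 0
          rw [map_one, Derivation.map_one_eq_zero]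
        leibniz' := fun a b => by
          change E i (e (a * b)) = _
          rw [map_mul, Derivation.leibniz]
          rfl }
    refine ⟨E', ?_, hEV⟩
    rw [Fintype.linearIndependent_iff] at hE ⊢
    intro g hg
    refine hE g (funext fun y => ?_)
    have := congrFun hg (y : K)
    simp only [Finset.sum_apply, Pi.smul_apply, Pi.zero_apply] at this ⊢
    exact this
  refine IntermediateField.induction_on_adjoin P ?_ (fun L x hL => ?_) ⊤
  · let e : (⊥ : IntermediateField F K) →ₐ[k] F := ((IntermediateField.botEquiv F K).toAlgHom).restrictScalars k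
    have he : ∀ y, algebraMap F K (e y) = (y : K) := fun y => by
      obtain ⟨c, rfl⟩ : ∃ c : F, algebraMap F (⊥ : IntermediateField F K) c = y := by
        obtain ⟨c, hc⟩ := IntermediateField.mem_bot.mp y.2
        exact ⟨c, Subtype.ext hc⟩
      change algebraMap F K (IntermediateField.botEquiv F K (algebraMap F _ c)) = _
      rw [IntermediateField.botEquiv_def]
      rfl
    let E : Fin d → Derivation k (⊥ : IntermediateField F K) K := fun i =>
      { toFun := fun y => D i (e y)
        map_add' := fun a b => by rw [map_add, map_add]
        map_smul' := fun c a => by rw [map_smul, Derivation.map_smul, RingHom.id_apply]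
        map_one_eq_zero' := by
          change D i (e 1) = 0
          rw [map_one, Derivation.map_one_eq_zero]
        leibniz' := fun a b => by
          change D i (e (a * b)) = _
          rw [map_mul, Derivation.leibniz, ← algebraMap_smul K (e a), ← algebraMap_smul K (e b), he, he]
          rfl }
    have hres : ∀ i, restr (E i) = (D i : F → K) := fun i => funext fun y => congrArg (D i) (by
      change IntermediateField.botEquiv F K (algebraMap F _ y) = y
      rw [IntermediateField.botEquiv_def])
    refine ⟨E, ?_, fun i => (hres i).symm ▸ Submodule.subset_span ⟨i, rfl⟩⟩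
    rw [Fintype.linearIndependent_iff] at hD ⊢
    intro g hg
    refine hD g (funext fun y => ?_)
    have := congrFun hg (algebraMap F (⊥ : IntermediateField F K) y)
    simp only [Finset.sum_apply, Pi.smul_apply, Pi.zero_apply] at this ⊢
    convert this using 3 with i
    exact (congrFun (hres i) y).symm
  · obtain ⟨E, hE, hEV⟩ := hL
    have hx : IsIntegral L x := (Algebra.IsIntegral.isIntegral (R := F) x).tower_top
    let c : Fin d → K := fun i => coeffEval (E i) x (minpoly L x)
    let f' := aeval x (derivative (minpoly L x))
    -- modified derivations, with extension values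
    obtain ⟨G, ε, hG0, hGV, hind⟩ : ∃ (G : Fin d → Derivation k L K) (ε : Fin d → K),
        (∀ i, coeffEval (G i) x (minpoly L x) + f' * ε i = 0) ∧ (∀ i, restr (G i) ∈ V) ∧
        ∀ g : Fin d → K, (∑ i, g i • (G i : L → K)) = 0 → ∑ i, g i * ε i = 0 → ∀ i, g i = 0 := by
      have hlin := Fintype.linearIndependent_iff.mp hE
      by_cases hf : f' = 0
      · by_cases hc : ∀ i, c i = 0
        · exact ⟨E, fun _ => 0, fun i => by rw [mul_zero, add_zero]; exact hc i, hEV, fun g hg _ => hlin g hg⟩
        push Not at hc
        obtain ⟨i₀, hi₀⟩ := hc
        refine ⟨fun i => if i = i₀ then 0 else E i - (c i / c i₀) • E i₀, fun i => if i = i₀ then 1 else 0,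
          fun i => ?_, fun i => ?_, fun g hg hg' i => ?_⟩
        · simp only [hf, zero_mul, add_zero]
          split_ifs
          · simp [coeffEval, Polynomial.sum_def]
          · have : coeffEval (E i - (c i / c i₀) • E i₀) x (minpoly L x) = c i - c i / c i₀ * c i₀ := by
              simp only [coeffEval, Polynomial.sum_def, c, Derivation.sub_apply, Derivation.smul_apply,
                smul_eq_mul, sub_mul, Finset.sum_sub_distrib, mul_assoc, ← Finset.mul_sum]
            rw [this, div_mul_cancel₀ _ hi₀, sub_self]
        · dsimp only
          split_ifs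
          · exact (show restr (0 : Derivation k L K) = 0 from rfl) ▸ V.zero_mem
          · exact V.sub_mem (hEV i) (V.smul_mem _ (hEV i₀))
        · have h0 : g i₀ = 0 := by
            simpa [Finset.sum_ite_eq', mul_ite] using hg'
          let g' : Fin d → K := fun j => if j = i₀ then -∑ l ∈ Finset.univ.erase i₀, g l * (c l / c i₀) else g j
          have hzero : ∑ j, g' j • (E j : L → K) = 0 := by
            refine Eq.trans ?_ hg
            funext y
            simp only [Finset.sum_apply, Pi.smul_apply, smul_eq_mul]
            rw [← Finset.add_sum_erase _ _ (Finset.mem_univ i₀), ← Finset.add_sum_erase _ (fun j =>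
              g j * (if j = i₀ then (0 : Derivation k L K) else E j - (c j / c i₀) • E i₀) y) (Finset.mem_univ i₀)]
            simp only [g', if_true, Derivation.zero_apply, mul_zero, zero_add, neg_mul, Finset.sum_mul]
            rw [← Finset.sum_neg_distrib, ← Finset.sum_add_distrib]
            refine Finset.sum_congr rfl fun j hj => ?_
            rw [if_neg (Finset.ne_of_mem_erase hj), if_neg (Finset.ne_of_mem_erase hj), Derivation.sub_apply,
              Derivation.smul_apply, smul_eq_mul]
            ring
          by_cases hi : i = i₀
          · exact hi ▸ h0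
          · simpa [g', hi] using hlin g' hzero i
      · refine ⟨E, fun i => -c i / f', fun i => ?_, hEV, fun g hg _ => hlin g hg⟩
        rw [mul_div_cancel₀ _ hf]
        exact add_neg_cancel _
    choose E' hE'1 hE'2 using fun i => exists_extend L x hx (G i) (ε i) (hG0 i)
    refine ⟨E', Fintype.linearIndependent_iff.mpr fun g hg => hind g (funext fun l => ?_) ?_, fun i => ?_⟩
    · have h := (Finset.sum_apply (algebraMap L L⟮x⟯ l) _ _).symm.trans (congrFun hg _)
      simp only [Finset.sum_apply, Pi.smul_apply, Pi.zero_apply]
      exact Eq.trans (Finset.sum_congr rfl fun i _ => congrArg (g i • ·) (hE'1 i l).symm) h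
    · have h := (Finset.sum_apply (AdjoinSimple.gen L x) _ _).symm.trans (congrFun hg _)
      exact Eq.trans (Finset.sum_congr rfl fun i _ => congrArg (g i * ·) (hE'2 i).symm) h
    · convert hGV i using 1
      funext y
      exact hE'1 i (algebraMap F L y)

end Groth.Agent.ComplDeriv
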