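import Groth.Agent.ComplDeriv.Unram
import Groth.Agent.AdicLim.Noetherian

/-!
# Independence of differentials at a prime
-/

universe u

open IsLocalRing

namespace Groth.Agent.ComplDeriv

variable (k A : Type u) [Field k] [CommRing A] [IsLocalRing A] [IsNoetherianRing A] [Algebra k A]
  [IsAdicComplete (maximalIdeal A) A] [Module.Finite k (ResidueField A)]

theorem linearIndependent_of_span (q p : Ideal A) [q.IsPrime] [p.IsPrime] (hqp : q ≤ p) (n : ℕ)
    (hdim : ringKrullDim (A ⧸ q) = n) (hbot : q.map (algebraMap A (Localization.AtPrime p)) = ⊥)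
    (f : Fin n → A) (hspan : ∀ z, ∃ s ∉ p, s • z ∈ Submodule.span A (Set.range fun i => dOm k A (f i))) :
    LinearIndependent (Localization.AtPrime p)
      (fun i => LocalizedModule.mkLinearMap p.primeCompl (Om k A) (dOm k A (f i))) := by
  classical
  let B := A ⧸ q
  have : IsLocalRing B := .of_surjective' (Ideal.Quotient.mk q) Ideal.Quotient.mk_surjective
  have : IsAdicComplete (maximalIdeal B) B := by
    rw [← map_maximalIdeal_of_surjective (Ideal.Quotient.mk q) Ideal.Quotient.mk_surjective]
    exact AdicLim.isAdicComplete_quotient q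
  have hloc : IsLocalHom (Ideal.Quotient.mk q) :=
    IsLocalHom.of_surjective _ Ideal.Quotient.mk_surjective
  have : Module.Finite k (ResidueField B) := by
    let g : ResidueField A →ₗ[k] ResidueField B :=
      { toFun := ResidueField.map (Ideal.Quotient.mk q)
        map_add' := map_add _
        map_smul' := fun c x => by
          obtain ⟨x, rfl⟩ := residue_surjective x
          rw [RingHom.id_apply, Algebra.smul_def, Algebra.smul_def, map_mul]
          rfl }
    refine Module.Finite.of_surjective g fun y => ?_
    obtain ⟨y, rfl⟩ := residue_surjective y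
    obtain ⟨y, rfl⟩ := Ideal.Quotient.mk_surjective y
    exact ⟨residue A y, rfl⟩
  obtain ⟨d, D, hd, hD⟩ := exists_derivations_domain k B
  have hdn : d = n := by exact_mod_cast hd.symm.trans hdim
  subst hdn
  let δ : Derivation k A (Fin d → B) :=
    { toFun := fun a i => D i (Ideal.Quotient.mk q a)
      map_add' := fun a b => funext fun i => by rw [map_add, map_add]; rfl
      map_smul' := fun c a => funext fun i => by
        change D i (Ideal.Quotient.mk q (c • a)) = c • D i (Ideal.Quotient.mk q a)
        rw [← Derivation.map_smul]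
        rfl
      map_one_eq_zero' := funext fun i => by
        change D i (Ideal.Quotient.mk q 1) = 0
        rw [map_one, Derivation.map_one_eq_zero]
      leibniz' := fun a b => funext fun i => by
        change D i (Ideal.Quotient.mk q (a * b)) =
          a • D i (Ideal.Quotient.mk q b) + b • D i (Ideal.Quotient.mk q a)
        rw [map_mul, Derivation.leibniz, smul_eq_mul, smul_eq_mul, Algebra.smul_def, Algebra.smul_def]
        rfl }
  obtain ⟨lh, hlh⟩ := exists_lift k A δ
  let K := FractionRing B
  let π : A →+* K := (algebraMap B K).comp (Ideal.Quotient.mk q)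
  have hπ : ∀ s ∉ p, π s ≠ 0 := fun s hs h => hs (hqp (Ideal.Quotient.eq_zero_iff_mem.mp
    (IsFractionRing.injective B K (h.trans (map_zero _).symm))))
  let T : (Fin d → B) →ₗ[A] (Fin d → K) :=
    { toFun := fun v j => algebraMap B K (v j)
      map_add' := fun u v => funext fun j => map_add _ _ _
      map_smul' := fun a v => funext fun j => by
        change algebraMap B K (a • v j) = a • algebraMap B K (v j)
        rw [Algebra.smul_def, Algebra.smul_def, map_mul]
        rfl }
  have hTsmul : ∀ (a : A) (v : Fin d → K), a • v = π a • v := fun a v => funext fun j => by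
    change a • v j = π a * v j
    rw [Algebra.smul_def]; rfl
  let φ := T ∘ₗ lh
  let Mx : (Fin d → K) →ₗ[K] (Fin d → K) :=
    LinearMap.pi fun i => Fintype.linearCombination K (φ (dOm k A (f i)))
  have hMx : Function.Injective Mx := by
    rw [← LinearMap.ker_eq_bot, eq_bot_iff]
    intro γ hγ
    refine (Submodule.mem_bot _).mpr (funext (hD γ fun b => ?_))
    obtain ⟨a, rfl⟩ := Ideal.Quotient.mk_surjective b
    obtain ⟨s, hs, hsa⟩ := hspan (dOm k A a)
    obtain ⟨c, hc⟩ := Submodule.mem_span_range_iff_exists_fun A |>.mp hsa
    have h1 := congrArg φ hc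
    simp only [map_sum, map_smul] at h1
    have h2 : φ (dOm k A a) = fun j => algebraMap B K (D j (Ideal.Quotient.mk q a)) := by
      change T (lh (dOm k A a)) = _
      rw [hlh]; rfl
    have h3 : ∀ i, ∑ j, γ j * φ (dOm k A (f i)) j = 0 := fun i => by
      have := congrFun (LinearMap.mem_ker.mp hγ) i
      simpa [Mx, Fintype.linearCombination_apply] using this
    refine (mul_eq_zero.mp ?_).resolve_left (hπ s hs)
    calc π s * ∑ j, γ j * algebraMap B K (D j (Ideal.Quotient.mk q a))
        = ∑ j, γ j * (s • φ (dOm k A a)) j := by
          rw [hTsmul, Finset.mul_sum]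
          exact Finset.sum_congr rfl fun j _ => by rw [Pi.smul_apply, smul_eq_mul, h2]; ring
      _ = ∑ i, π (c i) * ∑ j, γ j * φ (dOm k A (f i)) j := by
          rw [← h1]
          simp only [Finset.sum_apply, hTsmul, Pi.smul_apply, smul_eq_mul]
          rw [Finset.sum_congr rfl fun x _ => Finset.mul_sum Finset.univ _ _]
          rw [Finset.sum_comm]
          exact Finset.sum_congr rfl fun i _ => (Finset.sum_congr rfl fun j _ => by ring).trans (Finset.mul_sum Finset.univ _ _).symm
      _ = 0 := by simp [h3]
  have hsurj := LinearMap.surjective_of_injective hMx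
  rw [Fintype.linearIndependent_iff]
  intro c hc
  obtain ⟨t, ht⟩ := IsLocalization.exist_integer_multiples p.primeCompl Finset.univ c
  choose a ha using fun i => ht i (Finset.mem_univ i)
  have h0 : LocalizedModule.mkLinearMap p.primeCompl (Om k A) (∑ i, a i • dOm k A (f i)) = 0 := by
    rw [map_sum, ← smul_zero (t : A), ← hc, Finset.smul_sum]
    refine Finset.sum_congr rfl fun i _ => ?_
    rw [map_smul, ← algebraMap_smul (Localization.AtPrime p) (a i)]
    rw [show algebraMap A (Localization.AtPrime p) (a i) = (t : A) • c i from ha i, smul_assoc]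
  obtain ⟨⟨s, hs⟩, hsz⟩ := (IsLocalizedModule.eq_zero_iff p.primeCompl _).mp h0
  have h4 : ∑ i, π (a i) • φ (dOm k A (f i)) = 0 := by
    have := congrArg φ hsz
    rw [Submonoid.smul_def, map_smul, map_zero, map_sum, hTsmul] at this
    simp only [map_smul, hTsmul] at this
    exact (smul_eq_zero.mp this).resolve_left (hπ s hs)
  have hπa : ∀ i, π (a i) = 0 := by
    intro i
    obtain ⟨γ, hγ⟩ := hsurj (Pi.single i 1)
    have h5 : ∑ l, π (a l) * Mx γ l = 0 := by
      calc ∑ l, π (a l) * Mx γ l = ∑ j, γ j * (∑ l, π (a l) • φ (dOm k A (f l))) j := by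
            simp only [Mx, LinearMap.pi_apply, Fintype.linearCombination_apply, smul_eq_mul, Finset.sum_apply,
              Pi.smul_apply]
            rw [Finset.sum_congr rfl fun x _ => Finset.mul_sum Finset.univ _ _]
            rw [Finset.sum_comm]
            exact Finset.sum_congr rfl fun i _ => (Finset.sum_congr rfl fun j _ => by ring).trans (Finset.mul_sum Finset.univ _ _).symm
        _ = 0 := by rw [h4]; simp
    rw [hγ] at h5
    simpa [Pi.single_apply] using h5
  intro i
  have h6 : algebraMap A (Localization.AtPrime p) (a i) = 0 := by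
    rw [← Ideal.mem_bot, ← hbot]
    exact Ideal.mem_map_of_mem _ (Ideal.Quotient.eq_zero_iff_mem.mp
      (IsFractionRing.injective B K ((hπa i).trans (map_zero _).symm)))
  rw [ha i, Algebra.smul_def] at h6
  exact (IsLocalization.map_units (Localization.AtPrime p) t).mul_right_eq_zero.mp h6

end Groth.Agent.ComplDeriv
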