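import Groth.Agent.ComplDeriv.Omega

/-!
# Parameters with prescribed differentials

`exists_parameters_span`: in a complete local `k`-algebra `A` of dimension at most `M` there are `M`
elements of the maximal ideal generating an ideal primary to it whose differentials generate `Ω̂`
at a given non-closed prime `p`, as soon as the fibre of `Ω̂` at `p` has dimension at most `M`.
-/

universe u

open IsLocalRing TensorProduct

namespace Groth.Agent.ComplDeriv

variable (k A : Type u) [Field k] [CommRing A] [IsLocalRing A] [Algebra k A]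

/-- The differential at a point. -/
noncomputable def dAt (p : Ideal A) [p.IsPrime] (a : A) : p.ResidueField ⊗[A] Om k A := 1 ⊗ₜ dOm k A a

theorem dAt_add (p : Ideal A) [p.IsPrime] (a b : A) : dAt k A p (a + b) = dAt k A p a + dAt k A p b := by
  rw [dAt, map_add, tmul_add]; rfl

theorem dAt_mul (p : Ideal A) [p.IsPrime] (a b : A) :
    dAt k A p (a * b) =
      algebraMap A p.ResidueField a • dAt k A p b + algebraMap A p.ResidueField b • dAt k A p a := by
  rw [dAt, Derivation.leibniz, tmul_add, tmul_smul, tmul_smul, algebraMap_smul, algebraMap_smul]; rfl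

omit [Algebra k A] in
theorem exists_mem_maximalIdeal_notMem {S : Set (Ideal A)} (hS : S.Finite)
    (hS' : ∀ P ∈ S, P.IsPrime ∧ P ≠ maximalIdeal A) : ∃ g ∈ maximalIdeal A, ∀ P ∈ S, g ∉ P := by
  by_contra h
  push Not at h
  obtain ⟨P, hP, hle⟩ := (Ideal.subset_union_prime_finite hS (f := id) (maximalIdeal A) (maximalIdeal A)
    (fun P hP _ _ => (hS' P hP).1)).mp (fun g hg => by
      obtain ⟨P, hP, hgP⟩ := h g hg
      exact Set.mem_biUnion hP hgP)
  exact (hS' P hP).2 ((maximalIdeal.isMaximal A).eq_of_le (hS' P hP).1.ne_top hle).symm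

variable [IsNoetherianRing A] [IsAdicComplete (maximalIdeal A) A]

omit [IsNoetherianRing A] [IsAdicComplete (maximalIdeal A) A] in
theorem exists_constants (p : Ideal A) [p.IsPrime] (hp : p ≠ maximalIdeal A) {S : Set (Ideal A)} (hS : S.Finite)
    (hS' : ∀ P ∈ S, P.IsPrime ∧ P ≠ maximalIdeal A) :
    ∃ c : ℕ → A, (∀ j, dAt k A p (c j) = 0) ∧ (∀ j, c j ∉ p) ∧ ∀ i j, i < j → ∀ P ∈ S, c j - c i ∉ P := by
  obtain ⟨q, hq⟩ := CharP.exists k
  by_cases hq0 : q = 0
  · subst hq0
    have := CharP.charP_to_charZero k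
    refine ⟨fun j => algebraMap k A (j + 1), fun j => ?_, fun j h => ?_, fun i j hij P hP h => ?_⟩
    · rw [dAt, Derivation.map_algebraMap, tmul_zero]
    · refine Ideal.IsPrime.ne_top ‹_› (Ideal.eq_top_of_isUnit_mem _ h (IsUnit.map _ ?_))
      exact isUnit_iff_ne_zero.mpr (Nat.cast_add_one_ne_zero j)
    · refine (hS' P hP).1.ne_top (Ideal.eq_top_of_isUnit_mem _ h ?_)
      rw [← map_sub]
      refine IsUnit.map _ (isUnit_iff_ne_zero.mpr ?_)
      rw [sub_ne_zero, ne_eq, add_left_inj, Nat.cast_inj]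
      omega
  · obtain ⟨g, hg, hgS⟩ := exists_mem_maximalIdeal_notMem A (hS.insert p)
      (by rintro P (rfl | hP); exacts [⟨‹_›, hp⟩, hS' P hP])
    refine ⟨fun j => g ^ (q * (j + 1)), fun j => ?_, fun j h => ?_, fun i j hij P hP h => ?_⟩
    · rw [dAt, Derivation.leibniz_pow, ← Nat.cast_smul_eq_nsmul k, Nat.cast_mul, CharP.cast_eq_zero, zero_mul,
        zero_smul, tmul_zero]
    · exact hgS p (Set.mem_insert _ _) (Ideal.IsPrime.mem_of_pow_mem ‹_› _ h)
    · have := (hS' P hP).1
      simp only at h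
      rw [show q * (j + 1) = q * (i + 1) + q * (j - i) by rw [← Nat.mul_add]; congr 1; omega, pow_add,
        show g ^ (q * (i + 1)) * g ^ (q * (j - i)) - g ^ (q * (i + 1)) =
          g ^ (q * (i + 1)) * (g ^ (q * (j - i)) - 1) by ring] at h
      rcases this.mem_or_mem h with h | h
      · exact hgS P (Set.mem_insert_of_mem _ hP) (this.mem_of_pow_mem _ h)
      · refine this.ne_top (Ideal.eq_top_of_isUnit_mem _ h ?_)
        have hpos : q * (j - i) ≠ 0 := Nat.mul_ne_zero hq0 (by omega)
        by_contra hu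
        have h1 : g ^ (q * (j - i)) - 1 ∈ maximalIdeal A := (mem_maximalIdeal _).mpr hu
        have h2 : g ^ (q * (j - i)) ∈ maximalIdeal A := Ideal.pow_mem_of_mem _ hg _ (Nat.pos_of_ne_zero hpos)
        have := Ideal.sub_mem _ h2 h1
        rw [sub_sub_cancel] at this
        exact (maximalIdeal.isMaximal A).ne_top ((Ideal.eq_top_iff_one _).mpr this)

variable [Module.Finite k (ResidueField A)]

theorem span_dAt_eq_top (p : Ideal A) [p.IsPrime] :
    Submodule.span p.ResidueField (Set.range (dAt k A p)) = ⊤ := by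
  obtain ⟨hfin, n, y, hy⟩ := exists_finite_gen k A
  refine eq_top_iff.mpr (le_trans ?_ (Submodule.span_mono (Set.range_comp_subset_range y (dAt k A p))))
  exact ((span_fibre_eq_top_iff A p fun i => dOm k A (y i)).mpr fun z =>
    ⟨1, (Ideal.ne_top_iff_one p).mp Ideal.IsPrime.ne_top', by rw [hy]; trivial⟩).ge

theorem exists_mem_maximalIdeal_dAt_notMem (p : Ideal A) [p.IsPrime] (hp : p ≠ maximalIdeal A)
    (W : Submodule p.ResidueField (p.ResidueField ⊗[A] Om k A)) (hW : W ≠ ⊤) :
    ∃ h ∈ maximalIdeal A, dAt k A p h ∉ W := by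
  by_contra hall
  push Not at hall
  refine hW (eq_top_iff.mpr ((span_dAt_eq_top k A p).ge.trans (Submodule.span_le.mpr ?_)))
  rintro _ ⟨a, rfl⟩
  obtain ⟨g, hg, hgp⟩ := exists_mem_maximalIdeal_notMem A (Set.finite_singleton p)
    (by rintro P rfl; exact ⟨‹_›, hp⟩)
  have h0 : algebraMap A p.ResidueField g ≠ 0 := by
    rw [ne_eq, Ideal.algebraMap_residueField_eq_zero]; exact hgp p rfl
  have h1 := hall _ (Ideal.mul_mem_right a _ hg)
  rw [dAt_mul] at h1
  have h2 : algebraMap A p.ResidueField g • dAt k A p a ∈ W := by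
    simpa using W.sub_mem h1 (W.smul_mem (algebraMap A p.ResidueField a) (hall g hg))
  have h3 := W.smul_mem (algebraMap A p.ResidueField g)⁻¹ h2
  rwa [smul_smul, inv_mul_cancel₀ h0, one_smul] at h3

/-- **Parameters with prescribed differentials.** -/
theorem exists_parameters_span (p : Ideal A) [p.IsPrime] (hp : p ≠ maximalIdeal A) (M : ℕ)
    (hM : ringKrullDim A ≤ M) (hV : Module.finrank p.ResidueField (p.ResidueField ⊗[A] Om k A) ≤ M) :
    ∃ (f : Fin M → A) (_ : ∀ i, f i ∈ maximalIdeal A),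
      (∀ z, ∃ s ∉ p, s • z ∈ Submodule.span A (Set.range fun i => dOm k A (f i))) ∧
      ∃ N, maximalIdeal A ^ N ≤ Ideal.span (Set.range f) := by
  classical
  have hfinOm := (exists_finite_gen k A).1
  let V := p.ResidueField ⊗[A] Om k A
  suffices key : ∀ j ≤ M, ∃ f : Fin j → A, (∀ i, f i ∈ maximalIdeal A) ∧
      (∀ P : PrimeSpectrum A, Set.range f ⊆ P.asIdeal →
        P.asIdeal = maximalIdeal A ∨ Order.coheight P + (j : ℕ∞) ≤ M) ∧
      (Submodule.span p.ResidueField (Set.range (dAt k A p ∘ f)) = ⊤ ∨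
        j ≤ Module.finrank p.ResidueField (Submodule.span p.ResidueField (Set.range (dAt k A p ∘ f)))) by
    obtain ⟨f, hf, hP, hsp⟩ := key M le_rfl
    have htop : Submodule.span p.ResidueField (Set.range (dAt k A p ∘ f)) = ⊤ :=
      hsp.elim id fun h => Submodule.eq_top_of_finrank_eq (le_antisymm (Submodule.finrank_le _) (hV.trans h))
    refine ⟨f, hf, (span_fibre_eq_top_iff A p fun i => dOm k A (f i)).mp htop, ?_⟩
    have hrad : maximalIdeal A ≤ (Ideal.span (Set.range f)).radical := by
      rw [Ideal.radical_eq_sInf]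
      refine le_sInf ?_
      rintro P ⟨hle, hPp⟩
      rcases hP ⟨P, hPp⟩ (fun x hx => hle (Ideal.subset_span hx)) with h | h
      · exact h.ge
      · have h0 : Order.coheight (⟨P, hPp⟩ : PrimeSpectrum A) = 0 := by
          refine le_antisymm ?_ zero_le
          exact (ENat.add_le_add_iff_right (ENat.natCast_ne_top M)).mp (h.trans (zero_add _).ge)
        rw [Order.coheight_eq_zero] at h0
        exact @h0 ⟨maximalIdeal A, inferInstance⟩ (show P ≤ maximalIdeal A from le_maximalIdeal hPp.ne_top)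
    obtain ⟨N, hN⟩ := Ideal.exists_radical_pow_le_of_fg (Ideal.span (Set.range f)) (IsNoetherian.noetherian _)
    exact ⟨N, (Ideal.pow_right_mono hrad N).trans hN⟩
  intro j
  induction j with
  | zero =>
    refine fun _ => ⟨Fin.elim0, fun i => i.elim0, fun P _ => Or.inr ?_, Or.inr (Nat.zero_le _)⟩
    rw [Nat.cast_zero, add_zero, ← WithBot.coe_le_coe]
    exact (Order.coheight_le_krullDim P).trans hM
  | succ j ih =>
    intro hj
    obtain ⟨f, hf, hP, hsp⟩ := ih (by omega)
    let I := Ideal.span (Set.range f)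
    let S : Set (Ideal A) := I.minimalPrimes \ {maximalIdeal A}
    have hS : S.Finite := (Ideal.finite_minimalPrimes_of_isNoetherianRing A I).subset Set.sdiff_subset
    have hS' : ∀ P ∈ S, P.IsPrime ∧ P ≠ maximalIdeal A := fun P hP => ⟨hP.1.1.1, hP.2⟩
    obtain ⟨f0, hf0, hf0S⟩ := exists_mem_maximalIdeal_notMem A hS hS'
    let W := Submodule.span p.ResidueField (Set.range (dAt k A p ∘ f))
    obtain ⟨x, hx, hxS, hxW⟩ : ∃ x ∈ maximalIdeal A, (∀ P ∈ S, x ∉ P) ∧ (W = ⊤ ∨ dAt k A p x ∉ W) := by
      by_cases hW : W = ⊤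
      · exact ⟨f0, hf0, hf0S, Or.inl hW⟩
      by_cases h0 : dAt k A p f0 ∈ W
      swap
      · exact ⟨f0, hf0, hf0S, Or.inr h0⟩
      obtain ⟨h, hh, hhW⟩ := exists_mem_maximalIdeal_dAt_notMem k A p hp W hW
      obtain ⟨c, hc0, hcp, hcS⟩ := exists_constants k A p hp hS hS'
      obtain ⟨i, hi⟩ : ∃ i, ∀ P ∈ S, f0 + c i * h ∉ P := by
        by_contra hno
        push Not at hno
        choose P hP hPi using hno
        have : Fintype S := hS.fintype
        obtain ⟨a, b, hab, heq⟩ := Finite.exists_ne_map_eq_of_infinite (fun i => (⟨P i, hP i⟩ : S))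
        simp only [Subtype.mk.injEq] at heq
        rcases Nat.lt_or_gt_of_ne hab with hlt | hlt
        all_goals
          have hd := Ideal.sub_mem _ (hPi _) (heq ▸ hPi _)
          rw [add_sub_add_left_eq_sub, ← sub_mul] at hd
          rcases (hS' _ (hP _)).1.mem_or_mem hd with hd | hd
          · first | exact hcS _ _ hlt _ (hP _) hd | exact hcS _ _ hlt _ (hP _) (neg_sub (c _) (c _) ▸ neg_mem hd)
          · exact hf0S _ (hP _) ((Ideal.add_mem_iff_left _ (Ideal.mul_mem_left _ _ hd)).mp (hPi _))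
      refine ⟨f0 + c i * h, Ideal.add_mem _ hf0 (Ideal.mul_mem_left _ _ hh), hi, Or.inr fun hmem => hhW ?_⟩
      rw [dAt_add, dAt_mul, hc0, smul_zero, add_zero] at hmem
      have h1 := (W.add_mem_iff_right h0).mp hmem
      have h2 : algebraMap A p.ResidueField (c i) ≠ 0 := by
        rw [ne_eq, Ideal.algebraMap_residueField_eq_zero]; exact hcp i
      have h3 := W.smul_mem (algebraMap A p.ResidueField (c i))⁻¹ h1
      rwa [smul_smul, inv_mul_cancel₀ h2, one_smul] at h3
    refine ⟨Fin.snoc f x, Fin.lastCases (by simpa using hx) (fun i => by simpa using hf i), fun P hPr => ?_, ?_⟩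
    · rw [Fin.range_snoc, Set.insert_subset_iff] at hPr
      obtain ⟨P₀, hP₀, hP₀P⟩ := Ideal.exists_minimalPrimes_le (J := P.asIdeal) (I := I) (Ideal.span_le.mpr hPr.2)
      by_cases h0 : P₀ = maximalIdeal A
      · exact Or.inl (le_antisymm (le_maximalIdeal P.isPrime.ne_top) (h0 ▸ hP₀P))
      have hlt : (⟨P₀, hP₀.1.1⟩ : PrimeSpectrum A) < P := by
        refine lt_of_le_of_ne hP₀P fun h => hxS P₀ ⟨hP₀, h0⟩ ?_
        have := congrArg PrimeSpectrum.asIdeal h
        change P₀ = P.asIdeal at this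
        rw [this]
        exact hPr.1
      rcases hP ⟨P₀, hP₀.1.1⟩ (fun y hy => hP₀.1.2 (Ideal.subset_span hy)) with h | h
      · exact absurd h h0
      · refine Or.inr (le_trans ?_ h)
        rw [Nat.cast_succ, add_comm (j : ℕ∞) 1, ← add_assoc]
        exact add_le_add (Order.coheight_add_one_le hlt) le_rfl
    · have hspan : Submodule.span p.ResidueField (Set.range (dAt k A p ∘ Fin.snoc f x)) =
          Submodule.span p.ResidueField {dAt k A p x} ⊔ W := by
        rw [Set.range_comp, Fin.range_snoc, Set.image_insert_eq, ← Set.range_comp, Submodule.span_insert]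
      rw [hspan]
      by_cases hW : W = ⊤
      · exact Or.inl (by rw [hW, sup_top_eq])
      refine Or.inr (Nat.succ_le_of_lt (lt_of_le_of_lt (hsp.resolve_left hW) (Submodule.finrank_lt_finrank_of_lt ?_)))
      refine lt_of_le_of_ne le_sup_right fun h => hxW.resolve_left hW ?_
      change dAt k A p x ∈ Submodule.span p.ResidueField (Set.range (dAt k A p ∘ f))
      rw [show Submodule.span p.ResidueField (Set.range (dAt k A p ∘ f)) = _ from h]
      exact Submodule.mem_sup_left (Submodule.mem_span_singleton_self _)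

end Groth.Agent.ComplDeriv
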