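import Groth.Agent.ComplDeriv.RegUnram
import Groth.Agent.PP16Lib.CompletionEquiv
import Groth.Agent.Catenary.EssFT
import Groth.Agent.AdicLim.Noetherian
import Groth.Agent.DimTrdeg.Basic
import Groth.Agent.S0547
import Mathlib.RingTheory.Localization.AtPrime.Basic

/-!
# Regularity of the generic formal fibre of a finite extension of a regular local ring in characteristic zero
-/

universe u

open IsLocalRing

namespace Groth.Agent.ComplDeriv

/-- In characteristic zero `Ω` of a finite extension of domains is killed by a non-zero element. -/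
theorem exists_smul_kaehler_eq_zero {A B : Type u} [CommRing A] [IsDomain A] [CharZero A] [CommRing B] [IsDomain B]
    [Algebra A B] [Module.Finite A B] (hinj : Function.Injective (algebraMap A B)) :
    ∃ b : B, b ≠ 0 ∧ ∀ x : B, b • KaehlerDifferential.D A B x = 0 := by
  classical
  have : CharZero B := charZero_of_injective_algebraMap hinj
  have key : ∀ x : B, ∃ c : B, c ≠ 0 ∧ c • KaehlerDifferential.D A B x = 0 := by
    intro x
    obtain ⟨P₀, hP₀m, hP₀x⟩ := Algebra.IsIntegral.isIntegral (R := A) x
    have hex : ∃ d, ∃ P : Polynomial A, P ≠ 0 ∧ Polynomial.aeval x P = 0 ∧ P.natDegree = d :=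
      ⟨_, P₀, hP₀m.ne_zero, hP₀x, rfl⟩
    obtain ⟨P, hP0, hPx, hPd⟩ := Nat.find_spec hex
    have hdeg : P.natDegree ≠ 0 := by
      intro h0
      obtain ⟨a, rfl⟩ := Polynomial.natDegree_eq_zero.mp h0
      rw [Polynomial.aeval_C] at hPx
      exact hP0 (by rw [(map_eq_zero_iff _ hinj).mp hPx, map_zero])
    refine ⟨Polynomial.aeval x (Polynomial.derivative P), fun h => ?_, ?_⟩
    · have hd0 : Polynomial.derivative P ≠ 0 := fun hd => hdeg (Polynomial.derivative_eq_zero.mp hd)
      have := Nat.find_min' hex ⟨_, hd0, h, rfl⟩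
      have hlt := Polynomial.natDegree_derivative_lt hdeg
      omega
    · rw [← Derivation.map_aeval (KaehlerDifferential.D A B) P x, hPx, map_zero]
  choose c hc0 hc using key
  obtain ⟨r, g, hg⟩ := Module.Finite.exists_fin (R := A) (M := B)
  refine ⟨∏ i, c (g i), Finset.prod_ne_zero_iff.mpr fun i _ => hc0 _, fun x => ?_⟩
  obtain ⟨a, rfl⟩ := (Submodule.mem_span_range_iff_exists_fun A).mp (hg ▸ Submodule.mem_top (x := x))
  rw [map_sum, Finset.smul_sum]
  refine Finset.sum_eq_zero fun i _ => ?_
  rw [Derivation.map_smul, smul_comm]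
  obtain ⟨e, he⟩ := Finset.dvd_prod_of_mem (fun i => c (g i)) (Finset.mem_univ i)
  rw [he, mul_comm, mul_smul, hc, smul_zero, smul_zero]

/-- A regular local ring is formally catenary. -/
theorem isFormallyCatenary_of_isRegularLocalRing (A : Type u) [CommRing A] [IsRegularLocalRing A] :
    EGA4.IsFormallyCatenary A := by
  intro p _
  have := DepthLib.isCohenMacaulayLocalRing_of_isRegularLocalRing A
  have := Catenary.cm_completion A
  exact (Catenary.isEquidim_quotient_iff (Catenary.heightCat_of_cm_local _) p).mp (Catenary.isEquidim_of_isDomain _)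

theorem isLocalHom_algebraMap {A B C : Type u} [CommRing A] [IsLocalRing A] [CommRing B] [Algebra A B]
    [Module.Finite A B] (n : Ideal B) [n.IsMaximal] [CommRing C] [Algebra B C] [IsLocalization.AtPrime C n]
    [Algebra A C] [IsScalarTower A B C] : IsLocalHom (algebraMap A C) := by
  refine ⟨fun a ha => ?_⟩
  by_contra h
  rw [IsScalarTower.algebraMap_apply A B C, IsLocalization.AtPrime.isUnit_to_map_iff C n] at ha
  refine ha ?_
  change a ∈ n.comap (algebraMap A B)
  rw [IsLocalRing.eq_maximalIdeal (Ideal.isMaximal_comap_of_isIntegral_of_isMaximal (R := A) n)]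
  exact h

section main

variable {A B : Type u} [CommRing A] [IsRegularLocalRing A] [CharZero A] [CommRing B] [IsDomain B]
  [Algebra A B] [Module.Finite A B] (n : Ideal B) [n.IsMaximal]
  {C : Type u} [CommRing C] [IsDomain C] [IsLocalRing C] [IsNoetherianRing C] [Algebra B C]
  [IsLocalization.AtPrime C n] [Algebra A C] [IsScalarTower A B C]

include n in
/-- The generic formal fibre of a finite extension of a regular local ring of characteristic zero is regular. -/
theorem isRegularLocalRing_completion_atPrime (hinj : Function.Injective (algebraMap A B))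
    (q : Ideal (AdicCompletion (maximalIdeal C) C)) [q.IsPrime]
    (hq : q.comap (algebraMap C (AdicCompletion (maximalIdeal C) C)) = ⊥) :
    IsRegularLocalRing (Localization.AtPrime q) := by
  classical
  have : IsDomain A := DepthLib.isDomain_of_isRegularLocalRing A
  have : IsIntegrallyClosed A := DepthLib.isIntegrallyClosed_of_isRegularLocalRing A
  have hloc : IsLocalHom (algebraMap A C) := isLocalHom_algebraMap (B := B) n
  let Ah := AdicCompletion (maximalIdeal A) A
  let Ch := AdicCompletion (maximalIdeal C) C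
  have hregAh : IsRegularLocalRing Ah := (PP16Lib.isRegularLocalRing_iff_completion (A := A)).mp ‹_›
  have : IsDomain Ah := DepthLib.isDomain_of_isRegularLocalRing Ah
  have : IsIntegrallyClosed Ah := DepthLib.isIntegrallyClosed_of_isRegularLocalRing Ah
  have : IsRegularRing Ah := RegularSerre.isRegularRing_of_isRegularLocalRing Ah
  have : IsNoetherianRing Ch := CohenStruct.isNoetherianRing_completion C
  let _ : Algebra Ah Ch := (Catenary.cplMap (algebraMap A C)).toAlgebra
  have hcpl : ∀ a : A, algebraMap Ah Ch (algebraMap A Ah a) = algebraMap C Ch (algebraMap A C a) :=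
    Catenary.cplMap_algebraMap (algebraMap A C)
  -- finiteness
  obtain ⟨r, g, hg⟩ := Module.Finite.exists_fin (R := A) (M := B)
  let φ : (Fin r → Ah) →ₗ[Ah] Ch := Fintype.linearCombination Ah fun i => algebraMap C Ch (algebraMap B C (g i))
  let I := maximalIdeal Ah
  have hI : (I • ⊤ : Submodule Ah Ch) = (I.map (algebraMap Ah Ch)).restrictScalars Ah := Ideal.smul_top_eq_map I
  have hmapI : I.map (algebraMap Ah Ch) = ((maximalIdeal A).map (algebraMap A C)).map (algebraMap C Ch) := by
    rw [show I = (maximalIdeal A).map (algebraMap A Ah) from AdicCompletion.maximalIdeal_eq_map, Ideal.map_map,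
      Ideal.map_map]
    congr 1
    exact RingHom.ext hcpl
  have hle : I.map (algebraMap Ah Ch) ≤ maximalIdeal Ch := by
    rw [hmapI, AdicCompletion.maximalIdeal_eq_map (R := C)]
    exact Ideal.map_mono (((local_hom_TFAE _).out 0 2).mp hloc)
  have : IsHausdorff I Ch := ⟨fun x hx => IsHausdorff.haus' (I := maximalIdeal Ch) x fun j => by
    have h := hx j
    rw [SModEq.zero] at h ⊢
    rw [smul_eq_mul, Ideal.mul_top]
    rw [Ideal.smul_top_eq_map, Submodule.restrictScalars_mem, Ideal.map_pow] at h
    exact Ideal.pow_right_mono hle j h⟩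
  have := AdicLim.isAdicComplete_of_finite (I := I) (Fin r → Ah)
  obtain ⟨N, hN⟩ : ∃ N, maximalIdeal C ^ N ≤ (maximalIdeal A).map (algebraMap A C) := by
    refine Ideal.exists_pow_le_of_le_radical_of_fg ?_ (IsNoetherian.noetherian _)
    rw [Ideal.radical_eq_sInf]
    refine le_sInf fun P ⟨hP, hPp⟩ => ?_
    let P₀ := P.comap (algebraMap B C)
    have h0 : P₀.comap (algebraMap A B) = maximalIdeal A := by
      rw [Ideal.comap_comap, ← IsScalarTower.algebraMap_eq]
      exact ((maximalIdeal.isMaximal A).eq_of_le (Ideal.IsPrime.ne_top inferInstance)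
        (Ideal.map_le_iff_le_comap.mp hP)).symm
    have hmax : P₀.IsMaximal := Ideal.isMaximal_of_isIntegral_of_isMaximal_comap (R := A) P₀
      (by rw [h0]; infer_instance)
    have hlen : P₀ ≤ n := by
      intro x hx
      by_contra hxn
      exact hPp.ne_top (Ideal.eq_top_of_isUnit_mem _ hx ((IsLocalization.AtPrime.isUnit_to_map_iff C n x).mpr hxn))
    rw [← IsLocalization.map_under n.primeCompl C P, ← IsLocalization.AtPrime.map_eq_maximalIdeal n C]
    exact le_of_eq (congrArg (Ideal.map _) (hmax.eq_of_le (Ideal.IsPrime.ne_top inferInstance) hlen).symm)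
  have hφ : Function.Surjective φ := by
    refine surjective_of_mkQ_comp_surjective (I := I) fun z => ?_
    obtain ⟨z, rfl⟩ := Submodule.Quotient.mk_surjective _ z
    -- approximate `z` by an element of `B`
    obtain ⟨c, hc⟩ : ∃ c : C, z - algebraMap C Ch c ∈ maximalIdeal Ch ^ N := by
      obtain ⟨c, hc⟩ := PP16Lib.exists_sub_mem_map_pow (maximalIdeal C) N z
      exact ⟨c, by rw [AdicCompletion.maximalIdeal_eq_map, ← Ideal.map_pow, ← neg_sub, neg_mem_iff]; exact hc⟩
    obtain ⟨x, ⟨s, hs⟩, rfl⟩ := IsLocalization.exists_mk'_eq n.primeCompl c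
    obtain ⟨t, ht⟩ : ∃ t, s * t - 1 ∈ n ^ N := by
      rcases Nat.eq_zero_or_pos N with hN0 | hN0
      · exact ⟨0, by rw [hN0, pow_zero, Ideal.one_eq_top]; exact Submodule.mem_top⟩
      · have hu : IsUnit (Ideal.Quotient.mk (n ^ N) s) := by
          by_contra hnu
          obtain ⟨J, hJ, hsJ⟩ := exists_max_ideal_of_mem_nonunits hnu
          have hnJ : n ≤ J.comap (Ideal.Quotient.mk (n ^ N)) := fun y hy => by
            refine Ideal.IsPrime.mem_of_pow_mem inferInstance N ?_
            rw [Ideal.mem_comap, Ideal.Quotient.eq_zero_iff_mem.mpr (Ideal.pow_mem_pow hy N)]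
            exact J.zero_mem
          exact hs ((‹n.IsMaximal›.eq_of_le (Ideal.comap_ne_top _ hJ.ne_top) hnJ).symm ▸ hsJ)
        obtain ⟨t, ht⟩ := hu.exists_right_inv
        obtain ⟨t, rfl⟩ := Ideal.Quotient.mk_surjective t
        exact ⟨t, by rwa [← map_mul, ← map_one (Ideal.Quotient.mk (n ^ N)), Ideal.Quotient.mk_eq_mk_iff_sub_mem] at ht⟩
    obtain ⟨a, ha⟩ := (Submodule.mem_span_range_iff_exists_fun A).mp (hg ▸ Submodule.mem_top (x := x * t))
    refine ⟨fun i => algebraMap A Ah (a i), ?_⟩
    have hφa : φ (fun i => algebraMap A Ah (a i)) = algebraMap C Ch (algebraMap B C (x * t)) := by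
      rw [← ha, map_sum, map_sum, Fintype.linearCombination_apply]
      refine Finset.sum_congr rfl fun i _ => ?_
      rw [Algebra.smul_def, hcpl, Algebra.smul_def, map_mul, map_mul, IsScalarTower.algebraMap_apply A B C]
    rw [LinearMap.comp_apply, hφa, Submodule.mkQ_apply, Submodule.Quotient.eq, hI, Submodule.restrictScalars_mem, hmapI,
      ← neg_sub, neg_mem_iff, ← sub_add_sub_cancel z (algebraMap C Ch (IsLocalization.mk' C x (⟨s, hs⟩ : n.primeCompl)))]
    refine add_mem ?_ ?_
    · refine (show maximalIdeal Ch ^ N ≤ _ from ?_) hc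
      rw [AdicCompletion.maximalIdeal_eq_map (R := C), ← Ideal.map_pow]
      exact Ideal.map_mono hN
    · rw [← map_sub]
      refine Ideal.mem_map_of_mem _ (hN ?_)
      rw [← IsLocalization.AtPrime.map_eq_maximalIdeal n C, ← Ideal.map_pow]
      have h1 : IsLocalization.mk' C x (⟨s, hs⟩ : n.primeCompl) - algebraMap B C (x * t) =
          IsLocalization.mk' C x (⟨s, hs⟩ : n.primeCompl) * algebraMap B C (-(s * t - 1)) := by
        have hsp := IsLocalization.mk'_spec C x (⟨s, hs⟩ : n.primeCompl)
        rw [map_neg, map_sub, map_mul, map_mul, map_one]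
        linear_combination (algebraMap B C t) * hsp
      rw [h1]
      exact Ideal.mul_mem_left _ _ (Ideal.mem_map_of_mem _ (neg_mem ht))
  have : Module.Finite Ah Ch := Module.Finite.of_surjective φ hφ
  -- a minimal prime below `q`
  obtain ⟨q₀, hq₀, hq₀q⟩ := Ideal.exists_minimalPrimes_le (I := (⊥ : Ideal Ch)) (J := q) bot_le
  have hq₀p : q₀.IsPrime := hq₀.1.1
  have hEFT : Algebra.EssFiniteType A C := by
    have : Algebra.EssFiniteType B C := Algebra.EssFiniteType.of_isLocalization C n.primeCompl
    exact Algebra.EssFiniteType.comp A B C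
  have heq : EGA4.IsFormallyEquidim C :=
    Catenary.isFormallyEquidim_of_essFiniteType_domain (isFormallyCatenary_of_isRegularLocalRing A) C
  have hdim : ringKrullDim Ah ≤ ringKrullDim (Ch ⧸ q₀) := by
    rw [heq q₀ hq₀, S0547.result, S0547.result, IsLocalization.AtPrime.ringKrullDim_eq_height n C,
      ← IsLocalRing.maximalIdeal_height_eq_ringKrullDim, WithBot.coe_le_coe]
    refine le_of_eq_of_le ?_ (height_under_le (P := A) (⊥ : Ideal B) n bot_le
      (by rw [← RingHom.ker_eq_comap_bot]; exact (RingHom.injective_iff_ker_eq_bot _).mp hinj))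
    rw [show n.under A = maximalIdeal A from
      IsLocalRing.eq_maximalIdeal (Ideal.isMaximal_comap_of_isIntegral_of_isMaximal n)]
  have hinj₀ : q₀.comap (algebraMap Ah Ch) = ⊥ := by
    have hfin : ((Ideal.Quotient.mk q₀).comp (algebraMap Ah Ch)).Finite :=
      RingHom.Finite.comp (RingHom.Finite.of_surjective _ Ideal.Quotient.mk_surjective)
        (RingHom.finite_algebraMap.mpr inferInstance)
    have hd : ringKrullDim Ah = ((maximalIdeal Ah).spanFinrank : ℕ) :=
      (IsRegularLocalRing.spanFinrank_maximalIdeal (R := Ah)).symm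
    have h := CohenStruct.injective_of_finite_of_dim _ hfin hd.le (hd.symm.trans_le hdim)
    have hk : RingHom.ker ((Ideal.Quotient.mk q₀).comp (algebraMap Ah Ch)) = ⊥ :=
      (RingHom.injective_iff_ker_eq_bot _).mp h
    rwa [← RingHom.comap_ker, Ideal.mk_ker] at hk
  -- unramified at `q`
  obtain ⟨b, hb0, hb⟩ := exists_smul_kaehler_eq_zero hinj
  have hunr : Algebra.IsUnramifiedAt Ah q := by
    let Cq := Localization.AtPrime q
    let M := Ω[Cq⁄Ah]
    let D := KaehlerDifferential.D Ah Cq
    let ψ : B →+* Cq := ((algebraMap Ch Cq).comp (algebraMap C Ch)).comp (algebraMap B C)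
    have hψA : ∀ a : A, ψ (algebraMap A B a) = algebraMap Ah Cq (algebraMap A Ah a) := fun a => by
      rw [IsScalarTower.algebraMap_apply Ah Ch Cq, hcpl, IsScalarTower.algebraMap_apply A B C]
      rfl
    have hbu : IsUnit (ψ b) := by
      refine IsLocalization.map_units Cq (⟨algebraMap C Ch (algebraMap B C b), fun h => ?_⟩ : q.primeCompl)
      have h' : algebraMap B C b ∈ q.comap (algebraMap C Ch) := h
      rw [hq, Ideal.mem_bot] at h'
      exact hb0 ((map_eq_zero_iff _ (IsLocalization.injective C n.primeCompl_le_nonZeroDivisors)).mp h')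
    have hψ : ∀ y, algebraMap B Cq y = ψ y := fun y => by
      rw [IsScalarTower.algebraMap_apply B Ch Cq, IsScalarTower.algebraMap_apply B C Ch]
      rfl
    have : IsScalarTower A Ah Cq := IsScalarTower.of_algebraMap_eq fun a => by
      rw [← hψA, ← hψ, ← IsScalarTower.algebraMap_apply]
    let f := KaehlerDifferential.map A Ah B Cq
    have hd0 : ∀ y, D (ψ y) = 0 := fun y => by
      have h := congrArg f (hb y)
      rw [map_smul, map_zero, KaehlerDifferential.map_D, ← algebraMap_smul Cq b, hψ, hψ] at h
      exact (hbu.smul_eq_zero).mp h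
    have hdc : ∀ z : Ch, D (algebraMap Ch Cq z) = 0 := fun z => by
      obtain ⟨a, rfl⟩ := hφ z
      rw [Fintype.linearCombination_apply, map_sum, map_sum]
      refine Finset.sum_eq_zero fun i _ => ?_
      rw [Algebra.smul_def, map_mul, Derivation.leibniz, ← IsScalarTower.algebraMap_apply, Derivation.map_algebraMap,
        smul_zero, add_zero, show D (algebraMap Ch Cq (algebraMap C Ch (algebraMap B C (g i)))) = 0 from hd0 (g i),
        smul_zero]
    refine ⟨subsingleton_of_forall_eq 0 fun m => ?_⟩
    induction (KaehlerDifferential.span_range_derivation Ah Cq).ge (Submodule.mem_top (x := m)) using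
      Submodule.span_induction with
    | mem m hm =>
      obtain ⟨z, rfl⟩ := hm
      obtain ⟨z, s, rfl⟩ := IsLocalization.exists_mk'_eq q.primeCompl z
      have h := congrArg D (IsLocalization.mk'_spec Cq z s)
      rw [Derivation.leibniz, hdc, hdc, smul_zero, zero_add] at h
      exact (IsLocalization.map_units Cq s).smul_eq_zero.mp h
    | zero => rfl
    | add x y _ _ hx hy => rw [hx, hy, add_zero]
    | smul c x _ hx => rw [hx, smul_zero]
  exact isRegularLocalRing_atPrime_of_unramified q₀ q hq₀q hinj₀

end main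

end Groth.Agent.ComplDeriv
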