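import Groth.Agent.ComplDeriv.RegUnram
import Groth.Prelude.Def_Found
import Mathlib.RingTheory.Localization.LocalizationLocalization

/-!
# Geometric regularity of unramified covers of power series rings
-/

universe u

open IsLocalRing TensorProduct

namespace Groth.Agent.ComplDeriv

section Localization

variable (k A : Type u) [Field k] [CommRing A] [Algebra k A] (k' : Type u) [Field k'] [Algebra k k']
  (S : Submonoid A)

/-- The map `A ⊗ k' → S⁻¹A ⊗ k'`. -/
noncomputable def locMap : A ⊗[k] k' →ₐ[A] Localization S ⊗[k] k' :=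
  Algebra.TensorProduct.map (Algebra.ofId A (Localization S)) (AlgHom.id k k')

theorem locMap_tmul (a : A) (c : k') : locMap k A k' S (a ⊗ₜ c) = algebraMap A (Localization S) a ⊗ₜ c := rfl

theorem isLocalization_locMap :
    @IsLocalization _ _ (Algebra.algebraMapSubmonoid (A ⊗[k] k') S) (Localization S ⊗[k] k') _
      (locMap k A k' S).toRingHom.toAlgebra := by
  classical
  let φ := locMap k A k' S
  let _ : Algebra (A ⊗[k] k') (Localization S ⊗[k] k') := φ.toRingHom.toAlgebra
  let b := Module.Basis.ofVectorSpace k k'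
  let E := TensorProduct.equivFinsuppOfBasisRight (M := A) b
  let E' := TensorProduct.equivFinsuppOfBasisRight (M := Localization S) b
  have hE : ∀ z i, E' (φ z) i = algebraMap A (Localization S) (E z i) := by
    intro z i
    induction z with
    | zero => simp
    | add x y hx hy => simp only [map_add, Finsupp.add_apply, hx, hy]
    | tmul a c =>
      simp only [φ, E, E', locMap_tmul, TensorProduct.equivFinsuppOfBasisRight_apply_tmul_apply,
        Algebra.smul_def, map_mul, ← IsScalarTower.algebraMap_apply k A (Localization S)]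
  have hmul : ∀ (s : A) z i, E (s • z) i = s * E z i := by
    intro s z i
    induction z with
    | zero => simp
    | add x y hx hy => simp only [smul_add, map_add, Finsupp.add_apply, hx, hy, mul_add]
    | tmul a c =>
      simp only [E, TensorProduct.smul_tmul', TensorProduct.equivFinsuppOfBasisRight_apply_tmul_apply, smul_eq_mul]
      simp only [Algebra.smul_def]
      ring
  refine ⟨⟨?_, ?_, ?_⟩⟩
  · rintro ⟨_, s, hs, rfl⟩
    change IsUnit (φ (algebraMap A _ s))
    rw [AlgHom.commutes, IsScalarTower.algebraMap_apply A (Localization S) (Localization S ⊗[k] k')]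
    exact (IsLocalization.map_units (Localization S) (⟨s, hs⟩ : S)).map _
  · intro z
    suffices ∃ (x : A ⊗[k] k') (s : S), z * φ (algebraMap A _ (s : A)) = φ x by
      obtain ⟨x, s, h⟩ := this
      exact ⟨(x, ⟨_, s.1, s.2, rfl⟩), h⟩
    induction z with
    | zero => exact ⟨0, 1, by simp⟩
    | tmul l c =>
      obtain ⟨a, s, rfl⟩ := IsLocalization.exists_mk'_eq S l
      refine ⟨a ⊗ₜ c, s, ?_⟩
      rw [Algebra.TensorProduct.algebraMap_apply, Algebra.algebraMap_self_apply]
      change IsLocalization.mk' _ a s ⊗ₜ[k] c * locMap k A k' S ((s : A) ⊗ₜ 1) = locMap k A k' S (a ⊗ₜ c)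
      rw [locMap_tmul, locMap_tmul, Algebra.TensorProduct.tmul_mul_tmul, IsLocalization.mk'_spec, mul_one]
    | add u v hu hv =>
      obtain ⟨x, s, hx⟩ := hu
      obtain ⟨y, t, hy⟩ := hv
      refine ⟨x * algebraMap A _ (t : A) + y * algebraMap A _ (s : A), s * t, ?_⟩
      rw [Submonoid.coe_mul, map_mul (algebraMap A (A ⊗[k] k')), map_mul, map_add, map_mul, map_mul, ← hx, ← hy]
      ring
  · intro x y h
    have h0 : ∀ i, ∃ s : S, (s : A) * E (x - y) i = 0 := fun i => by
      refine (IsLocalization.map_eq_zero_iff S (Localization S) _).mp ?_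
      rw [← hE, map_sub, show φ x = φ y from h, sub_self, map_zero, Finsupp.zero_apply]
    choose s hs using h0
    let t : S := ∏ i ∈ (E (x - y)).support, s i
    refine ⟨⟨_, (t : A), t.2, rfl⟩, ?_⟩
    change algebraMap A _ (t : A) * x = algebraMap A _ (t : A) * y
    rw [← sub_eq_zero, ← mul_sub, ← Algebra.smul_def]
    refine E.injective (Finsupp.ext fun i => ?_)
    rw [hmul, map_zero, Finsupp.zero_apply]
    by_cases hi : i ∈ (E (x - y)).support
    · obtain ⟨r, hr⟩ : (s i : A) ∣ (t : A) := by
        rw [Submonoid.coe_finsetProd]; exact Finset.dvd_prod_of_mem (fun i => (s i : A)) hi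
      rw [hr, mul_comm (s i : A) r, mul_assoc, hs, mul_zero]
    · rw [Finsupp.notMem_support_iff.mp hi, mul_zero]

end Localization

variable (k A : Type u) [Field k] [CommRing A] [Algebra k A] {n : ℕ} [Algebra (MvPowerSeries (Fin n) k) A]
  [IsScalarTower k (MvPowerSeries (Fin n) k) A] [Module.Finite (MvPowerSeries (Fin n) k) A]

theorem isGeometricallyRegular_atPrime (q p : Ideal A) [p.IsPrime] (hq : q ∈ minimalPrimes A)
    (hinj : q.comap (algebraMap (MvPowerSeries (Fin n) k) A) = ⊥)
    [Algebra.IsUnramifiedAt (MvPowerSeries (Fin n) k) p]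
    (hbot : q.map (algebraMap A (Localization.AtPrime p)) = ⊥) :
    CAlg.IsGeometricallyRegular k (Localization.AtPrime p) := by
  classical
  intro k' _ _ hfin
  have := hq.isPrime
  let P := MvPowerSeries (Fin n) k
  have hreg := PP16Lib.isRegularLocalRing_mvPowerSeries n k
  have : IsNoetherianRing A := IsNoetherianRing.of_finite P A
  let A' := A ⊗[k] k'
  let P' := P ⊗[k] k'
  obtain ⟨hdom, hrr, hic, hnoe⟩ := regular_normal_domain_baseChangePS k k' n
  let eP := (Algebra.TensorProduct.comm k k' P).toRingEquiv
  have : IsDomain P' := eP.symm.toMulEquiv.isDomain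
  have : IsRegularRing P' := IsRegularRing.of_ringEquiv eP
  have : IsIntegrallyClosed P' := IsIntegrallyClosed.of_equiv eP
  let ψ : P' →ₐ[P] A' := Algebra.TensorProduct.map (Algebra.ofId P A) (AlgHom.id k k')
  let _ : Algebra P' A' := ψ.toRingHom.toAlgebra
  have : IsScalarTower P P' A' := IsScalarTower.of_algebraMap_eq fun x => (ψ.commutes x).symm
  have : Module.Finite P A' := Module.Finite.trans A A'
  have : Module.Finite P' A' := Module.Finite.of_restrictScalars_finite P P' A'
  have : IsNoetherianRing A' := IsNoetherianRing.of_finite P' A'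
  let R' := Localization p.primeCompl ⊗[k] k'
  let _ : Algebra A' R' := (locMap k A k' p.primeCompl).toRingHom.toAlgebra
  have hloc : IsLocalization (Algebra.algebraMapSubmonoid A' p.primeCompl) R' :=
    isLocalization_locMap k A k' p.primeCompl
  have hRnoe : IsNoetherianRing R' := IsLocalization.isNoetherianRing (Algebra.algebraMapSubmonoid A' p.primeCompl) _ ‹_›
  suffices IsRegularRing R' from IsRegularRing.of_ringEquiv (Algebra.TensorProduct.comm k _ k').toRingEquiv
  refine { toIsNoetherian := hRnoe, isRegularLocalRing_localization := fun Q _ => ?_ }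
  let Q' := Q.comap (algebraMap A' R')
  let QA := Q'.comap (algebraMap A A')
  have hdis : Disjoint ((Algebra.algebraMapSubmonoid A' p.primeCompl : Submonoid A') : Set A') (Q' : Set A') :=
    ((IsLocalization.isPrime_iff_isPrime_disjoint (Algebra.algebraMapSubmonoid A' p.primeCompl) R' Q).mp ‹_›).2
  have hQA : QA ≤ p := fun x hx => by_contra fun h => Set.disjoint_left.mp hdis ⟨x, h, rfl⟩ hx
  have hqQ : q ≤ QA := fun x hx => by
    have h0 := Ideal.mem_map_of_mem (algebraMap A (Localization.AtPrime p)) hx
    rw [hbot, Ideal.mem_bot, IsLocalization.map_eq_zero_iff p.primeCompl] at h0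
    obtain ⟨⟨t, ht⟩, htx⟩ := h0
    exact ((inferInstance : QA.IsPrime).mem_or_mem (show t * x ∈ QA by rw [htx]; exact zero_mem _)).resolve_left
      fun h => ht (hQA h)
  have : Q'.LiesOver QA := ⟨rfl⟩
  obtain ⟨q', hq'Q, hq', hover⟩ := Ideal.exists_ideal_le_liesOver_of_le Q' (p := q) (q := QA) hqQ
  have hinj' : q'.comap (algebraMap P' A') = ⊥ := by
    have : Algebra.IsIntegral P P' := Algebra.IsIntegral.of_finite P P'
    refine Ideal.eq_bot_of_comap_eq_bot (R := P) ?_
    rw [Ideal.comap_comap, ← IsScalarTower.algebraMap_eq, IsScalarTower.algebraMap_eq P A A', ← Ideal.comap_comap]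
    rw [show q'.comap (algebraMap A A') = q from hover.over.symm]
    exact hinj
  have : Algebra.IsUnramifiedAt P' Q' := by
    change (⟨Q', inferInstance⟩ : PrimeSpectrum A') ∈ Algebra.unramifiedLocus P' A'
    rw [Algebra.unramifiedLocus_eq_compl_support, Set.mem_compl_iff, Module.notMem_support_iff']
    intro w
    have hw : w ∈ Submodule.span A' (Set.range (KaehlerDifferential.D P' A')) := by
      rw [KaehlerDifferential.span_range_derivation]; trivial
    induction hw using Submodule.span_induction with
    | mem w hw =>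
      obtain ⟨z, rfl⟩ := hw
      induction z using TensorProduct.induction_on with
      | zero => exact ⟨1, Q'.ne_top_iff_one.mp Ideal.IsPrime.ne_top', by simp⟩
      | tmul a c =>
        have hsupp : (⟨p, ‹_›⟩ : PrimeSpectrum A) ∉ Module.support A Ω[A⁄P] := by
          have h : (⟨p, ‹_›⟩ : PrimeSpectrum A) ∈ Algebra.unramifiedLocus P A := ‹Algebra.IsUnramifiedAt P p›
          rwa [Algebra.unramifiedLocus_eq_compl_support] at h
        rw [Module.notMem_support_iff'] at hsupp
        obtain ⟨s, hs, hsa⟩ := hsupp (KaehlerDifferential.D P A a)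
        refine ⟨algebraMap A A' s, fun h => hs (hQA h), ?_⟩
        have h1 := congrArg (KaehlerDifferential.map P P' A A') hsa
        rw [map_smul, map_zero, KaehlerDifferential.map_D, ← algebraMap_smul A' s] at h1
        have h2 : a ⊗ₜ[k] c = algebraMap A A' a * algebraMap P' A' (1 ⊗ₜ[k] c) := by
          change _ = (a ⊗ₜ[k] (1 : k')) * (algebraMap P A 1 ⊗ₜ[k] c)
          rw [Algebra.TensorProduct.tmul_mul_tmul, map_one, mul_one, one_mul]
        rw [h2, Derivation.leibniz, Derivation.map_algebraMap, smul_zero, zero_add, smul_comm, h1, smul_zero]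
      | add x y hx hy =>
        obtain ⟨s, hs, hsx⟩ := hx
        obtain ⟨t, ht, hty⟩ := hy
        refine ⟨t * s, fun h => ((inferInstance : Q'.IsPrime).mem_or_mem h).elim ht hs, ?_⟩
        rw [map_add, smul_add, mul_smul, hsx, mul_comm, mul_smul, hty, smul_zero, smul_zero, add_zero]
    | zero => exact ⟨1, Q'.ne_top_iff_one.mp Ideal.IsPrime.ne_top', by simp⟩
    | add x y _ _ hx hy =>
      obtain ⟨s, hs, hsx⟩ := hx
      obtain ⟨t, ht, hty⟩ := hy
      refine ⟨t * s, fun h => ((inferInstance : Q'.IsPrime).mem_or_mem h).elim ht hs, ?_⟩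
      rw [smul_add, mul_smul, hsx, mul_comm, mul_smul, hty, smul_zero, smul_zero, add_zero]
    | smul c x _ hx =>
      obtain ⟨s, hs, hsx⟩ := hx
      exact ⟨s, hs, by rw [smul_comm, hsx, smul_zero]⟩
  have := isRegularLocalRing_atPrime_of_unramified (P := P') q' Q' hq'Q hinj'
  let M := Algebra.algebraMapSubmonoid A' p.primeCompl
  have : IsLocalization.AtPrime (Localization.AtPrime Q) Q' :=
    IsLocalization.isLocalization_isLocalization_atPrime_isLocalization M (Localization.AtPrime Q) Q
  exact IsRegularLocalRing.of_ringEquiv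
    (IsLocalization.algEquiv Q'.primeCompl (Localization.AtPrime Q') (Localization.AtPrime Q)).toRingEquiv

end Groth.Agent.ComplDeriv
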