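import Groth.Agent.ComplDeriv.Idx
import Groth.Agent.ComplDeriv.Unram
import Groth.Agent.EGA41Lib.ResidueSeq
import Groth.Agent.S4573
import Groth.Agent.S2471
import Groth.Prelude.Def_Found
import Mathlib.RingTheory.Etale.Kaehler
import Mathlib.RingTheory.Localization.LocalizationLocalization

/-!
# The fibre of `Ω̂` at a geometrically regular point
-/

universe u

open IsLocalRing TensorProduct

namespace Groth.Agent.ComplDeriv

/-- `dim A_P + dim A/P ≤ dim A/q` when `q` maps to zero in `A_P`. -/
theorem dim_add_dim_le {A : Type u} [CommRing A] (P q : Ideal A) [P.IsPrime] [q.IsPrime] (hqP : q ≤ P)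
    (hbot : q.map (algebraMap A (Localization.AtPrime P)) = ⊥) :
    ringKrullDim (Localization.AtPrime P) + ringKrullDim (A ⧸ P) ≤ ringKrullDim (A ⧸ q) := by
  have : Nontrivial (A ⧸ P) := Ideal.Quotient.nontrivial_iff.mpr Ideal.IsPrime.ne_top'
  let S := Localization.AtPrime P
  let B := A ⧸ q
  let π := Ideal.Quotient.mk q
  have hmem : ∀ s : PrimeSpectrum S, q ≤ s.asIdeal.comap (algebraMap A S) := fun s x hx => by
    have := Ideal.mem_map_of_mem (algebraMap A S) hx
    rw [hbot, Ideal.mem_bot] at this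
    rw [Ideal.mem_comap, this]
    exact zero_mem _
  have hprime : ∀ (I : Ideal A) [I.IsPrime], q ≤ I → (I.map π).IsPrime := fun I _ h =>
    Ideal.map_isPrime_of_surjective Ideal.Quotient.mk_surjective (by rwa [Ideal.mk_ker])
  have hcomap : ∀ I : Ideal A, q ≤ I → (I.map π).comap π = I := fun I h => by
    rw [Ideal.comap_map_of_surjective _ Ideal.Quotient.mk_surjective, ← RingHom.ker_eq_comap_bot, Ideal.mk_ker,
      sup_eq_left.mpr h]
  let φ : PrimeSpectrum S → PrimeSpectrum B := fun s =>
    ⟨(s.asIdeal.comap (algebraMap A S)).map π, hprime _ (hmem s)⟩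
  have hφ : StrictMono φ := by
    intro s t hst
    have h1 : s.asIdeal.comap (algebraMap A S) < t.asIdeal.comap (algebraMap A S) := by
      refine lt_of_le_of_ne (Ideal.comap_mono hst.le) fun h => hst.ne (PrimeSpectrum.ext ?_)
      rw [← IsLocalization.map_under P.primeCompl S s.asIdeal, ← IsLocalization.map_under P.primeCompl S t.asIdeal]
      exact congrArg _ h
    refine lt_of_le_of_ne (show (φ s).asIdeal ≤ (φ t).asIdeal from Ideal.map_mono h1.le) fun h => h1.ne ?_
    rw [← hcomap _ (hmem s), ← hcomap _ (hmem t)]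
    exact congrArg (fun x : PrimeSpectrum B => x.asIdeal.comap π) h
  let x : PrimeSpectrum B := ⟨P.map π, hprime P hqP⟩
  let g := Ideal.Quotient.factor hqP
  have hg : Function.Surjective g := fun y => by
    obtain ⟨a, rfl⟩ := Ideal.Quotient.mk_surjective y
    exact ⟨π a, rfl⟩
  let ψ := PrimeSpectrum.comap g
  have h1 : ringKrullDim S ≤ (Order.height x : WithBot ℕ∞) := by
    rw [← maximalIdeal_height_eq_ringKrullDim, WithBot.coe_le_coe,
      (⟨maximalIdeal S, inferInstance⟩ : PrimeSpectrum S).height_eq_orderHeight]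
    refine (Order.height_le_height_apply_of_strictMono φ hφ _).trans_eq (congrArg Order.height (PrimeSpectrum.ext ?_))
    change ((maximalIdeal S).comap (algebraMap A S)).map π = P.map π
    exact congrArg (Ideal.map π) (IsLocalization.AtPrime.under_maximalIdeal S P)
  have h2 : ringKrullDim (A ⧸ P) ≤ (Order.coheight x : WithBot ℕ∞) := by
    have hb : ∀ s : PrimeSpectrum (A ⧸ P), x ≤ ψ s := fun s => by
      change P.map π ≤ s.asIdeal.comap g
      rw [Ideal.map_le_iff_le_comap]
      intro a ha
      change g (π a) ∈ s.asIdeal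
      rw [show g (π a) = Ideal.Quotient.mk P a from rfl, Ideal.Quotient.eq_zero_iff_mem.mpr ha]
      exact zero_mem _
    rw [ringKrullDim, Order.krullDim_eq_iSup_coheight_of_nonempty, WithBot.coe_le_coe]
    refine iSup_le fun s => ?_
    exact (Order.coheight_le_coheight_apply_of_strictMono ψ (RingHom.strictMono_comap_of_surjective hg) s).trans
      (Order.coheight_anti (hb s))
  refine (add_le_add h1 h2).trans ?_
  rw [← WithBot.coe_add]
  have : Nonempty (PrimeSpectrum B) := ⟨x⟩
  rw [ringKrullDim, Order.krullDim_eq_iSup_height_add_coheight_of_nonempty, WithBot.coe_le_coe]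
  exact le_iSup (fun a : PrimeSpectrum B => Order.height a + Order.coheight a) x

variable (k A : Type u) [Field k] [CommRing A] [IsLocalRing A] [IsNoetherianRing A] [Algebra k A]
  [IsAdicComplete (maximalIdeal A) A] [Module.Finite k (ResidueField A)]

/-- The quotient by a prime is again complete with residue field finite over `k`. -/
theorem quotient_data (P : Ideal A) [P.IsPrime] :
    ∃ _ : IsLocalRing (A ⧸ P), IsAdicComplete (maximalIdeal (A ⧸ P)) (A ⧸ P) ∧
      Module.Finite k (ResidueField (A ⧸ P)) := by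
  have : IsLocalRing (A ⧸ P) := .of_surjective' (Ideal.Quotient.mk P) Ideal.Quotient.mk_surjective
  have hloc : IsLocalHom (Ideal.Quotient.mk P) :=
    IsLocalHom.of_surjective _ Ideal.Quotient.mk_surjective
  refine ⟨this, ?_, ?_⟩
  · rw [← map_maximalIdeal_of_surjective (Ideal.Quotient.mk P) Ideal.Quotient.mk_surjective]
    exact AdicLim.isAdicComplete_quotient P
  · let g : ResidueField A →ₗ[k] ResidueField (A ⧸ P) :=
      { toFun := ResidueField.map (Ideal.Quotient.mk P)
        map_add' := map_add _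
        map_smul' := fun c x => by
          obtain ⟨x, rfl⟩ := residue_surjective x
          rw [RingHom.id_apply, Algebra.smul_def, Algebra.smul_def, map_mul]
          rfl }
    refine Module.Finite.of_surjective g fun y => ?_
    obtain ⟨y, rfl⟩ := residue_surjective y
    obtain ⟨y, rfl⟩ := Ideal.Quotient.mk_surjective y
    exact ⟨residue A y, rfl⟩

/-- `Ω_{k/ℤ}` is finite when `k` is finite over its `p`-th powers. -/
theorem finite_kaehler_int (p : ℕ) [Fact p.Prime] [CharP k p] (hk : (frobenius k p).Finite) :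
    Module.Finite k Ω[k⁄ℤ] := by
  classical
  obtain ⟨r, b, hb⟩ := exists_decomp p k hk 0
  refine ⟨⟨(Set.finite_range fun j => KaehlerDifferential.D ℤ k (b j)).toFinset, ?_⟩⟩
  rw [Set.Finite.coe_toFinset]
  refine eq_top_iff.mpr ((KaehlerDifferential.span_range_derivation ℤ k).ge.trans (Submodule.span_le.mpr ?_))
  rintro _ ⟨c, rfl⟩
  obtain ⟨g, hg⟩ := hb (MvPowerSeries.C c)
  have h0 := congrArg MvPowerSeries.constantCoeff hg
  simp only [map_sum, map_mul, map_pow, MvPowerSeries.constantCoeff_C] at h0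
  rw [h0]
  simp only [map_sum, SetLike.mem_coe]
  refine Submodule.sum_mem _ fun e _ => Submodule.sum_mem _ fun j _ => ?_
  rw [Derivation.leibniz, Derivation.leibniz_pow, ← Nat.cast_smul_eq_nsmul k, CharP.cast_eq_zero, zero_smul,
    smul_zero, zero_add]
  refine Submodule.smul_mem _ _ ?_
  by_cases he : (Finsupp.equivFunOnFinite.symm fun i => ((e i : Fin p) : ℕ) : Fin 0 →₀ ℕ) = 0
  · rw [he, MvPowerSeries.monomial_zero_eq_C_apply, MvPowerSeries.constantCoeff_C]
    exact Submodule.subset_span ⟨j, rfl⟩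
  · exact absurd (Finsupp.ext fun i => i.elim0) he

/-- `K ⊗ Ω_k → K ⊗ Ω_S` is injective (stated generically, for the instances on `ℤ`). -/
def KInj (k S : Type u) [Field k] [CommRing S] [IsLocalRing S] [Algebra k S] : Prop :=
  Function.Injective ((KaehlerDifferential.mapBaseChange ℤ k S).lTensor (ResidueField S))

theorem kInj_of_isAdicFormallySmooth {k S : Type u} [Field k] [CommRing S] [IsLocalRing S] [IsNoetherianRing S]
    [Algebra k S] (h : CAlgX.IsAdicFormallySmooth k S (maximalIdeal S)) : IsRegularLocalRing S ∧ KInj k S :=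
  S2471.result.mp h

omit [IsLocalRing A] [IsNoetherianRing A] [IsAdicComplete (maximalIdeal A) A] [Module.Finite k (ResidueField A)] in
/-- The dimension of `K ⊗ Ω_{S/k}` when `Ω_k ⊗ K → Ω_S ⊗ K` is injective. -/
theorem finrank_residue_kaehler (p : ℕ) [Fact p.Prime] {S : Type u} [CommRing S] [IsLocalRing S] [IsNoetherianRing S]
    [Algebra k S] [CharP S p] (hkΩ : Module.Finite k Ω[k⁄ℤ])
    (hinj : KInj k S)
    (e : ℕ) (hidx₀ : EGA41Lib.FieldIdx k (ResidueField S) e) :
    Module.finrank (ResidueField S) (ResidueField S ⊗[S] Ω[S⁄k]) =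
      Module.finrank (ResidueField S) (CotangentSpace S) + e := by
  classical
  obtain ⟨hkerfin, hΩKfin, hidx⟩ := hidx₀
  let K := ResidueField S
  let X := K ⊗[S] (S ⊗[k] Ω[k⁄ℤ])
  let u : X →ₗ[K] K ⊗[S] Ω[S⁄ℤ] := (KaehlerDifferential.mapBaseChange ℤ k S).baseChange K
  let w : K ⊗[S] Ω[S⁄ℤ] →ₗ[K] K ⊗[S] Ω[S⁄k] := (KaehlerDifferential.map ℤ k S S).baseChange K
  let π : K ⊗[S] Ω[S⁄ℤ] →ₗ[K] Ω[K⁄ℤ] := KaehlerDifferential.mapBaseChange ℤ S K
  have hu : Function.Injective u := hinj
  have hw : Function.Surjective w := LinearMap.lTensor_surjective K (KaehlerDifferential.map_surjective ℤ k S)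
  have hex : Function.Exact u w := lTensor_exact K (KaehlerDifferential.exact_mapBaseChange_map ℤ k S)
    (KaehlerDifferential.map_surjective ℤ k S)
  obtain ⟨hπfin, hπdim⟩ := EGA41Lib.finrank_cotangentSpace_eq p S
  have hπ : Function.Surjective π := KaehlerDifferential.mapBaseChange_surjective ℤ S K residue_surjective
  let e₁ : X ≃ₗ[K] K ⊗[k] Ω[k⁄ℤ] := AlgebraTensorModule.cancelBaseChange k S K K Ω[k⁄ℤ]
  have hcomp : π ∘ₗ u = (KaehlerDifferential.mapBaseChange ℤ k K) ∘ₗ e₁.toLinearMap := by
    refine TensorProduct.AlgebraTensorModule.curry_injective (LinearMap.ext_ring ?_)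
    refine TensorProduct.AlgebraTensorModule.curry_injective (LinearMap.ext_ring
      (LinearMap.ext_on (KaehlerDifferential.span_range_derivation ℤ k) ?_))
    rintro _ ⟨c, rfl⟩
    simp [u, π, e₁, ← IsScalarTower.algebraMap_apply]
  have hXfin : Module.Finite K X := by
    exact Module.Finite.equiv e₁.symm
  have : Module.Finite K Ω[K⁄k] := hΩKfin
  have hYfin : Module.Finite K Ω[K⁄ℤ] := by
    have hf : (LinearMap.range (KaehlerDifferential.mapBaseChange ℤ k K)).FG := by
      rw [LinearMap.range_eq_map]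
      exact Module.Finite.fg_top.map _
    refine ⟨Submodule.fg_of_fg_map_of_fg_inf_ker (KaehlerDifferential.map ℤ k K K) (IsNoetherian.noetherian _) ?_⟩
    rw [top_inf_eq, LinearMap.exact_iff.mp (KaehlerDifferential.exact_mapBaseChange_map ℤ k K)]
    exact hf
  have : Module.Finite K (K ⊗[S] Ω[S⁄ℤ]) := by
    refine ⟨Submodule.fg_of_fg_map_of_fg_inf_ker π (IsNoetherian.noetherian _) ?_⟩
    rw [top_inf_eq]
    exact (Module.Finite.iff_fg (N := LinearMap.ker π)).mp hπfin
  have r1 := π.finrank_range_add_finrank_ker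
  rw [LinearMap.range_eq_top.mpr hπ, finrank_top] at r1
  have r2 := (KaehlerDifferential.mapBaseChange ℤ k K).finrank_range_add_finrank_ker
  have r3 := (KaehlerDifferential.map ℤ k K K).finrank_range_add_finrank_ker
  rw [LinearMap.range_eq_top.mpr (KaehlerDifferential.map_surjective ℤ k K), finrank_top,
    LinearMap.exact_iff.mp (KaehlerDifferential.exact_mapBaseChange_map ℤ k K)] at r3
  have r4 := w.finrank_range_add_finrank_ker
  rw [LinearMap.range_eq_top.mpr hw, finrank_top, LinearMap.exact_iff.mp hex, LinearMap.finrank_range_of_inj hu,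
    e₁.finrank_eq] at r4
  rw [← hπdim]
  have hidx' : (Module.finrank K Ω[K⁄k] : ℤ) -
      Module.finrank K (LinearMap.ker (KaehlerDifferential.mapBaseChange ℤ k K)) = e := hidx
  clear hidx
  simp only [π, K, X] at *
  omega

/-- The fibre bound in characteristic `p`. -/
theorem finrank_fibre_le_charP (p : ℕ) [Fact p.Prime] [CharP k p] (hk : (frobenius k p).Finite)
    (P : Ideal A) [P.IsPrime] [IsRegularLocalRing (Localization.AtPrime P)]
    (hinj : KInj k (Localization.AtPrime P))
    (e : ℕ) (he : ringKrullDim (A ⧸ P) = e) :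
    (Module.finrank P.ResidueField (P.ResidueField ⊗[A] Om k A) : WithBot ℕ∞) ≤
      ringKrullDim (Localization.AtPrime P) + e := by
  classical
  let S := Localization.AtPrime P
  let K := ResidueField S
  obtain ⟨hlP, hcP, hfP⟩ := quotient_data k A P
  have : Module.Finite k (ResidueField (A ⧸ P)) := hfP
  have : IsAdicComplete (maximalIdeal (A ⧸ P)) (A ⧸ P) := hcP
  have : IsScalarTower k (A ⧸ P) P.ResidueField := IsScalarTower.of_algebraMap_eq fun c => by
    rw [IsScalarTower.algebraMap_apply k A P.ResidueField, IsScalarTower.algebraMap_apply k A (A ⧸ P),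
      ← IsScalarTower.algebraMap_apply A (A ⧸ P) P.ResidueField]
  obtain ⟨hidx, -⟩ := fieldIdx_of_complete p k hk (A ⧸ P) P.ResidueField e he
  have hΩA : Module.Finite A Ω[A⁄k] := by
    obtain ⟨d, f, hd, hfinite⟩ : ∃ (d : ℕ) (f : MvPowerSeries (Fin d) k →+* A), (∀ c, f (MvPowerSeries.C c) = algebraMap k A c) ∧ f.Finite := by
      obtain ⟨d, a, N, -, ha, hN⟩ := CohenStruct.exists_parameters A
      exact ⟨d, _, CohenStruct.evalPS_C _ (algebraMap k A) a ha, CohenStruct.evalPS_finite (algebraMap k A) a ha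
        (finite_quotient_of_pow_le k A _ (Ideal.span_le.mpr (Set.range_subset_iff.mpr ha)) hN)⟩
    let _ : Algebra (MvPowerSeries (Fin d) k) A := f.toAlgebra
    have : IsScalarTower k (MvPowerSeries (Fin d) k) A := IsScalarTower.of_algebraMap_eq fun c => (hd c).symm
    have : Module.Finite (MvPowerSeries (Fin d) k) A := hfinite
    exact finite_kaehler_of_finite_powerSeries p k hk (n := d)
  have hcΩ := AdicLim.isAdicComplete_of_finite (I := maximalIdeal A) Ω[A⁄k]
  have : CharP A p := charP_of_injective_algebraMap (algebraMap k A).injective p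
  have : CharP S p := charP_of_injective_algebraMap (algebraMap k S).injective p
  -- comparison of the two fibres
  let θ : K ⊗[S] Ω[S⁄k] ≃ₗ[K] K ⊗[A] Ω[A⁄k] :=
    have := Algebra.FormallyEtale.of_isLocalization (Rₘ := S) P.primeCompl
    ((KaehlerDifferential.tensorKaehlerEquivOfFormallyEtale k A S).symm.baseChange S K _ _).trans
      (AlgebraTensorModule.cancelBaseChange A S K K Ω[A⁄k])
  let θ' : P.ResidueField ⊗[A] Om k A ≃ₗ[P.ResidueField] P.ResidueField ⊗[A] Ω[A⁄k] :=
    (AdicCompletion.ofLinearEquiv (maximalIdeal A) Ω[A⁄k]).symm.baseChange A P.ResidueField _ _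
  rw [θ'.finrank_eq]
  have r5 := θ.finrank_eq
  change (Module.finrank K (K ⊗[A] Ω[A⁄k]) : WithBot ℕ∞) ≤ _
  rw [← r5, (IsRegularLocalRing.iff_finrank_cotangentSpace S).mp inferInstance |>.symm]
  have hdim : Module.finrank K (K ⊗[S] Ω[S⁄k]) = Module.finrank K (CotangentSpace S) + e :=
    finrank_residue_kaehler k p (S := S) (finite_kaehler_int k p hk) hinj e hidx
  exact_mod_cast hdim.le

end Groth.Agent.ComplDeriv
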