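import Groth.Agent.ComplDeriv.Imperfection
import Groth.Agent.ComplDeriv.Bound
import Mathlib.RingTheory.Localization.Integral

/-!
# The index of the fraction field of a complete local domain
-/

universe u

open IsLocalRing TensorProduct

namespace Groth.Agent.ComplDeriv

variable (p : ℕ) [Fact p.Prime] (k : Type u) [Field k] [CharP k p]

/-- `Ω_{C/k}` is finite for `C` finite over power series over `k`. -/
theorem finite_kaehler_of_finite_powerSeries (hk : (frobenius k p).Finite) {C : Type u} [CommRing C] [Algebra k C]
    {n : ℕ} [Algebra (MvPowerSeries (Fin n) k) C] [IsScalarTower k (MvPowerSeries (Fin n) k) C]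
    [Module.Finite (MvPowerSeries (Fin n) k) C] : Module.Finite C Ω[C⁄k] := by
  let P := MvPowerSeries (Fin n) k
  have : Module.Finite P Ω[P⁄k] := ⟨⟨(Set.finite_range fun i => KaehlerDifferential.D k P (MvPowerSeries.X i)).toFinset,
    by rw [Set.Finite.coe_toFinset]; exact span_dX_eq_top p k hk n⟩⟩
  have hrange : (LinearMap.range (KaehlerDifferential.mapBaseChange k P C)).FG := by
    rw [LinearMap.range_eq_map]
    exact (inferInstance : Module.Finite C (C ⊗[P] Ω[P⁄k])).fg_top.map _
  have hker := LinearMap.exact_iff.mp (KaehlerDifferential.exact_mapBaseChange_map k P C)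
  refine ⟨Submodule.fg_of_fg_map_of_fg_inf_ker (KaehlerDifferential.map k P C C) ?_ ?_⟩
  · rw [Submodule.map_top, LinearMap.range_eq_top.mpr (KaehlerDifferential.map_surjective k P C)]
    exact Module.Finite.fg_top
  · rw [top_inf_eq, hker]
    exact hrange

/-- **The index of the fraction field of a complete local domain is its dimension.** -/
theorem fieldIdx_of_complete (hk : (frobenius k p).Finite) (C L : Type u) [CommRing C] [IsDomain C]
    [IsNoetherianRing C] [IsLocalRing C] [Algebra k C] [IsAdicComplete (maximalIdeal C) C]
    [Module.Finite k (ResidueField C)] (n : ℕ) (hn : ringKrullDim C = n) [Field L] [Algebra C L]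
    [IsFractionRing C L] [Algebra k L] [IsScalarTower k C L] :
    EGA41Lib.FieldIdx k L n ∧ Module.Finite C Ω[C⁄k] := by
  classical
  obtain ⟨d, f, hd, hinj, hfin, hfC⟩ := exists_finite_injective_powerSeries k C
  have hdn : d = n := by exact_mod_cast hd.symm.trans hn
  subst hdn
  let R := MvPowerSeries (Fin d) k
  have : IsDomain R := NoZeroDivisors.to_isDomain _
  let _ : Algebra R C := f.toAlgebra
  have : Module.Finite R C := hfin
  have : IsScalarTower k R C := IsScalarTower.of_algebraMap_eq fun c => (hfC c).symm
  let F := FractionRing R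
  let _ : Algebra R L := ((algebraMap C L).comp f).toAlgebra
  have : IsScalarTower R C L := IsScalarTower.of_algebraMap_eq fun x => rfl
  have : FaithfulSMul R L := (faithfulSMul_iff_algebraMap_injective R L).mpr
    ((IsFractionRing.injective C L).comp hinj)
  let _ : Algebra F L := FractionRing.liftAlgebra R L
  have : IsScalarTower R F L := FractionRing.isScalarTower_liftAlgebra R L
  have : IsScalarTower k R L := IsScalarTower.of_algebraMap_eq fun c => by
    rw [IsScalarTower.algebraMap_apply k C L, IsScalarTower.algebraMap_apply R C L,
      ← IsScalarTower.algebraMap_apply k R C]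
  have : IsScalarTower k F L := IsScalarTower.of_algebraMap_eq fun c => by
    rw [IsScalarTower.algebraMap_apply k R F, ← IsScalarTower.algebraMap_apply R F L,
      ← IsScalarTower.algebraMap_apply k R L]
  obtain ⟨G, hG⟩ := (inferInstance : Module.Finite R C).fg_top
  have : FiniteDimensional F L := by
    let S : Set L := algebraMap C L '' (G : Set C)
    have hint : ∀ y ∈ S, IsIntegral F y := by
      rintro _ ⟨b, -, rfl⟩
      exact ((Algebra.IsIntegral.isIntegral (R := R) b).map (IsScalarTower.toAlgHom R C L)).tower_top
    let T := Algebra.adjoin F S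
    have hBT : ∀ b : C, algebraMap C L b ∈ T := fun b => by
      have hb : b ∈ Submodule.span R (G : Set C) := by rw [hG]; trivial
      induction hb using Submodule.span_induction with
      | mem b hb => exact Algebra.subset_adjoin ⟨b, hb, rfl⟩
      | zero => rw [map_zero]; exact T.zero_mem
      | add u v _ _ hu hv => rw [map_add]; exact T.add_mem hu hv
      | smul r u _ hu =>
        rw [Algebra.smul_def, map_mul, ← IsScalarTower.algebraMap_apply, IsScalarTower.algebraMap_apply R F L]
        exact T.mul_mem (T.algebraMap_mem _) hu
    have hT : Module.Finite F T := Module.Finite.iff_fg.mpr (fg_adjoin_of_finite (G.finite_toSet.image _) hint)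
    have htop : ∀ y : L, y ∈ T := fun y => by
      obtain ⟨a, b, _, rfl⟩ := IsFractionRing.div_surjective (A := C) y
      rw [div_eq_mul_inv]
      exact T.mul_mem (hBT a) (Subalgebra.inv_mem_of_algebraic T (x := ⟨_, hBT b⟩)
        ((Algebra.IsIntegral.isIntegral (R := R) b).map (IsScalarTower.toAlgHom R C L)).tower_top.isAlgebraic)
    exact Module.Finite.of_surjective T.val.toLinearMap fun y => ⟨⟨y, htop y⟩, rfl⟩
  refine ⟨?_, finite_kaehler_of_finite_powerSeries p k hk (n := d)⟩
  simpa using (fieldIdx_fractionRing p k hk d F).trans (EGA41Lib.fieldIdx_of_finite (K := F) (L := L))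

end Groth.Agent.ComplDeriv
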