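import Groth.Agent.ComplDeriv.Field
import Groth.Agent.EGA41Lib.Cartier
import Groth.Agent.EGA41Lib.GeomReducedApps
import Mathlib.RingTheory.MvPowerSeries.Derivative
import Mathlib.RingTheory.MvPowerSeries.Expand
import Mathlib.RingTheory.Kaehler.Basic

/-!
# Differentials of power series fields over a field finite over its `p`-th powers
-/

universe u

open TensorProduct
open KaehlerDifferential (D mapBaseChange)

namespace Groth.Agent.ComplDeriv

variable (p : ℕ) [hp : Fact p.Prime] (k : Type u) [Field k] [CharP k p]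

/-- Every power series is a combination of `b_j T^e` with `p`-th powers as coefficients. -/
theorem exists_decomp (hk : (frobenius k p).Finite) (n : ℕ) :
    ∃ (r : ℕ) (b : Fin r → k), ∀ f : MvPowerSeries (Fin n) k,
      ∃ g : (Fin n → Fin p) → Fin r → MvPowerSeries (Fin n) k,
        f = ∑ e, ∑ j, MvPowerSeries.monomial (Finsupp.equivFunOnFinite.symm fun i => (e i : ℕ)) (b j) * g e j ^ p := by
  classical
  have hp0 := hp.out.ne_zero
  obtain ⟨r, b, hb⟩ : ∃ (r : ℕ) (b : Fin r → k), ∀ c, ∃ a : Fin r → k, ∑ j, a j ^ p * b j = c := by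
    let alg : Algebra k k := (frobenius k p).toAlgebra
    obtain ⟨r, b, hb⟩ := @Module.Finite.exists_fin k k _ _ alg.toModule hk
    refine ⟨r, b, fun c => ?_⟩
    obtain ⟨a, ha⟩ := (@Submodule.mem_span_range_iff_exists_fun (Fin r) k k _ _ _ alg.toModule b c).mp
      (by rw [hb]; trivial)
    exact ⟨a, ha⟩
  choose a ha using hb
  refine ⟨r, b, fun f => ?_⟩
  let ε : (Fin n → Fin p) → (Fin n →₀ ℕ) := fun e => Finsupp.equivFunOnFinite.symm fun i => (e i : ℕ)
  let G : (Fin n → Fin p) → Fin r → MvPowerSeries (Fin n) k :=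
    fun e j => fun q => a (MvPowerSeries.coeff (ε e + p • q) f) j
  refine ⟨G, MvPowerSeries.ext fun m => ?_⟩
  let e₀ : Fin n → Fin p := fun i => ⟨m i % p, Nat.mod_lt _ hp.out.pos⟩
  let q₀ : Fin n →₀ ℕ := Finsupp.equivFunOnFinite.symm fun i => m i / p
  have hm : ε e₀ + p • q₀ = m := Finsupp.ext fun i => by
    simp [ε, e₀, q₀, Nat.mod_add_div]
  have hε : ∀ e i, ε e i = (e i : ℕ) := fun e i => rfl
  simp only [map_sum]
  rw [Finset.sum_eq_single e₀]
  · refine (ha (MvPowerSeries.coeff m f)).symm.trans (Finset.sum_congr rfl fun j _ => ?_)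
    rw [MvPowerSeries.coeff_monomial_mul, if_pos (le_add_right le_rfl |>.trans_eq hm),
      show m - ε e₀ = p • q₀ from by rw [← hm, add_tsub_cancel_left], EGA41Lib.coeff_smul_pow_char]
    change a _ j ^ p * b j = b j * a (MvPowerSeries.coeff (ε e₀ + p • q₀) f) j ^ p
    rw [hm, mul_comm]
  · intro e _ he
    refine Finset.sum_eq_zero fun j _ => ?_
    rw [MvPowerSeries.coeff_monomial_mul]
    split_ifs with hle
    · obtain ⟨i, hi⟩ : ∃ i, ¬ p ∣ (m - ε e) i := by
        by_contra hall
        push Not at hall
        refine he (funext fun i => Fin.ext ?_)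
        obtain ⟨c, hc⟩ := hall i
        have h1 : ε e i ≤ m i := hle i
        rw [Finsupp.tsub_apply, hε] at hc
        rw [hε] at h1
        change (e i : ℕ) = m i % p
        rw [show m i = (e i : ℕ) + p * c by omega, Nat.add_mul_mod_self_left, Nat.mod_eq_of_lt (e i).isLt]
      rw [← MvPowerSeries.map_frobenius_expand p hp0, MvPowerSeries.coeff_map,
        MvPowerSeries.coeff_expand_of_not_dvd p hp0 _ hi, map_zero, mul_zero]
    · rfl
  · exact fun h => absurd (Finset.mem_univ _) h

/-- `Ω_{k[[T]]/k}` is generated by the `dT_i`. -/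
theorem span_dX_eq_top (hk : (frobenius k p).Finite) (n : ℕ) :
    Submodule.span (MvPowerSeries (Fin n) k)
      (Set.range fun i => D k (MvPowerSeries (Fin n) k) (MvPowerSeries.X i)) = ⊤ := by
  classical
  let P := MvPowerSeries (Fin n) k
  let U := Submodule.span P (Set.range fun i => D k P (MvPowerSeries.X i))
  have : CharP P p := charP_of_injective_algebraMap (algebraMap k P).injective p
  have hpoly : ∀ Q : MvPolynomial (Fin n) k, D k P (Q : P) ∈ U := by
    intro Q
    induction Q using MvPolynomial.induction_on with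
    | C c => rw [MvPolynomial.coe_C, MvPowerSeries.c_eq_algebraMap, Derivation.map_algebraMap]; exact zero_mem _
    | add u v hu hv => rw [MvPolynomial.coe_add, map_add]; exact add_mem hu hv
    | mul_X u i hu =>
      rw [MvPolynomial.coe_mul, MvPolynomial.coe_X, Derivation.leibniz]
      exact add_mem (Submodule.smul_mem _ _ (Submodule.subset_span ⟨i, rfl⟩)) (Submodule.smul_mem _ _ hu)
  obtain ⟨r, b, hb⟩ := exists_decomp p k hk n
  refine eq_top_iff.mpr ((KaehlerDifferential.span_range_derivation k P).ge.trans (Submodule.span_le.mpr ?_))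
  rintro _ ⟨f, rfl⟩
  obtain ⟨g, rfl⟩ := hb f
  simp only [map_sum, SetLike.mem_coe]
  refine Submodule.sum_mem _ fun e _ => Submodule.sum_mem _ fun j _ => ?_
  rw [Derivation.leibniz, Derivation.leibniz_pow, ← MvPolynomial.coe_monomial, ← Nat.cast_smul_eq_nsmul P,
    CharP.cast_eq_zero, zero_smul, smul_zero, zero_add]
  exact Submodule.smul_mem _ _ (hpoly _)

/-- The index of the fraction field of `k[[T_1..T_n]]` is `n`. -/
theorem fieldIdx_fractionRing (hk : (frobenius k p).Finite) (n : ℕ) (F : Type u) [Field F]
    [Algebra (MvPowerSeries (Fin n) k) F] [IsFractionRing (MvPowerSeries (Fin n) k) F] [Algebra k F]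
    [IsScalarTower k (MvPowerSeries (Fin n) k) F] : EGA41Lib.FieldIdx k F n := by
  classical
  let P := MvPowerSeries (Fin n) k
  have : IsDomain P := NoZeroDivisors.to_isDomain _
  have : CharP F p := charP_of_injective_algebraMap (algebraMap k F).injective p
  have hinj : Function.Injective (mapBaseChange ℤ k F) :=
    (EGA41Lib.frobLI_iff_injective (p := p)).mp
      (EGA41Lib.FrobLI.of_isFractionRing (R := P) (EGA41Lib.frobLI_mvPowerSeries (p := p) (k := k)))
  let v : Fin n → Ω[F⁄k] := fun i => D k F (algebraMap P F (MvPowerSeries.X i))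
  have hP : ∀ x : P, D k F (algebraMap P F x) ∈ Submodule.span F (Set.range v) := by
    intro x
    have h1 : D k P x ∈ Submodule.span P (Set.range fun i => D k P (MvPowerSeries.X i)) := by
      rw [span_dX_eq_top p k hk n]; trivial
    have h2 := Submodule.mem_map_of_mem (f := KaehlerDifferential.map k k P F) h1
    rw [Submodule.map_span, ← Set.range_comp, KaehlerDifferential.map_D] at h2
    refine Submodule.span_le_restrictScalars P F _ ?_
    have hfun : v = (KaehlerDifferential.map k k P F) ∘ fun i => D k P (MvPowerSeries.X i) :=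
      funext fun i => (KaehlerDifferential.map_D k k P F _).symm
    rw [hfun]
    exact h2
  have hspan : Submodule.span F (Set.range v) = ⊤ := by
    refine eq_top_iff.mpr ((KaehlerDifferential.span_range_derivation k F).ge.trans (Submodule.span_le.mpr ?_))
    rintro _ ⟨y, rfl⟩
    obtain ⟨a, b, _, rfl⟩ := IsFractionRing.div_surjective (A := P) y
    rw [SetLike.mem_coe, Derivation.leibniz_div]
    exact Submodule.smul_mem _ _ (sub_mem (Submodule.smul_mem _ _ (hP a)) (Submodule.smul_mem _ _ (hP b)))
  have hli : LinearIndependent F v := by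
    let D₀ : Fin n → Derivation k P F := fun i => (Algebra.linearMap P F).compDer (MvPowerSeries.pderiv k i)
    choose D₁ hD₁ using fun i => exists_extend_fraction F (D₀ i)
    rw [Fintype.linearIndependent_iff]
    intro g hg i
    have h := congrArg (D₁ i).liftKaehlerDifferential hg
    simp only [map_sum, map_smul, map_zero, v, Derivation.liftKaehlerDifferential_comp_D, hD₁] at h
    rw [Finset.sum_eq_single i] at h
    · change g i * algebraMap P F (MvPowerSeries.pderiv k i (MvPowerSeries.X i)) = 0 at h
      rwa [MvPowerSeries.pderiv_X, Pi.single_eq_same, map_one, mul_one] at h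
    · intro j _ hj
      change g j * algebraMap P F (MvPowerSeries.pderiv k i (MvPowerSeries.X j)) = 0
      rw [MvPowerSeries.pderiv_X, Pi.single_eq_of_ne hj, map_zero, mul_zero]
    · exact fun h => absurd (Finset.mem_univ _) h
  let bas := Module.Basis.mk hli hspan.ge
  have : Module.Finite F Ω[F⁄k] := Module.Finite.of_basis bas
  have h := EGA41Lib.fieldIdx_of_injective (K := k) (L := F) hinj
  rwa [Module.finrank_eq_card_basis bas, Fintype.card_fin] at h

end Groth.Agent.ComplDeriv
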