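import Groth.Agent.ComplDeriv.Bound
import Groth.Agent.PP16Lib.CompletionEquiv
import Mathlib.RingTheory.AdicCompletion.Functoriality
import Mathlib.RingTheory.Unramified.Locus
import Mathlib.RingTheory.Filtration

/-!
# The completed module of differentials of a complete local `k`-algebra

* `exists_finite_gen`: `Ω̂` is finite and generated by finitely many differentials.
* `exists_lift`: derivations into finite modules factor through `Ω̂`.
* `span_fibre_eq_top_iff`: Nakayama at a prime.
* `derivation_evalPS_eq_zero`: derivations killing the images of the variables kill power series.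
-/

universe u

open IsLocalRing

namespace Groth.Agent.ComplDeriv

variable (k A : Type u) [Field k] [CommRing A] [IsLocalRing A] [Algebra k A]

/-- The completed module of differentials. -/
abbrev Om := AdicCompletion (maximalIdeal A) (KaehlerDifferential k A)

/-- The universal continuous derivation. -/
noncomputable def dOm : Derivation k A (Om k A) :=
  (AdicCompletion.of (maximalIdeal A) (KaehlerDifferential k A)).compDer (KaehlerDifferential.D k A)

theorem dOm_apply (a : A) :
    dOm k A a = AdicCompletion.of (maximalIdeal A) _ (KaehlerDifferential.D k A a) := rfl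

variable [IsNoetherianRing A] [IsAdicComplete (maximalIdeal A) A]

/-- Derivations into finite modules factor through `Ω̂`. -/
theorem exists_lift {N : Type u} [AddCommGroup N] [Module A N] [Module k N] [IsScalarTower k A N]
    [Module.Finite A N] (δ : Derivation k A N) :
    ∃ l : Om k A →ₗ[A] N, ∀ a, l (dOm k A a) = δ a := by
  have := AdicLim.isAdicComplete_of_finite (I := maximalIdeal A) N
  refine ⟨(AdicCompletion.ofLinearEquiv (maximalIdeal A) N).symm.toLinearMap ∘ₗ
    (AdicCompletion.map (maximalIdeal A) δ.liftKaehlerDifferential).restrictScalars A, fun a => ?_⟩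
  change (AdicCompletion.ofLinearEquiv (maximalIdeal A) N).symm
    (AdicCompletion.map (maximalIdeal A) δ.liftKaehlerDifferential (dOm k A a)) = δ a
  rw [dOm_apply, AdicCompletion.map_of, LinearEquiv.symm_apply_eq, δ.liftKaehlerDifferential_comp_D]
  rfl

/-- `Ω̂` is generated by finitely many differentials. -/
theorem exists_finite_gen [Module.Finite k (ResidueField A)] :
    Module.Finite A (Om k A) ∧ ∃ (n : ℕ) (y : Fin n → A),
      Submodule.span A (Set.range fun i => dOm k A (y i)) = ⊤ := by
  classical
  let m := maximalIdeal A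
  let Ω := KaehlerDifferential k A
  obtain ⟨s, hs⟩ := (inferInstance : Module.Finite k (ResidueField A)).fg_top
  obtain ⟨t, ht⟩ := (IsNoetherian.noetherian m : m.FG)
  choose lift hlift using fun e : ResidueField A => residue_surjective (R := A) e
  let S : Finset A := s.image lift ∪ t
  let n := Fintype.card S
  let y : Fin n → A := fun i => ((Fintype.equivFin S).symm i : A)
  let f : (Fin n → A) →ₗ[A] Ω := Fintype.linearCombination A (fun i => KaehlerDifferential.D k A (y i))
  let U : Submodule A Ω := LinearMap.range f ⊔ m • (⊤ : Submodule A Ω)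
  have hyU : ∀ a ∈ S, KaehlerDifferential.D k A a ∈ U := fun a ha =>
    Submodule.mem_sup_left (by
      rw [Fintype.range_linearCombination]
      exact Submodule.subset_span ⟨Fintype.equivFin S ⟨a, ha⟩, by simp [y]⟩)
  have hm : ∀ a ∈ m, KaehlerDifferential.D k A a ∈ U := by
    intro a ha
    have ha' : a ∈ Submodule.span A (t : Set A) := by rw [ht]; exact ha
    clear ha
    induction ha' using Submodule.span_induction with
    | mem x hx => exact hyU x (Finset.mem_union_right _ hx)
    | zero => simp
    | add a b _ _ iha ihb =>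
      rw [map_add]
      exact add_mem iha ihb
    | smul c x hx ih =>
      rw [smul_eq_mul, Derivation.leibniz]
      refine add_mem (Submodule.smul_mem _ _ ih) ?_
      exact Submodule.mem_sup_right (Submodule.smul_mem_smul (ht ▸ hx) trivial)
  have hall : ∀ a, KaehlerDifferential.D k A a ∈ U := by
    intro a
    have hz : residue A a ∈ Submodule.span k (s : Set (ResidueField A)) := by rw [hs]; trivial
    suffices ∀ z ∈ Submodule.span k (s : Set (ResidueField A)), ∃ b, residue A b = z ∧
        KaehlerDifferential.D k A b ∈ U by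
      obtain ⟨b, hb, hbU⟩ := this _ hz
      rw [show a = b + (a - b) by ring, map_add]
      exact add_mem hbU (hm _ ((residue_eq_zero_iff _).mp (by rw [map_sub, hb, sub_self])))
    intro z hz
    induction hz using Submodule.span_induction with
    | mem e he => exact ⟨lift e, hlift e, hyU _ (Finset.mem_union_left _ (Finset.mem_image_of_mem _ he))⟩
    | zero => exact ⟨0, map_zero _, by simp⟩
    | add u v _ _ hu hv =>
      obtain ⟨b, hb, hbU⟩ := hu
      obtain ⟨c, hc, hcU⟩ := hv
      exact ⟨b + c, by rw [map_add, hb, hc], by rw [map_add]; exact add_mem hbU hcU⟩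
    | smul c u _ hu =>
      obtain ⟨b, hb, hbU⟩ := hu
      refine ⟨c • b, ?_, by rw [Derivation.map_smul]; exact Submodule.smul_of_tower_mem _ c hbU⟩
      rw [Algebra.smul_def, Algebra.smul_def, map_mul, hb]; rfl
  have hsurj : Function.Surjective ((m • (⊤ : Submodule A Ω)).mkQ ∘ₗ f) := by
    rw [← LinearMap.range_eq_top, LinearMap.range_comp, Submodule.map_mkQ_eq_top, sup_comm, eq_top_iff]
    refine (KaehlerDifferential.span_range_derivation k A).ge.trans (Submodule.span_le.mpr ?_)
    rintro _ ⟨a, rfl⟩
    exact hall a
  have hbig := AdicCompletion.map_surjective_of_mkQ_comp_surjective hsurj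
  have := AdicLim.isAdicComplete_of_finite (I := m) (Fin n → A)
  let g : (Fin n → A) →ₗ[A] Om k A := (AdicCompletion.of m Ω).comp f
  have hg : Function.Surjective g := fun z => by
    obtain ⟨x, rfl⟩ := hbig z
    obtain ⟨x, rfl⟩ := (AdicCompletion.ofLinearEquiv m (Fin n → A)).surjective x
    refine ⟨x, ?_⟩
    change AdicCompletion.of m Ω (f x) = AdicCompletion.map m f (AdicCompletion.of m _ x)
    rw [AdicCompletion.map_of]
  refine ⟨Module.Finite.of_surjective g hg, n, y, ?_⟩
  have h1 : g = Fintype.linearCombination A (fun i => dOm k A (y i)) := by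
    ext i
    simp [g, f, dOm_apply]
  rw [← Fintype.range_linearCombination, ← h1, LinearMap.range_eq_top]
  exact hg

omit [IsLocalRing A] [IsNoetherianRing A] [IsAdicComplete (maximalIdeal A) A] in
/-- Nakayama at a prime. -/
theorem span_fibre_eq_top_iff {M : Type u} [AddCommGroup M] [Module A M] [Module.Finite A M]
    (p : Ideal A) [p.IsPrime] {ι : Type*} (w : ι → M) :
    Submodule.span p.ResidueField (Set.range fun j => (1 : p.ResidueField) ⊗ₜ[A] w j) = ⊤ ↔
      ∀ z, ∃ s ∉ p, s • z ∈ Submodule.span A (Set.range w) := by
  constructor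
  · intro hspan
    let N : Submodule A M := Submodule.span A (Set.range w)
    have hker : ¬ Nontrivial (TensorProduct A p.ResidueField (M ⧸ N)) := by
      intro h
      let π := N.mkQ.baseChange p.ResidueField
      have hπ : ∀ z, π z = 0 := fun z => by
        have hz : z ∈ Submodule.span p.ResidueField (Set.range fun j => (1 : p.ResidueField) ⊗ₜ[A] w j) := by
          rw [hspan]; trivial
        induction hz using Submodule.span_induction with
        | mem z hz =>
          obtain ⟨j, rfl⟩ := hz
          rw [LinearMap.baseChange_tmul, (Submodule.Quotient.mk_eq_zero N).mpr (Submodule.subset_span ⟨j, rfl⟩) |>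
            fun e : N.mkQ (w j) = 0 => e, TensorProduct.tmul_zero]
        | zero => exact map_zero _
        | add u v _ _ hu hv => rw [map_add, hu, hv, add_zero]
        | smul c u _ hu => rw [map_smul, hu, smul_zero]
      obtain ⟨v, hv⟩ := exists_ne (0 : TensorProduct A p.ResidueField (M ⧸ N))
      obtain ⟨z, rfl⟩ := LinearMap.lTensor_surjective p.ResidueField N.mkQ_surjective v
      exact hv (hπ z)
    have hsupp : (⟨p, ‹_›⟩ : PrimeSpectrum A) ∉ Module.support A (M ⧸ N) := fun h =>
      hker ((Module.mem_support_iff_nontrivial_residueField_tensorProduct ⟨p, ‹_›⟩).mp h)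
    intro z
    rw [Module.notMem_support_iff'] at hsupp
    obtain ⟨s, hs, hsm⟩ := hsupp (Submodule.Quotient.mk z)
    rw [← Submodule.Quotient.mk_smul, Submodule.Quotient.mk_eq_zero] at hsm
    exact ⟨s, hs, hsm⟩
  · intro h
    refine eq_top_iff.mpr fun v _ => ?_
    induction v with
    | zero => exact zero_mem _
    | add a b ha hb => exact add_mem (ha trivial) (hb trivial)
    | tmul c z =>
      obtain ⟨s, hs, hsz⟩ := h z
      have h0 : algebraMap A p.ResidueField s ≠ 0 := by
        rwa [ne_eq, Ideal.algebraMap_residueField_eq_zero]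
      have key : ∀ x ∈ Submodule.span A (Set.range w), (1 : p.ResidueField) ⊗ₜ[A] x ∈
          Submodule.span p.ResidueField (Set.range fun j => (1 : p.ResidueField) ⊗ₜ[A] w j) := by
        intro x hx
        induction hx using Submodule.span_induction with
        | mem x hx => obtain ⟨j, rfl⟩ := hx; exact Submodule.subset_span ⟨j, rfl⟩
        | zero => simp
        | add u v _ _ hu hv => rw [TensorProduct.tmul_add]; exact add_mem hu hv
        | smul a u _ hu => rw [TensorProduct.tmul_smul]; exact Submodule.smul_of_tower_mem _ a hu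
      have h1 : c ⊗ₜ[A] z = (c * (algebraMap A p.ResidueField s)⁻¹) • ((1 : p.ResidueField) ⊗ₜ[A] (s • z)) := by
        rw [TensorProduct.smul_tmul', smul_eq_mul, mul_one, ← TensorProduct.smul_tmul, Algebra.smul_def,
          mul_comm, inv_mul_cancel_right₀ h0]
      rw [h1]
      exact Submodule.smul_mem _ _ (key _ hsz)

omit [Algebra k A] [IsNoetherianRing A] [IsAdicComplete (maximalIdeal A) A] in
theorem map_nonunit_mem {n : ℕ} (f : MvPowerSeries (Fin n) k →+* A)
    (hf : ∀ i, f (MvPowerSeries.X i) ∈ maximalIdeal A) (x : MvPowerSeries (Fin n) k) (hx : ¬ IsUnit x) :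
    f x ∈ maximalIdeal A := by
  rw [MvPowerSeries.isUnit_iff_constantCoeff, isUnit_iff_ne_zero, not_not] at hx
  have := Ideal.mem_map_of_mem f (PP16Lib.ker_constantCoeff n k x hx)
  rw [Ideal.map_span] at this
  refine Ideal.span_le.mpr ?_ this
  rintro _ ⟨_, ⟨i, rfl⟩, rfl⟩
  exact hf i

omit [IsAdicComplete (maximalIdeal A) A] in
/-- A derivation killing the images of the variables kills the image of `k[[T]]`. -/
theorem derivation_map_eq_zero {n : ℕ} {N : Type u} [AddCommGroup N] [Module A N] [Module k N]
    [IsScalarTower k A N] [Module.Finite A N] (δ : Derivation k A N) (f : MvPowerSeries (Fin n) k →+* A)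
    (hfC : ∀ c, f (MvPowerSeries.C c) = algebraMap k A c) (hf : ∀ i, f (MvPowerSeries.X i) ∈ maximalIdeal A)
    (hδ : ∀ i, δ (f (MvPowerSeries.X i)) = 0) (x : MvPowerSeries (Fin n) k) : δ (f x) = 0 := by
  classical
  let m := maximalIdeal A
  have hbot := Ideal.iInf_pow_smul_eq_bot_of_isLocalRing (M := N) m (maximalIdeal.isMaximal A).ne_top
  rw [← Submodule.mem_bot (R := A), ← hbot, Submodule.mem_iInf]
  intro j
  induction j generalizing x with
  | zero => simp
  | succ j ih =>
    obtain ⟨c, y, hy, rfl⟩ : ∃ c, ∃ y ∈ Ideal.span (Set.range (MvPowerSeries.X : Fin n → MvPowerSeries (Fin n) k)),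
        x = MvPowerSeries.C c + y :=
      ⟨MvPowerSeries.constantCoeff x, x - MvPowerSeries.C (MvPowerSeries.constantCoeff x),
        PP16Lib.ker_constantCoeff n k _ (by simp), by ring⟩
    rw [map_add, map_add, hfC, Derivation.map_algebraMap, zero_add]
    obtain ⟨r, rfl⟩ := Ideal.mem_span_range_iff_exists_fun.mp hy
    rw [map_sum, map_sum]
    refine Submodule.sum_mem _ fun i _ => ?_
    rw [map_mul, Derivation.leibniz, hδ, smul_zero, zero_add, pow_succ', ← smul_eq_mul, Submodule.smul_assoc]
    exact Submodule.smul_mem_smul (hf i) (ih _)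

end Groth.Agent.ComplDeriv
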