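import Groth.Agent.ComplDeriv.Existence
import Groth.Agent.ComplDeriv.Omega
import Groth.Agent.ComplDeriv.Field
import Groth.Agent.EGA41Lib.GeomReducedApps
import Groth.Agent.DepthLib.RegularInfSq
import Groth.Agent.RegularSerre.Localization
import Groth.Agent.Catenary.Equidim
import Groth.Agent.DimTrdeg.Basic
import Mathlib.RingTheory.MvPowerSeries.Derivative
import Mathlib.RingTheory.Localization.Ideal
import Mathlib.LinearAlgebra.Dual.Lemmas

/-!
# Nagata's Jacobian criterion for quotients of power series rings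
-/

universe u

open IsLocalRing
open MvPowerSeries (pderiv)

namespace Groth.Agent.ComplDeriv

variable {k : Type u} [Field k] {r : ℕ} {L : Type u} [Field L] [Algebra (MvPowerSeries (Fin r) k) L]

/-- The gradient of a power series, evaluated in a field. -/
noncomputable def jac (f : MvPowerSeries (Fin r) k) : Fin r → L :=
  fun i => algebraMap (MvPowerSeries (Fin r) k) L (pderiv k i f)

theorem jac_add (f g : MvPowerSeries (Fin r) k) : (jac (f + g) : Fin r → L) = jac f + jac g :=
  funext fun i => by simp [jac]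

theorem jac_zero : (jac (0 : MvPowerSeries (Fin r) k) : Fin r → L) = 0 :=
  funext fun i => by simp [jac]

theorem jac_mul (f g : MvPowerSeries (Fin r) k) :
    (jac (f * g) : Fin r → L) = algebraMap _ L f • jac g + algebraMap _ L g • jac f :=
  funext fun i => by
    simp only [jac, Derivation.leibniz, smul_eq_mul, map_add, map_mul, Pi.add_apply, Pi.smul_apply]

theorem jac_X (i : Fin r) : (jac (MvPowerSeries.X i : MvPowerSeries (Fin r) k) : Fin r → L) = Pi.single i 1 := by
  classical
  funext j
  rcases eq_or_ne j i with rfl | hji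
  · rw [Pi.single_eq_same, jac, MvPowerSeries.pderiv_X_self, map_one]
  · rw [Pi.single_eq_of_ne hji, jac, show pderiv k j (MvPowerSeries.X i : MvPowerSeries (Fin r) k) = 0 from by
      rw [← MvPolynomial.coe_X, MvPowerSeries.pderiv_coe, MvPolynomial.pderiv_X_of_ne hji.symm]; simp, map_zero]

theorem derivation_sum_apply {ι : Type} (t : Finset ι) {A : Type u} [CommRing A] [Algebra k A]
    (D : ι → Derivation k A A) (x : A) : (∑ i ∈ t, D i) x = ∑ i ∈ t, D i x := by
  classical
  induction t using Finset.induction_on with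
  | empty => rfl
  | insert a t ha ih => rw [Finset.sum_insert ha, Finset.sum_insert ha, Derivation.add_apply, ih]

theorem isDomain_powerSeries : IsDomain (MvPowerSeries (Fin r) k) := NoZeroDivisors.to_isDomain _

/-- The rank of the Jacobian matrix of `p` at `p` is at least `r - dim A/p`, in the separable case. -/
theorem le_finrank_span_jac (p : Ideal (MvPowerSeries (Fin r) k)) [p.IsPrime] (s : ℕ)
    [Algebra (MvPowerSeries (Fin s) k) (MvPowerSeries (Fin r) k ⧸ p)]
    [IsScalarTower k (MvPowerSeries (Fin s) k) (MvPowerSeries (Fin r) k ⧸ p)]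
    [Module.Finite (MvPowerSeries (Fin s) k) (MvPowerSeries (Fin r) k ⧸ p)]
    {L' : Type u} [Field L']
    [Algebra (MvPowerSeries (Fin s) k) L'] [IsFractionRing (MvPowerSeries (Fin s) k) L']
    [Algebra (MvPowerSeries (Fin r) k ⧸ p) L] [IsFractionRing (MvPowerSeries (Fin r) k ⧸ p) L]
    [IsScalarTower (MvPowerSeries (Fin r) k) (MvPowerSeries (Fin r) k ⧸ p) L]
    [Algebra L' L] [Algebra (MvPowerSeries (Fin s) k) L]
    [IsScalarTower (MvPowerSeries (Fin s) k) (MvPowerSeries (Fin r) k ⧸ p) L]
    [IsScalarTower (MvPowerSeries (Fin s) k) L' L] [Algebra.IsSeparable L' L] :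
    r ≤ s + Module.finrank L (Submodule.span L ((jac : _ → Fin r → L) '' (p : Set (MvPowerSeries (Fin r) k)))) := by
  classical
  let A := MvPowerSeries (Fin r) k
  let P := MvPowerSeries (Fin s) k
  let R := A ⧸ p
  have : IsLocalRing R := .of_surjective' (Ideal.Quotient.mk p) Ideal.Quotient.mk_surjective
  have hXm : ∀ j, algebraMap P R (MvPowerSeries.X j) ∈ maximalIdeal R := fun j => by
    have h := IsLocalRing.eq_maximalIdeal
      (Ideal.isMaximal_comap_of_isIntegral_of_isMaximal (R := P) (maximalIdeal R))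
    rw [← Ideal.mem_comap, h, ← span_X_eq_maximalIdeal s k]
    exact Ideal.subset_span ⟨j, rfl⟩
  let W := Submodule.span L ((jac : _ → Fin r → L) '' (p : Set A))
  choose xt hxt using fun j => Ideal.Quotient.mk_surjective (I := p) (algebraMap P R (MvPowerSeries.X j))
  let Φ : W.dualAnnihilator →ₗ[L] (Fin s → L) :=
    { toFun := fun φ j => (φ : Module.Dual L (Fin r → L)) (jac (xt j))
      map_add' := fun φ ψ => funext fun j => rfl
      map_smul' := fun c φ => funext fun j => rfl }
  have hΦ : Function.Injective Φ := by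
    intro φ₁ φ₂ h12
    rw [← sub_eq_zero]
    have h0 : ∀ j, ((φ₁ : Module.Dual L (Fin r → L)) - φ₂) (jac (xt j)) = 0 := fun j => by
      rw [LinearMap.sub_apply, sub_eq_zero]; exact congrFun h12 j
    obtain ⟨φ, hφe⟩ : ∃ φ : W.dualAnnihilator, φ = φ₁ - φ₂ := ⟨_, rfl⟩
    rw [← hφe]
    replace h0 : ∀ j, (φ : Module.Dual L (Fin r → L)) (jac (xt j)) = 0 := by
      intro j; rw [hφe]; exact h0 j
    clear hφe h12 φ₁ φ₂
    obtain ⟨φ, hφ⟩ := φ
    refine Subtype.ext ?_
    rw [Submodule.mem_dualAnnihilator] at hφ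
    obtain ⟨⟨b, hb⟩, hbi⟩ := IsLocalization.exist_integer_multiples (nonZeroDivisors R) Finset.univ
      (fun i : Fin r => φ (Pi.single i 1))
    choose a ha using fun i => hbi i (Finset.mem_univ i)
    choose at' hat using fun i => Ideal.Quotient.mk_surjective (I := p) (a i)
    let d : Derivation k A A := ∑ i, at' i • pderiv k i
    have hd : ∀ f, algebraMap R L (Ideal.Quotient.mk p (d f)) = algebraMap R L b * φ (jac f) := fun f => by
      conv_rhs => rw [pi_eq_sum_univ' (jac f : Fin r → L)]
      have h1 : d f = ∑ i, at' i * pderiv k i f := by simp [d, derivation_sum_apply]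
      rw [h1, map_sum, map_sum, map_sum, Finset.mul_sum]
      refine Finset.sum_congr rfl fun i _ => ?_
      rw [map_smul, map_mul, map_mul, hat, ha, Algebra.smul_def, smul_eq_mul,
        show algebraMap R L (Ideal.Quotient.mk p (pderiv k i f)) = jac f i from
          (IsScalarTower.algebraMap_apply A R L _).symm]
      ring
    have hinjR : Function.Injective (algebraMap R L) := IsFractionRing.injective R L
    have key : ∀ x y : A, Ideal.Quotient.mk p x = Ideal.Quotient.mk p y →
        Ideal.Quotient.mk p (d x) = Ideal.Quotient.mk p (d y) := fun x y h => by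
      rw [Ideal.Quotient.mk_eq_mk_iff_sub_mem] at h
      rw [← sub_eq_zero, ← map_sub, ← map_sub]
      apply hinjR
      rw [hd, hφ _ (Submodule.subset_span ⟨_, h, rfl⟩), mul_zero, map_zero]
    let σ := Function.surjInv (Ideal.Quotient.mk_surjective (I := p))
    have hσ : ∀ z, Ideal.Quotient.mk p (σ z) = z := Function.surjInv_eq _
    let δ : Derivation k R R :=
      Derivation.mk'
        { toFun := fun z => Ideal.Quotient.mk p (d (σ z))
          map_add' := fun z w => by
            rw [← map_add (Ideal.Quotient.mk p), ← map_add d]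
            exact key _ _ (by rw [map_add, hσ, hσ, hσ])
          map_smul' := fun c z => by
            rw [RingHom.id_apply, key (σ (c • z)) (c • σ z)
              (by rw [hσ, ← Ideal.Quotient.mkₐ_eq_mk k, map_smul, Ideal.Quotient.mkₐ_eq_mk, hσ]),
              Derivation.map_smul, ← Ideal.Quotient.mkₐ_eq_mk k, map_smul] }
        fun z w => by
          change Ideal.Quotient.mk p (d (σ (z * w))) = z • Ideal.Quotient.mk p (d (σ w)) + w • Ideal.Quotient.mk p (d (σ z))
          rw [key (σ (z * w)) (σ z * σ w) (by rw [map_mul, hσ, hσ, hσ]), Derivation.leibniz]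
          simp only [map_add, smul_eq_mul, map_mul, hσ]
    have hδ : ∀ f, δ (Ideal.Quotient.mk p f) = Ideal.Quotient.mk p (d f) := fun f => key _ _ (hσ _)
    have hδX : ∀ j, δ (algebraMap P R (MvPowerSeries.X j)) = 0 := fun j => by
      rw [← hxt j, hδ]
      apply hinjR
      rw [hd, show φ (jac (xt j)) = 0 from h0 j, mul_zero, map_zero]
    have hδP : ∀ x, δ (algebraMap P R x) = 0 := fun x =>
      derivation_map_eq_zero k R δ (algebraMap P R)
        (fun c => by rw [MvPowerSeries.c_eq_algebraMap]; exact (IsScalarTower.algebraMap_apply k P R c).symm)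
        hXm hδX x
    -- the extension to the fraction field is linear over `L'`
    let _ : Algebra k L := ((algebraMap R L).comp (algebraMap k R)).toAlgebra
    have : IsScalarTower k R L := ⟨fun c x y => by
      rw [Algebra.smul_def x y, Algebra.smul_def (c • x) y, Algebra.smul_def c x, map_mul, mul_assoc,
        Algebra.smul_def c (algebraMap R L x * y)]
      rfl⟩
    obtain ⟨D, hD⟩ := exists_extend_fraction (K := L) L ((Algebra.linearMap R L).compDer δ)
    have hDP : ∀ x : P, D (algebraMap L' L (algebraMap P L' x)) = 0 := fun x => by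
      rw [← IsScalarTower.algebraMap_apply, IsScalarTower.algebraMap_apply P R L, hD]
      change algebraMap R L (δ (algebraMap P R x)) = 0
      rw [hδP, map_zero]
    have hDL' : ∀ c : L', D (algebraMap L' L c) = 0 := fun c => by
      obtain ⟨x, y, hy, rfl⟩ := IsFractionRing.div_surjective (A := P) c
      rw [map_div₀, Derivation.leibniz_div, hDP, hDP]
      simp
    let D' : Derivation L' L L :=
      Derivation.mk'
        { toFun := D
          map_add' := map_add D
          map_smul' := fun c z => by
            rw [Algebra.smul_def, Derivation.leibniz, hDL', smul_zero, add_zero, RingHom.id_apply, smul_eq_mul]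
            exact (Algebra.smul_def c (D z)).symm }
        fun z w => D.leibniz z w
    have : Algebra.FormallyUnramified L' L := Algebra.FormallyUnramified.of_isSeparable L' L
    have hD0 : ∀ z, D z = 0 := fun z => by
      change D' z = 0
      rw [← D'.liftKaehlerDifferential_comp_D, Subsingleton.elim (KaehlerDifferential.D L' L z) 0, map_zero]
    refine LinearMap.pi_ext fun i c => ?_
    have hc : (Pi.single i c : Fin r → L) = c • (Pi.single i 1 : Fin r → L) := by
      rw [← Pi.single_smul', smul_eq_mul, mul_one]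
    rw [hc, map_smul, ← jac_X (k := k)]
    change c • φ _ = (0 : L)
    have h1 : algebraMap R L b * φ (jac (MvPowerSeries.X i : A)) = 0 := by
      rw [← hd, ← hδ]
      exact (hD _).symm.trans (hD0 _)
    rw [mul_eq_zero] at h1
    rcases h1 with h1 | h1
    · exact absurd h1 (IsFractionRing.to_map_ne_zero_of_mem_nonZeroDivisors hb)
    · rw [h1, smul_zero]
  have hle := LinearMap.finrank_le_finrank_of_injective hΦ
  have hsum := Subspace.finrank_add_finrank_dualAnnihilator_eq W
  simp only [Module.finrank_fin_fun] at hle hsum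
  change r ≤ s + Module.finrank L W
  omega

/-- `k → L` is formally smooth. -/
theorem formallySmooth_of_separable_over_powerSeries (s : ℕ) {L' : Type u} [Field L']
    [Algebra (MvPowerSeries (Fin s) k) L'] [IsFractionRing (MvPowerSeries (Fin s) k) L']
    [Algebra k L'] [IsScalarTower k (MvPowerSeries (Fin s) k) L']
    [Algebra L' L] [Algebra k L] [IsScalarTower k L' L] [Algebra.IsSeparable L' L] :
    Algebra.FormallySmooth k L := by
  have : IsDomain (MvPowerSeries (Fin s) k) := NoZeroDivisors.to_isDomain _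
  have h' : Algebra.FormallySmooth k L' := by
    obtain hc | ⟨p, hp, hpk⟩ := CharP.exists' k
    · exact EGA41Lib.formallySmooth_of_charZero
    · have h0 : EGA41Lib.FrobLI p k L' := EGA41Lib.FrobLI.of_isFractionRing (R := MvPowerSeries (Fin s) k)
        (EGA41Lib.frobLI_mvPowerSeries (p := p))
      exact EGA41Lib.formallySmooth_iff_isGeometricallyReduced.mpr (EGA41Lib.FrobLI.isGeometricallyReduced h0)
  have : Algebra.FormallyEtale L' L := Algebra.FormallyEtale.of_isSeparable L' L
  exact Algebra.FormallySmooth.comp k L' L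

section criterion

variable (p q : Ideal (MvPowerSeries (Fin r) k)) [p.IsPrime]

/-- The regular local ring at `p` modulo `q` is the local ring of the quotient. -/
theorem isRegularLocalRing_quotient_iff (hqp : q ≤ p) [(p.map (Ideal.Quotient.mk q)).IsPrime] :
    IsRegularLocalRing (Localization.AtPrime (p.map (Ideal.Quotient.mk q))) ↔
      IsRegularLocalRing (Localization.AtPrime p ⧸ q.map (algebraMap _ (Localization.AtPrime p))) := by
  let A := MvPowerSeries (Fin r) k
  let R := Localization.AtPrime p
  let Q := R ⧸ q.map (algebraMap A R)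
  have hM : Algebra.algebraMapSubmonoid (A ⧸ q) p.primeCompl = (p.map (Ideal.Quotient.mk q)).primeCompl := by
    ext z
    obtain ⟨z, rfl⟩ := Ideal.Quotient.mk_surjective z
    have hiff : Ideal.Quotient.mk q z ∈ p.map (Ideal.Quotient.mk q) ↔ z ∈ p := by
      rw [← Ideal.mem_comap, Ideal.comap_map_of_surjective _ Ideal.Quotient.mk_surjective,
        ← RingHom.ker_eq_comap_bot, Ideal.mk_ker, sup_eq_left.mpr hqp]
    constructor
    · rintro ⟨a, ha, hz⟩ hzp
      refine ha ?_
      have h : Ideal.Quotient.mk q z = Ideal.Quotient.mk q a := hz.symm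
      rw [Ideal.Quotient.mk_eq_mk_iff_sub_mem] at h
      have := Ideal.sub_mem _ (hiff.mp hzp) (hqp h)
      rwa [sub_sub_cancel] at this
    · exact fun hz => ⟨z, fun h => hz (hiff.mpr h), rfl⟩
  have : IsLocalization (p.map (Ideal.Quotient.mk q)).primeCompl Q := hM ▸ inferInstance
  let e : Localization.AtPrime (p.map (Ideal.Quotient.mk q)) ≃+* R ⧸ q.map (algebraMap A R) :=
    (IsLocalization.algEquiv (p.map (Ideal.Quotient.mk q)).primeCompl
    (Localization.AtPrime (p.map (Ideal.Quotient.mk q))) Q).toRingEquiv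
  exact ⟨fun h => @IsRegularLocalRing.of_ringEquiv _ _ h _ _ e, fun h => @IsRegularLocalRing.of_ringEquiv _ _ h _ _ e.symm⟩

variable [Algebra (MvPowerSeries (Fin r) k ⧸ p) L]
  [IsFractionRing (MvPowerSeries (Fin r) k ⧸ p) L]
  [IsScalarTower (MvPowerSeries (Fin r) k) (MvPowerSeries (Fin r) k ⧸ p) L]

omit [p.IsPrime] in
theorem algebraMap_eq_zero_iff {f : MvPowerSeries (Fin r) k} :
    algebraMap (MvPowerSeries (Fin r) k) L f = 0 ↔ f ∈ p := by
  rw [IsScalarTower.algebraMap_apply (MvPowerSeries (Fin r) k) (MvPowerSeries (Fin r) k ⧸ p) L,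
    map_eq_zero_iff _ (IsFractionRing.injective _ L), Ideal.Quotient.algebraMap_eq, Ideal.Quotient.eq_zero_iff_mem]

/-- A Jacobian minor outside `p` gives regularity. -/
theorem isRegularLocalRing_of_det (hqp : q ≤ p) {m : ℕ}
    (D : Fin m → Derivation k (MvPowerSeries (Fin r) k) (MvPowerSeries (Fin r) k))
    (f : Fin m → MvPowerSeries (Fin r) k) (hf : ∀ i, f i ∈ q)
    (hgen : q.map (algebraMap _ (Localization.AtPrime p)) =
      Ideal.span (Set.range fun i => algebraMap _ (Localization.AtPrime p) (f i)))
    (hdet : Matrix.det (Matrix.of fun i j => D i (f j)) ∉ p) :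
    IsRegularLocalRing (Localization.AtPrime p ⧸ q.map (algebraMap _ (Localization.AtPrime p))) := by
  classical
  let A := MvPowerSeries (Fin r) k
  let R := Localization.AtPrime p
  have : IsDomain A := isDomain_powerSeries
  have : IsRegularLocalRing A := PP16Lib.isRegularLocalRing_mvPowerSeries r k
  have : IsRegularRing A := RegularSerre.isRegularRing_of_isRegularLocalRing A
  have : IsRegularLocalRing R := isRegularRing_iff.mp inferInstance p
  refine DepthLib.isRegularLocalRing_quotient_of_inf_sq_le _ R _ rfl ?_ fun z ⟨hzJ, hz2⟩ => ?_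
  · rw [← IsLocalization.AtPrime.map_eq_maximalIdeal p R]; exact Ideal.map_mono hqp
  rw [SetLike.mem_coe, hgen, Ideal.mem_span_range_iff_exists_fun] at hzJ
  obtain ⟨c, rfl⟩ := hzJ
  obtain ⟨⟨u, hu⟩, hbu⟩ := IsLocalization.exist_integer_multiples p.primeCompl Finset.univ c
  choose b hb using fun j => hbu j (Finset.mem_univ j)
  have hsum : algebraMap A R (∑ j, b j * f j) = algebraMap A R u * ∑ j, c j * algebraMap A R (f j) := by
    rw [map_sum, Finset.mul_sum]
    refine Finset.sum_congr rfl fun j _ => ?_
    rw [map_mul, hb, Algebra.smul_def, mul_assoc]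
  have h2 : algebraMap A R (∑ j, b j * f j) ∈ (p ^ 2).map (algebraMap A R) := by
    rw [hsum, Ideal.map_pow, IsLocalization.AtPrime.map_eq_maximalIdeal p R]
    exact Ideal.mul_mem_left _ _ hz2
  obtain ⟨⟨⟨a, ha⟩, ⟨w, hw⟩⟩, haw⟩ := (IsLocalization.mem_map_algebraMap_iff p.primeCompl R).mp h2
  rw [← map_mul] at haw
  obtain ⟨⟨v, hv⟩, hva⟩ := IsLocalization.exists_of_eq (M := p.primeCompl) haw
  have hmem : (v * w) * ∑ j, b j * f j ∈ p ^ 2 := by
    have : v * ((∑ j, b j * f j) * w) ∈ p ^ 2 := hva ▸ Ideal.mul_mem_left _ v ha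
    convert this using 1; ring
  have hD : ∀ i, ∀ x ∈ p ^ 2, D i x ∈ p := fun i x hx => by
    rw [pow_two] at hx
    refine Submodule.mul_induction_on hx (fun a ha b hb => ?_) fun a b ha hb => by rw [map_add]; exact add_mem ha hb
    rw [Derivation.leibniz]
    exact add_mem (Ideal.mul_mem_right _ _ ha) (Ideal.mul_mem_right _ _ hb)
  let L := FractionRing (A ⧸ p)
  let M : Matrix (Fin m) (Fin m) L := (algebraMap A L).mapMatrix (Matrix.of fun i j => D i (f j))
  have hzero : ∀ i, ∑ j, algebraMap A L (D i (f j)) * algebraMap A L (b j) = 0 := fun i => by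
    have h := (algebraMap_eq_zero_iff (L := L) p).mpr (hD i _ hmem)
    rw [Derivation.leibniz, smul_eq_mul, smul_eq_mul, map_add, map_mul _ (v * w), map_mul _ (∑ j, b j * f j)] at h
    have hfp : ∀ j, algebraMap A L (f j) = 0 := fun j => (algebraMap_eq_zero_iff p).mpr (hqp (hf j))
    have hS : algebraMap A L (∑ j, b j * f j) = 0 := by simp [hfp]
    have hvw : algebraMap A L (v * w) ≠ 0 := fun h0 => by
      rcases (inferInstance : p.IsPrime).mem_or_mem ((algebraMap_eq_zero_iff p).mp h0) with h0 | h0
      exacts [hv h0, hw h0]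
    rw [hS, zero_mul, add_zero, mul_eq_zero, or_iff_right hvw, map_sum (D i), map_sum] at h
    rw [← h]
    refine Finset.sum_congr rfl fun j _ => ?_
    rw [Derivation.leibniz, map_add, smul_eq_mul, smul_eq_mul, map_mul, map_mul, hfp, zero_mul, add_zero, mul_comm]
  have hb0 : (fun j => algebraMap A L (b j)) = 0 := by
    refine Matrix.eq_zero_of_mulVec_eq_zero (M := M) ?_ (funext fun i => hzero i)
    rw [← RingHom.map_det]
    exact fun h0 => hdet ((algebraMap_eq_zero_iff p).mp h0)
  have hunit : IsUnit (algebraMap A R u) := IsLocalization.map_units R (⟨u, hu⟩ : p.primeCompl)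
  rw [← Ideal.unit_mul_mem_iff_mem _ hunit, ← hsum, map_sum]
  refine Submodule.sum_mem _ fun j _ => ?_
  rw [map_mul, ← IsLocalization.AtPrime.map_eq_maximalIdeal p R, ← Ideal.map_mul]
  have hbj : b j ∈ p := (algebraMap_eq_zero_iff p).mp (congrFun hb0 j)
  rw [← map_mul]
  exact Ideal.mem_map_of_mem _ (Ideal.mul_mem_mul hbj (hf j))

/-- In the separable case regularity gives a Jacobian minor. -/
theorem exists_det_of_isRegularLocalRing (hqp : q ≤ p) (s : ℕ)
    [Algebra (MvPowerSeries (Fin s) k) (MvPowerSeries (Fin r) k ⧸ p)]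
    [IsScalarTower k (MvPowerSeries (Fin s) k) (MvPowerSeries (Fin r) k ⧸ p)]
    [Module.Finite (MvPowerSeries (Fin s) k) (MvPowerSeries (Fin r) k ⧸ p)]
    (hinj : Function.Injective (algebraMap (MvPowerSeries (Fin s) k) (MvPowerSeries (Fin r) k ⧸ p)))
    {L' : Type u} [Field L']
    [Algebra (MvPowerSeries (Fin s) k) L'] [IsFractionRing (MvPowerSeries (Fin s) k) L']
    [Algebra L' L] [Algebra (MvPowerSeries (Fin s) k) L]
    [IsScalarTower (MvPowerSeries (Fin s) k) (MvPowerSeries (Fin r) k ⧸ p) L]
    [IsScalarTower (MvPowerSeries (Fin s) k) L' L] [Algebra.IsSeparable L' L]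
    (hreg : IsRegularLocalRing (Localization.AtPrime p ⧸ q.map (algebraMap _ (Localization.AtPrime p)))) :
    ∃ (m : ℕ) (D : Fin m → Derivation k (MvPowerSeries (Fin r) k) (MvPowerSeries (Fin r) k))
      (f : Fin m → MvPowerSeries (Fin r) k), (∀ i, f i ∈ q) ∧
      q.map (algebraMap _ (Localization.AtPrime p)) =
        Ideal.span (Set.range fun i => algebraMap _ (Localization.AtPrime p) (f i)) ∧
      Matrix.det (Matrix.of fun i j => D i (f j)) ∉ p := by
  classical
  let A := MvPowerSeries (Fin r) k
  let R := Localization.AtPrime p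
  have : IsDomain A := isDomain_powerSeries
  have hregA : IsRegularLocalRing A := PP16Lib.isRegularLocalRing_mvPowerSeries r k
  have : IsRegularRing A := RegularSerre.isRegularRing_of_isRegularLocalRing A
  have hregR : IsRegularLocalRing R := isRegularRing_iff.mp inferInstance p
  let h := (maximalIdeal R).spanFinrank
  -- `height p + dim A/p = r`
  have hdim : h + s = r := by
    have := DepthLib.isCohenMacaulayLocalRing_of_isRegularLocalRing A
    have h1 := (Catenary.heightCat_of_cm_local A).height_add_dim p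
    rw [← IsLocalization.AtPrime.ringKrullDim_eq_height p R, ← IsRegularLocalRing.spanFinrank_maximalIdeal (R := R),
      DimTrdeg.ringKrullDim_eq_of_isIntegral (MvPowerSeries (Fin s) k) (A ⧸ p) hinj, ringKrullDim_powerSeries,
      ringKrullDim_powerSeries] at h1
    exact_mod_cast h1
  obtain ⟨xs, hlen, hspan, c, hc, hI⟩ := DepthLib.exists_regular_system_of_regular_quotient h R _ rfl hreg
  let x : Fin h → R := fun l => xs[l.1]'(hlen.symm ▸ l.2)
  have hrange : ∀ c' ≤ h, Ideal.ofList (xs.take c') = Ideal.span (x '' {l | l.1 < c'}) := fun c' hc' => by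
    refine congrArg Ideal.span (Set.ext fun z => ?_)
    rw [Set.mem_ofPred_eq, List.mem_take_iff_getElem]
    constructor
    · rintro ⟨i, hi, rfl⟩
      exact ⟨⟨i, by omega⟩, show i < c' by omega, rfl⟩
    · rintro ⟨l, hl, rfl⟩
      exact ⟨l.1, by have : l.1 < c' := hl; omega, rfl⟩
  have hg : ∀ l : Fin h, ∃ g : A, g ∈ p ∧ (l.1 < c → g ∈ q) ∧
      ∃ v : R, IsUnit v ∧ algebraMap A R g = x l * v := by
    intro l
    by_cases hl : l.1 < c
    · have hx : x l ∈ q.map (algebraMap A R) := by
        rw [hI, hrange c hc]; exact Ideal.subset_span ⟨l, hl, rfl⟩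
      obtain ⟨⟨⟨a, ha⟩, t⟩, h'⟩ := (IsLocalization.mem_map_algebraMap_iff p.primeCompl R).mp hx
      exact ⟨a, hqp ha, fun _ => ha, _, IsLocalization.map_units R t, h'.symm⟩
    · have hx : x l ∈ p.map (algebraMap A R) := by
        rw [IsLocalization.AtPrime.map_eq_maximalIdeal p R, ← hspan, ← List.take_length (l := xs), hlen,
          hrange h le_rfl]
        exact Ideal.subset_span ⟨l, l.2, rfl⟩
      obtain ⟨⟨⟨a, ha⟩, t⟩, h'⟩ := (IsLocalization.mem_map_algebraMap_iff p.primeCompl R).mp hx
      exact ⟨a, ha, fun h'' => absurd h'' hl, _, IsLocalization.map_units R t, h'.symm⟩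
  choose g hgp hgq v hv hgx using hg
  have hspans : ∀ c' ≤ h, Ideal.ofList (xs.take c') =
      Ideal.span ((fun l => algebraMap A R (g l)) '' {l | l.1 < c'}) := fun c' hc' => by
    rw [hrange c' hc']
    refine le_antisymm (Ideal.span_le.mpr ?_) (Ideal.span_le.mpr ?_) <;> rintro _ ⟨l, hl, rfl⟩
    · rw [SetLike.mem_coe, ← Ideal.mul_unit_mem_iff_mem _ (hv l), ← hgx]
      exact Ideal.subset_span ⟨l, hl, rfl⟩
    · change algebraMap A R (g l) ∈ _
      rw [hgx]
      exact Ideal.mul_mem_right _ _ (Ideal.subset_span ⟨l, hl, rfl⟩)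
  let W := Submodule.span L (Set.range fun l => (jac (g l) : Fin r → L))
  have hW : Submodule.span L ((jac : _ → Fin r → L) '' (p : Set A)) ≤ W := by
    refine Submodule.span_le.mpr ?_
    rintro _ ⟨f, hf, rfl⟩
    have hf' : algebraMap A R f ∈ (Ideal.span (Set.range g)).map (algebraMap A R) := by
      rw [Ideal.map_span, ← Set.range_comp]
      have := Ideal.mem_map_of_mem (algebraMap A R) hf
      rw [IsLocalization.AtPrime.map_eq_maximalIdeal p R, ← hspan, ← List.take_length (l := xs), hlen,
        hspans h le_rfl] at this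
      refine Ideal.span_mono ?_ this
      rintro _ ⟨l, -, rfl⟩
      exact ⟨l, rfl⟩
    obtain ⟨⟨⟨a, ha⟩, ⟨w, hw⟩⟩, haw⟩ := (IsLocalization.mem_map_algebraMap_iff p.primeCompl R).mp hf'
    rw [← map_mul] at haw
    obtain ⟨⟨t, ht⟩, hta⟩ := IsLocalization.exists_of_eq (M := p.primeCompl) haw
    have hI' : t * w * f ∈ Ideal.span (Set.range g) := by
      have : t * (f * w) ∈ Ideal.span (Set.range g) := hta ▸ Ideal.mul_mem_left _ t ha
      convert this using 1; ring
    have hW' : ∀ y ∈ Ideal.span (Set.range g), y ∈ p ∧ (jac y : Fin r → L) ∈ W := fun y hy => by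
      induction hy using Submodule.span_induction with
      | mem y hy => obtain ⟨l, rfl⟩ := hy; exact ⟨hgp l, Submodule.subset_span ⟨l, rfl⟩⟩
      | zero => exact ⟨p.zero_mem, by rw [jac_zero]; exact zero_mem _⟩
      | add a b _ _ ha hb => exact ⟨add_mem ha.1 hb.1, by rw [jac_add]; exact add_mem ha.2 hb.2⟩
      | smul e y _ hy =>
        refine ⟨p.mul_mem_left e hy.1, ?_⟩
        rw [smul_eq_mul, jac_mul, (algebraMap_eq_zero_iff p).mpr hy.1, zero_smul, add_zero]
        exact W.smul_mem _ hy.2
    have h1 := (hW' _ hI').2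
    rw [jac_mul, (algebraMap_eq_zero_iff p).mpr hf, zero_smul, add_zero] at h1
    refine (W.smul_mem_iff ?_).mp h1
    exact fun h0 => ((inferInstance : p.IsPrime).mem_or_mem ((algebraMap_eq_zero_iff p).mp h0)).elim ht hw
  have hli : LinearIndependent L fun l => (jac (g l) : Fin r → L) := by
    rw [linearIndependent_iff_card_le_finrank_span, Fintype.card_fin]
    have h1 := le_finrank_span_jac (L := L) p s (L' := L')
    have h2 := Submodule.finrank_mono hW
    unfold Set.finrank
    change h ≤ Module.finrank L W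
    omega
  let f : Fin c → A := fun l => g (Fin.castLE hc l)
  have hlc : LinearIndependent L fun l => (jac (f l) : Fin r → L) := hli.comp _ (Fin.castLE_injective hc)
  obtain ⟨ψ, hψ⟩ := (Fintype.linearCombination L fun l => (jac (f l) : Fin r → L)).exists_leftInverse_of_injective
    (LinearMap.ker_eq_bot.mpr (by
      exact hlc.fintypeLinearCombination_injective))
  have hψf : ∀ j, ψ (jac (f j)) = Pi.single j 1 := fun j => by
    have := LinearMap.congr_fun hψ (Pi.single j 1)
    simpa [Fintype.linearCombination_apply_single] using this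
  obtain ⟨⟨b, hb⟩, hbi⟩ := IsLocalization.exist_integer_multiples (nonZeroDivisors (A ⧸ p))
    (Finset.univ : Finset (Fin c × Fin r)) (fun il => ψ (Pi.single il.2 1) il.1)
  choose a ha using fun il => hbi il (Finset.mem_univ il)
  choose at' hat using fun il => Ideal.Quotient.mk_surjective (I := p) (a il)
  let D : Fin c → Derivation k A A := fun i => ∑ l, at' (i, l) • pderiv k l
  have hM : (algebraMap A L).mapMatrix (Matrix.of fun i j => D i (f j)) =
      algebraMap (A ⧸ p) L b • (1 : Matrix (Fin c) (Fin c) L) := by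
    ext i j
    have h1 : algebraMap A L (D i (f j)) = algebraMap (A ⧸ p) L b * ψ (jac (f j)) i := by
      conv_rhs => rw [pi_eq_sum_univ' (jac (f j) : Fin r → L), map_sum, Finset.sum_apply, Finset.mul_sum]
      simp only [D, derivation_sum_apply, Derivation.smul_apply, smul_eq_mul, map_sum, map_mul]
      refine Finset.sum_congr rfl fun l _ => ?_
      rw [IsScalarTower.algebraMap_apply A (A ⧸ p) L (at' (i, l)), Ideal.Quotient.algebraMap_eq, hat, ha,
        Algebra.smul_def, map_smul, Pi.smul_apply, smul_eq_mul]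
      change _ = _ * (algebraMap A L (pderiv k l (f j)) * _)
      ring
    rw [RingHom.mapMatrix_apply, Matrix.map_apply, Matrix.of_apply, h1, hψf, Matrix.smul_apply, smul_eq_mul,
      Matrix.one_apply]
    simp [Pi.single_apply]
  refine ⟨c, D, f, fun i => hgq _ i.2, ?_, fun hdet => ?_⟩
  · rw [hI, hspans c hc]
    refine congrArg Ideal.span (Set.ext fun z => ⟨?_, ?_⟩)
    · rintro ⟨l, hl, rfl⟩
      exact ⟨⟨l.1, hl⟩, rfl⟩
    · rintro ⟨l, rfl⟩
      exact ⟨Fin.castLE hc l, l.2, rfl⟩
  · have h0 := (algebraMap_eq_zero_iff (L := L) p).mpr hdet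
    rw [RingHom.map_det, hM, Matrix.det_smul, Matrix.det_one, mul_one] at h0
    exact IsFractionRing.to_map_ne_zero_of_mem_nonZeroDivisors hb (eq_zero_of_pow_eq_zero h0)

end criterion

end Groth.Agent.ComplDeriv
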