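import Groth.Agent.ComplDeriv.Unram
import Groth.Agent.DepthLib.RegularLocal
import Groth.Agent.DepthLib.RegularNormal
import Groth.Agent.PP16Lib.RegularCompletion
import Groth.Agent.RegularSerre.Localization
import Mathlib.RingTheory.Unramified.LocalRing
import Mathlib.RingTheory.IntegralClosure.GoingDown
import Mathlib.RingTheory.TensorProduct.Free

/-!
# Regularity of unramified covers of regular normal rings, and power series after finite field extensions
-/

universe u

open IsLocalRing TensorProduct

namespace Groth.Agent.ComplDeriv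

/-- Going down: the height does not drop under a finite map, injective modulo a prime below. -/
theorem height_under_le {P A : Type u} [CommRing P] [IsDomain P] [IsNoetherianRing P]
    [IsIntegrallyClosed P] [CommRing A] [Algebra P A] [Module.Finite P A]
    (q Q : Ideal A) [q.IsPrime] [Q.IsPrime] (hqQ : q ≤ Q) (hinj : q.comap (algebraMap P A) = ⊥) :
    (Q.under P).height ≤ Q.height := by
  have : IsNoetherianRing A := IsNoetherianRing.of_finite P A
  let Q₀ := Q.under P
  -- going down in `A ⧸ q`
  have hker : RingHom.ker (algebraMap P (A ⧸ q)) = ⊥ := by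
    rw [IsScalarTower.algebraMap_eq P A (A ⧸ q), ← RingHom.comap_ker, Ideal.Quotient.algebraMap_eq, Ideal.mk_ker, hinj]
  have : FaithfulSMul P (A ⧸ q) :=
    (faithfulSMul_iff_algebraMap_injective P _).mpr ((RingHom.injective_iff_ker_eq_bot _).mpr hker)
  have : Module.Finite P (A ⧸ q) := Module.Finite.of_surjective (Ideal.Quotient.mkₐ P q).toLinearMap
    Ideal.Quotient.mk_surjective
  let Qb := Q.map (Ideal.Quotient.mk q)
  have hQb : Qb.comap (Ideal.Quotient.mk q) = Q :=
    (Ideal.comap_map_of_surjective _ Ideal.Quotient.mk_surjective Q).trans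
      (sup_eq_left.mpr (by rwa [← RingHom.ker_eq_comap_bot, Ideal.mk_ker]))
  have : Qb.IsPrime :=
    Ideal.map_isPrime_of_surjective Ideal.Quotient.mk_surjective (by rwa [Ideal.mk_ker])
  have : Qb.LiesOver Q₀ := ⟨by
    change Q.comap (algebraMap P A) = Qb.comap ((Ideal.Quotient.mk q).comp (algebraMap P A))
    rw [← Ideal.comap_comap, hQb]⟩
  refine le_trans (le_of_le_of_eq le_self_add (Ideal.height_eq_height_add_of_liesOver_of_hasGoingDown Q₀ Qb).symm) ?_
  let φ := PrimeSpectrum.comap (Ideal.Quotient.mk q)
  rw [(⟨Qb, ‹_›⟩ : PrimeSpectrum (A ⧸ q)).height_eq_orderHeight, (⟨Q, ‹_›⟩ : PrimeSpectrum A).height_eq_orderHeight]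
  refine (Order.height_le_height_apply_of_strictMono φ
    (RingHom.strictMono_comap_of_surjective Ideal.Quotient.mk_surjective) _).trans (le_of_eq ?_)
  exact congrArg Order.height (PrimeSpectrum.ext hQb)

/-- An algebra finite over a regular normal domain, unramified at a prime containing a prime over zero,
is regular there. -/
theorem isRegularLocalRing_atPrime_of_unramified {P A : Type u} [CommRing P] [IsDomain P]
    [IsRegularRing P] [IsIntegrallyClosed P] [CommRing A] [Algebra P A] [Module.Finite P A]
    (q Q : Ideal A) [q.IsPrime] [Q.IsPrime] (hqQ : q ≤ Q) (hinj : q.comap (algebraMap P A) = ⊥)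
    [Algebra.IsUnramifiedAt P Q] : IsRegularLocalRing (Localization.AtPrime Q) := by
  have : IsNoetherianRing A := IsNoetherianRing.of_finite P A
  let Q₀ := Q.under P
  let Ps := Localization.AtPrime Q₀
  have : IsRegularLocalRing Ps := IsRegularRing.isRegularLocalRing_localization Q₀
  refine IsRegularLocalRing.of_spanFinrank_maximalIdeal_le _ ?_
  let _ := Localization.AtPrime.algebraOfLiesOver Q₀ Q
  have hmap : Q₀.map (algebraMap P (Localization.AtPrime Q)) = maximalIdeal _ :=
    ((Algebra.isUnramifiedAt_iff_map_eq P Q₀ Q).mp ‹_›).2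
  have h1 : (maximalIdeal (Localization.AtPrime Q)).spanFinrank ≤ (maximalIdeal Ps).spanFinrank := by
    rw [← hmap, IsScalarTower.algebraMap_eq P Ps (Localization.AtPrime Q), ← Ideal.map_map,
      Localization.AtPrime.map_eq_maximalIdeal]
    exact Ideal.spanFinrank_map_le_of_fg _ (IsNoetherian.noetherian _)
  refine le_trans (Nat.cast_le.mpr h1) ?_
  rw [IsRegularLocalRing.spanFinrank_maximalIdeal, IsLocalization.AtPrime.ringKrullDim_eq_height Q₀ Ps,
    IsLocalization.AtPrime.ringKrullDim_eq_height Q (Localization.AtPrime Q), WithBot.coe_le_coe]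
  exact height_under_le q Q hqQ hinj

/-- In a domain the extension of a minimal prime below `Q` to the local ring at `Q` is zero. -/
theorem map_minimalPrime_eq_bot {A : Type u} [CommRing A] {q Q : Ideal A} [Q.IsPrime] (hq : q ∈ minimalPrimes A)
    (hqQ : q ≤ Q) [IsDomain (Localization.AtPrime Q)] : q.map (algebraMap A (Localization.AtPrime Q)) = ⊥ := by
  have := hq.isPrime
  have h0 : (⊥ : Ideal (Localization.AtPrime Q)).comap (algebraMap A _) ≤ q := by
    intro x hx
    obtain ⟨⟨t, ht⟩, htx⟩ := (IsLocalization.map_eq_zero_iff Q.primeCompl _ x).mp (Ideal.mem_bot.mp hx)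
    exact (‹q.IsPrime›.mem_or_mem (show t * x ∈ q by rw [htx]; exact zero_mem _)).resolve_left fun h => ht (hqQ h)
  have h1 : (⊥ : Ideal (Localization.AtPrime Q)).comap (algebraMap A _) = q :=
    le_antisymm h0 (hq.2 ⟨inferInstance, bot_le⟩ h0)
  rw [← h1, IsLocalization.map_under Q.primeCompl]

variable (k : Type u) [Field k] (k' : Type u) [Field k'] [Algebra k k'] (n : ℕ)

/-- The comparison `k' ⊗ k[[T]] → k'[[T]]`. -/
noncomputable def baseChangePS : k' ⊗[k] MvPowerSeries (Fin n) k →ₐ[k] MvPowerSeries (Fin n) k' :=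
  Algebra.TensorProduct.productMap (IsScalarTower.toAlgHom k k' (MvPowerSeries (Fin n) k'))
    (MvPowerSeries.mapAlgHom (Algebra.ofId k k'))

theorem baseChangePS_coeff (c : k') (g : MvPowerSeries (Fin n) k) (e : Fin n →₀ ℕ) :
    MvPowerSeries.coeff e (baseChangePS k k' n (c ⊗ₜ g)) = c * algebraMap k k' (MvPowerSeries.coeff e g) := by
  rw [baseChangePS, Algebra.TensorProduct.productMap_apply_tmul]
  change MvPowerSeries.coeff e (MvPowerSeries.C c * MvPowerSeries.map (algebraMap k k') g) = _
  rw [MvPowerSeries.coeff_C_mul, MvPowerSeries.coeff_map]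

theorem bijective_baseChangePS [Module.Finite k k'] : Function.Bijective (baseChangePS k k' n) := by
  classical
  let b := Module.finBasis k k'
  let E := TensorProduct.equivFinsuppOfBasisLeft (N := MvPowerSeries (Fin n) k) b
  have key : ∀ (z : k' ⊗[k] MvPowerSeries (Fin n) k) e,
      MvPowerSeries.coeff e (baseChangePS k k' n z) = ∑ i, MvPowerSeries.coeff e (E z i) • b i := by
    intro z e
    induction z with
    | zero => simp
    | add x y hx hy => simp only [map_add, hx, hy, Finsupp.add_apply, add_smul, Finset.sum_add_distrib]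
    | tmul c g =>
      simp only [E, TensorProduct.equivFinsuppOfBasisLeft_apply_tmul_apply, baseChangePS_coeff, map_smul, smul_eq_mul]
      conv_lhs => rw [← b.sum_repr c, Finset.sum_mul]
      exact Finset.sum_congr rfl fun i _ => by rw [Algebra.smul_def, Algebra.smul_def, map_mul]; ring
  constructor
  · intro x y hxy
    refine E.injective (Finsupp.ext fun i => MvPowerSeries.ext fun e => ?_)
    have h := congrArg (fun g => b.repr (MvPowerSeries.coeff e g) i) hxy
    simp only [key, Module.Basis.repr_sum_self] at h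
    exact h
  · intro g
    refine ⟨E.symm (Finsupp.equivFunOnFinite.symm fun i =>
      (fun e => b.repr (MvPowerSeries.coeff e g) i : MvPowerSeries (Fin n) k)), MvPowerSeries.ext fun e => ?_⟩
    rw [key, LinearEquiv.apply_symm_apply]
    exact (b.sum_repr _)

theorem regular_normal_domain_baseChangePS [Module.Finite k k'] :
    IsDomain (k' ⊗[k] MvPowerSeries (Fin n) k) ∧ IsRegularRing (k' ⊗[k] MvPowerSeries (Fin n) k) ∧
      IsIntegrallyClosed (k' ⊗[k] MvPowerSeries (Fin n) k) ∧ IsNoetherianRing (k' ⊗[k] MvPowerSeries (Fin n) k) := by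
  let e := (RingEquiv.ofBijective (baseChangePS k k' n).toRingHom (bijective_baseChangePS k k' n)).symm
  have hreg := PP16Lib.isRegularLocalRing_mvPowerSeries n k'
  have : IsDomain (MvPowerSeries (Fin n) k') := NoZeroDivisors.to_isDomain _
  have : IsRegularRing (MvPowerSeries (Fin n) k') := RegularSerre.isRegularRing_of_isRegularLocalRing _
  exact ⟨e.symm.toMulEquiv.isDomain, IsRegularRing.of_ringEquiv e,
    @IsIntegrallyClosed.of_equiv _ _ _ _ e (DepthLib.isIntegrallyClosed_of_isRegularLocalRing _),
    isNoetherianRing_of_ringEquiv _ e⟩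

end Groth.Agent.ComplDeriv
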