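import Groth.Agent.ComplDeriv.GeomRegRank
import Groth.Agent.PP16Lib.AdicOmega
import Groth.Agent.AdicLim.Noetherian
import Mathlib.RingTheory.AdicCompletion.Completeness
import Mathlib.LinearAlgebra.TensorProduct.Quotient

/-!
# Completed differentials of formally smooth complete local algebras
-/

universe u

open IsLocalRing TensorProduct

namespace Groth.Agent.ComplDeriv

open KaehlerDifferential (mapBaseChange kerCotangentToTensor)

section

variable (k S : Type u) [Field k] [CommRing S] [IsLocalRing S] [IsNoetherianRing S] [Algebra k S]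

/-- The cotangent space inside `K ⊗ Ω_{S/k}`, injectively when the residue field is formally smooth. -/
theorem finrank_residue_kaehler_of_formallySmooth [Algebra.FormallySmooth k (ResidueField S)]
    [Module.Finite (ResidueField S) Ω[ResidueField S⁄k]] :
    Module.finrank (ResidueField S) (ResidueField S ⊗[S] Ω[S⁄k]) =
      Module.finrank (ResidueField S) (CotangentSpace S) + Module.finrank (ResidueField S) Ω[ResidueField S⁄k] := by
  have hf : Function.Surjective (algebraMap S (ResidueField S)) := residue_surjective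
  let f := IsScalarTower.toAlgHom k S (ResidueField S)
  have hinjk : Function.Injective (kerCotangentToTensor k S (ResidueField S)) := by
    have hq : Function.Surjective f.kerSquareLift := fun y => by
      obtain ⟨x, rfl⟩ := hf y
      exact ⟨Ideal.Quotient.mk _ x, rfl⟩
    have hnil : IsNilpotent (RingHom.ker (f.kerSquareLift : (S ⧸ RingHom.ker f.toRingHom ^ 2) →+* ResidueField S)) := by
      refine ⟨2, ?_⟩
      rw [Ideal.zero_eq_bot]
      have := AlgHom.ker_kerSquareLift f
      rw [← Ideal.cotangentIdeal_square (RingHom.ker f.toRingHom), ← this]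
      rfl
    let g := Algebra.FormallySmooth.liftOfSurjective (AlgHom.id k (ResidueField S)) f.kerSquareLift hq hnil
    have hg : f.kerSquareLift.comp g = AlgHom.id k (ResidueField S) := AlgHom.ext fun y =>
      Algebra.FormallySmooth.liftOfSurjective_apply (AlgHom.id k (ResidueField S)) f.kerSquareLift hq hnil y
    obtain ⟨l, hl⟩ := (retractionKerCotangentToTensorEquivSection (R := k) (P := S) (S := ResidueField S) hf).symm ⟨g, hg⟩
    exact Function.LeftInverse.injective (g := l) fun x => LinearMap.congr_fun hl x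
  obtain ⟨g, hg, hrange⟩ : ∃ g : CotangentSpace S →ₗ[S] ResidueField S ⊗[S] Ω[S⁄k], Function.Injective g ∧
      LinearMap.range g = (LinearMap.ker (mapBaseChange k S (ResidueField S))).restrictScalars S := by
    have key : ∀ (I : Ideal S), I = RingHom.ker (algebraMap S (ResidueField S)) →
        ∃ g : I.Cotangent →ₗ[S] ResidueField S ⊗[S] Ω[S⁄k], Function.Injective g ∧
          LinearMap.range g = (LinearMap.ker (mapBaseChange k S (ResidueField S))).restrictScalars S := by
      rintro I rfl
      exact ⟨_, hinjk, KaehlerDifferential.range_kerCotangentToTensor k S _ hf⟩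
    exact key _ (ker_residue (R := S)).symm
  let g' : CotangentSpace S →ₗ[ResidueField S] ResidueField S ⊗[S] Ω[S⁄k] :=
    { toFun := g
      map_add' := map_add g
      map_smul' := fun c x => by
        obtain ⟨c, rfl⟩ := residue_surjective c
        rw [RingHom.id_apply, ← ResidueField.algebraMap_eq, algebraMap_smul, algebraMap_smul, map_smul] }
  have hker : LinearMap.ker (mapBaseChange k S (ResidueField S)) = LinearMap.range g' := by
    ext z
    rw [← Submodule.restrictScalars_mem S, ← hrange]
    rfl
  have hπ : Function.Surjective (mapBaseChange k S (ResidueField S)) :=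
    KaehlerDifferential.mapBaseChange_surjective k S _ hf
  have : Module.Finite (ResidueField S) (ResidueField S ⊗[S] Ω[S⁄k]) := by
    refine ⟨Submodule.fg_of_fg_map_of_fg_inf_ker (mapBaseChange k S (ResidueField S)) (IsNoetherian.noetherian _) ?_⟩
    rw [top_inf_eq, hker, LinearMap.range_eq_map]
    exact Module.Finite.fg_top.map _
  have r := (mapBaseChange k S (ResidueField S)).finrank_range_add_finrank_ker
  rw [LinearMap.range_eq_top.mpr hπ, finrank_top, hker, LinearMap.finrank_range_of_inj (f := g') hg] at r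
  omega

/-- `K ⊗ Ω_{S/k}` in characteristic `p`, when `K ⊗ Ω_k → K ⊗ Ω_S` is injective. -/
theorem finrank_residue_kaehler_index (p : ℕ) [Fact p.Prime] [CharP S p] (hinj : KInj k S) (e : ℤ)
    (hidx : EGA41Lib.FieldIdx k (ResidueField S) e)
    [Module.Finite (ResidueField S) (ResidueField S ⊗[S] Ω[S⁄k])] :
    (Module.finrank (ResidueField S) (ResidueField S ⊗[S] Ω[S⁄k]) : ℤ) =
      Module.finrank (ResidueField S) (CotangentSpace S) + e := by
  let K := ResidueField S
  let u : K ⊗[S] (S ⊗[k] Ω[k⁄ℤ]) →ₗ[K] K ⊗[S] Ω[S⁄ℤ] := (mapBaseChange ℤ k S).baseChange K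
  let w : K ⊗[S] Ω[S⁄ℤ] →ₗ[K] K ⊗[S] Ω[S⁄k] := (KaehlerDifferential.map ℤ k S S).baseChange K
  let π : K ⊗[S] Ω[S⁄ℤ] →ₗ[K] Ω[K⁄ℤ] := mapBaseChange ℤ S K
  have hu : Function.Injective u := hinj
  have hw : Function.Surjective w := LinearMap.lTensor_surjective K (KaehlerDifferential.map_surjective ℤ k S)
  have hex : Function.Exact u w := lTensor_exact K (KaehlerDifferential.exact_mapBaseChange_map ℤ k S)
    (KaehlerDifferential.map_surjective ℤ k S)
  let ew := (Submodule.quotEquivOfEq _ _ (LinearMap.exact_iff.mp hex).symm).trans (LinearMap.quotKerEquivOfSurjective w hw)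
  have hu' : EGA41Lib.HasIndex u (Module.finrank K (K ⊗[S] Ω[S⁄k])) := by
    refine ⟨?_, Module.Finite.equiv ew.symm, ?_⟩
    · rw [LinearMap.ker_eq_bot.mpr hu]; infer_instance
    · rw [ew.finrank_eq, LinearMap.ker_eq_bot.mpr hu, finrank_bot]; simp
  obtain ⟨hπfin, hπdim⟩ := EGA41Lib.finrank_cotangentSpace_eq p S
  have hπ : Function.Surjective π := KaehlerDifferential.mapBaseChange_surjective ℤ S K residue_surjective
  have hπ' : EGA41Lib.HasIndex π (-(Module.finrank K (CotangentSpace S) : ℤ)) := by
    have hs : Subsingleton (Ω[K⁄ℤ] ⧸ LinearMap.range π) := Submodule.Quotient.subsingleton_iff.mpr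
      (LinearMap.range_eq_top.mpr hπ)
    refine ⟨hπfin, inferInstance, ?_⟩
    rw [Module.finrank_zero_of_subsingleton]
    rw [show Module.finrank K (LinearMap.ker π) = Module.finrank K (CotangentSpace S) from hπdim]
    simp
  let e₁ : K ⊗[S] (S ⊗[k] Ω[k⁄ℤ]) ≃ₗ[K] K ⊗[k] Ω[k⁄ℤ] := AlgebraTensorModule.cancelBaseChange k S K K Ω[k⁄ℤ]
  have hcomp : π ∘ₗ u = (mapBaseChange ℤ k K) ∘ₗ e₁.toLinearMap := by
    refine TensorProduct.AlgebraTensorModule.curry_injective (LinearMap.ext_ring ?_)
    refine TensorProduct.AlgebraTensorModule.curry_injective (LinearMap.ext_ring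
      (LinearMap.ext_on (KaehlerDifferential.span_range_derivation ℤ k) ?_))
    rintro _ ⟨c, rfl⟩
    simp [u, π, e₁, ← IsScalarTower.algebraMap_apply]
  have h1 := hu'.comp hπ'
  rw [hcomp] at h1
  obtain ⟨-, -, h1e⟩ := h1
  obtain ⟨-, -, he⟩ := ((EGA41Lib.fieldIdx_iff k K e).mp hidx).comp_linearEquiv e₁
  have heq := h1e.symm.trans he
  change (Module.finrank K (K ⊗[S] Ω[S⁄k]) : ℤ) = Module.finrank K (CotangentSpace S) + e
  linarith

end

variable (k A : Type u) [Field k] [CommRing A] [IsLocalRing A] [IsNoetherianRing A] [Algebra k A]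
  [IsAdicComplete (maximalIdeal A) A]

/-- Formally smooth: `Ω̂` is free on lifts of a basis of `Ω ⊗ K`. -/
theorem free_of_adicSmooth (hfs : CAlgX.IsAdicFormallySmooth k A (maximalIdeal A))
    [Module.Finite (ResidueField A) (ResidueField A ⊗[A] Ω[A⁄k])] :
    Module.Finite A (Om k A) ∧ Module.Free A (Om k A) ∧
      Module.finrank A (Om k A) = Module.finrank (ResidueField A) (ResidueField A ⊗[A] Ω[A⁄k]) := by
  classical
  let m := maximalIdeal A
  let K := ResidueField A
  let Ω := Ω[A⁄k]
  let b := Module.finBasis K (K ⊗[A] Ω)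
  have hsurj1 : Function.Surjective fun z : Ω => (1 : K) ⊗ₜ[A] z := TensorProduct.mk_surjective A Ω K residue_surjective
  choose ω hω using fun i => hsurj1 (b i)
  let n := Module.finrank K (K ⊗[A] Ω)
  let f : (Fin n → A) →ₗ[A] Ω := Fintype.linearCombination A ω
  have hf1 : ∀ c, (1 : K) ⊗ₜ[A] f c = ∑ i, residue A (c i) • b i := fun c => by
    rw [Fintype.linearCombination_apply, tmul_sum]
    refine Finset.sum_congr rfl fun i _ => ?_
    rw [tmul_smul, ← hω i, ← algebraMap_smul K (c i)]
    rfl
  have hsup : LinearMap.range f ⊔ m • (⊤ : Submodule A Ω) = ⊤ := by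
    refine eq_top_iff.mpr fun z _ => ?_
    choose a ha using fun i => residue_surjective (R := A) (b.repr ((1 : K) ⊗ₜ[A] z) i)
    have h0 : ((1 : A ⧸ m) ⊗ₜ[A] (z - f a)) = 0 := by
      change ((1 : K) ⊗ₜ[A] (z - f a)) = 0
      rw [tmul_sub, hf1, sub_eq_zero]
      simp only [ha]
      exact (b.sum_repr _).symm
    have h5 := congrArg (TensorProduct.quotTensorEquivQuotSMul Ω m) h0
    rw [map_zero, show (1 : A ⧸ m) = Ideal.Quotient.mk _ 1 from rfl,
      TensorProduct.quotTensorEquivQuotSMul_mk_tmul, one_smul, Submodule.Quotient.mk_eq_zero] at h5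
    rw [show z = f a + (z - f a) by abel]
    exact add_mem (Submodule.mem_sup_left ⟨a, rfl⟩) (Submodule.mem_sup_right h5)
  have hmq : Function.Surjective ((m • (⊤ : Submodule A Ω)).mkQ ∘ₗ f) := by
    rw [← LinearMap.range_eq_top, LinearMap.range_comp, Submodule.map_mkQ_eq_top, sup_comm, hsup]
  have hbig := AdicCompletion.map_surjective_of_mkQ_comp_surjective hmq
  have hcn := AdicLim.isAdicComplete_of_finite (I := m) (Fin n → A)
  let g : (Fin n → A) →ₗ[A] Om k A := (AdicCompletion.of m Ω).comp f
  have hg : Function.Surjective g := fun z => by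
    obtain ⟨x, rfl⟩ := hbig z
    obtain ⟨x, rfl⟩ := (AdicCompletion.ofLinearEquiv m (Fin n → A)).surjective x
    refine ⟨x, ?_⟩
    change AdicCompletion.of m Ω (f x) = AdicCompletion.map m f (AdicCompletion.of m _ x)
    rw [AdicCompletion.map_of]
  have hginj : Function.Injective g := by
    refine (injective_iff_map_eq_zero g).mpr fun c hc => funext fun i => ?_
    refine IsHausdorff.haus (I := m) (M := A) inferInstance _ fun j => ?_
    rw [SModEq.zero, smul_eq_mul, Ideal.mul_top]
    revert i
    -- work modulo `m ^ (j + 1)`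
    suffices h : ∀ i, c i ∈ m ^ (j + 1) from fun i => Ideal.pow_le_pow_right (Nat.le_succ j) (h i)
    let J := m ^ (j + 1)
    let Rj := A ⧸ J
    let Mj := Rj ⊗[A] Ω
    have : Module.Projective Rj Mj := PP16Lib.projective_tensor_omega hfs J (k := j + 1) le_rfl
    let φ : (Fin n → Rj) →ₗ[Rj] Mj := Fintype.linearCombination Rj fun i => (1 : Rj) ⊗ₜ[A] ω i
    have hφc : ∀ a : Fin n → A, φ (fun i => Ideal.Quotient.mk J (a i)) = (1 : Rj) ⊗ₜ[A] f a := fun a => by
      rw [Fintype.linearCombination_apply, Fintype.linearCombination_apply, tmul_sum]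
      exact Finset.sum_congr rfl fun i _ => by rw [tmul_smul, ← algebraMap_smul Rj (a i)]; rfl
    have hφ : Function.Surjective φ := by
      rw [← LinearMap.range_eq_top, eq_top_iff]
      intro z _
      have key : ∀ l, LinearMap.range f ⊔ m ^ l • (⊤ : Submodule A Ω) = ⊤ := by
        intro l
        induction l with
        | zero => simp
        | succ l ih =>
          refine eq_top_iff.mpr ?_
          calc (⊤ : Submodule A Ω) = LinearMap.range f ⊔ m ^ l • (LinearMap.range f ⊔ m • ⊤) := by rw [hsup, ih]
            _ ≤ LinearMap.range f ⊔ m ^ (l + 1) • ⊤ := by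
              refine sup_le le_sup_left ?_
              rw [Submodule.smul_sup, ← Submodule.smul_assoc, smul_eq_mul, ← pow_succ]
              exact sup_le (Submodule.smul_le_right.trans le_sup_left) le_sup_right
      induction z using TensorProduct.induction_on with
      | zero => exact zero_mem _
      | add u v hu hv => exact add_mem (hu trivial) (hv trivial)
      | tmul r x =>
        obtain ⟨r, rfl⟩ := Ideal.Quotient.mk_surjective r
        have hrx : r • x ∈ LinearMap.range f ⊔ J • (⊤ : Submodule A Ω) := by rw [key (j + 1)]; trivial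
        obtain ⟨_, ⟨a, rfl⟩, y, hy, hay⟩ := Submodule.mem_sup.mp hrx
        refine ⟨fun i => Ideal.Quotient.mk J (a i), ?_⟩
        rw [hφc, show (Ideal.Quotient.mk J r) ⊗ₜ[A] x = (1 : Rj) ⊗ₜ[A] (r • x) by
          rw [← TensorProduct.smul_tmul, Algebra.smul_def, mul_one]; rfl, ← hay, tmul_add]
        refine (add_eq_left.mpr ?_).symm
        refine (TensorProduct.quotTensorEquivQuotSMul Ω J).injective ?_
        rw [map_zero, show (1 : Rj) = Ideal.Quotient.mk _ 1 from rfl,
          TensorProduct.quotTensorEquivQuotSMul_mk_tmul, one_smul, Submodule.Quotient.mk_eq_zero]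
        exact hy
    obtain ⟨s, hs⟩ := Module.projective_lifting_property φ LinearMap.id hφ
    let e : (Fin n → Rj) →ₗ[Rj] (Fin n → Rj) := LinearMap.id - s ∘ₗ φ
    have hφe : ∀ x, φ (e x) = 0 := fun x => by
      simp only [e, LinearMap.sub_apply, LinearMap.id_apply, LinearMap.comp_apply, map_sub]
      rw [show φ (s (φ x)) = φ x from LinearMap.congr_fun hs (φ x), sub_self]
    have hee : ∀ x, φ x = 0 → e x = x := fun x hx => by simp [e, hx]
    let mj := m.map (Ideal.Quotient.mk J)
    have hφm : ∀ x, φ x = 0 → ∀ i, x i ∈ mj := by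
      intro x hx
      choose a ha using fun i => Ideal.Quotient.mk_surjective (I := J) (x i)
      have hx' : x = fun i => Ideal.Quotient.mk J (a i) := funext fun i => (ha i).symm
      rw [hx', hφc] at hx
      have h1 := congrArg ((Ideal.Quotient.factorₐ A (show J ≤ m from Ideal.pow_le_self (Nat.succ_ne_zero j))).toLinearMap.rTensor Ω) hx
      rw [map_zero, LinearMap.rTensor_tmul] at h1
      change (1 : K) ⊗ₜ[A] f a = 0 at h1
      rw [hf1] at h1
      intro i
      rw [hx']
      exact Ideal.mem_map_of_mem _ ((residue_eq_zero_iff _).mp (Fintype.linearIndependent_iff.mp b.linearIndependent _ h1 i))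
    have he0 : ∀ (l : ℕ) x, φ x = 0 → ∀ i, x i ∈ mj ^ l := by
      intro l
      induction l with
      | zero => intro x _ i; simp
      | succ l ih =>
        intro x hx i
        have hsum : x = ∑ t, x t • e (Pi.single t 1) := by
          conv_lhs => rw [← hee x hx, ← Finset.univ_sum_single x, map_sum]
          refine Finset.sum_congr rfl fun t _ => ?_
          rw [← map_smul, ← Pi.single_smul, smul_eq_mul, mul_one]
        rw [hsum, Finset.sum_apply, pow_succ]
        exact Ideal.sum_mem _ fun t _ => Ideal.mul_mem_mul (ih x hx t) (hφm _ (hφe _) i)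
    have hc0 : φ (fun i => Ideal.Quotient.mk J (c i)) = 0 := by
      rw [hφc]
      have h1 := congrArg (AdicCompletion.eval m Ω (j + 1)) hc
      rw [map_zero] at h1
      refine (TensorProduct.quotTensorEquivQuotSMul Ω J).injective ?_
      rw [map_zero, show (1 : Rj) = Ideal.Quotient.mk _ 1 from rfl,
        TensorProduct.quotTensorEquivQuotSMul_mk_tmul, one_smul]
      exact h1
    intro i
    have := he0 (j + 1) _ hc0 i
    rw [← Ideal.map_pow, Ideal.map_quotient_self, Ideal.mem_bot, Ideal.Quotient.eq_zero_iff_mem] at this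
    exact this
  let E : (Fin n → A) ≃ₗ[A] Om k A := LinearEquiv.ofBijective g ⟨hginj, hg⟩
  exact ⟨Module.Finite.equiv E, Module.Free.of_equiv E, by rw [← E.finrank_eq, Module.finrank_fin_fun]⟩

end Groth.Agent.ComplDeriv
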